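import Cfsg.Prelude.Def_FusionSystem
import Mathlib.Data.Set.Finite.Lattice

/-!
Joins of central / normal subgroups of a fusion system, restriction of maps.
-/

namespace Cfsg.Agent.H89

universe u

variable {Ω : Type u} [Group Ω] {S : Subgroup Ω}

/-- Restriction of a map of the system to a smaller source. -/
theorem restrict_mem (F : Cfsg.FusionSystem S) {P P' : Subgroup Ω} {φ : P →* Ω}
    (hφ : φ ∈ F.Hom P) (h : P' ≤ P) : φ.comp (Subgroup.inclusion h) ∈ F.Hom P' := by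
  have hP : P' ≤ S := h.trans (F.le_of_mem hφ).1
  have h1 : ∀ x : P', Cfsg.conjHom P' 1 x ∈ P := fun x => by
    simpa [Cfsg.conjHom] using h x.2
  have := F.comp_mem (F.conj_mem hP S.one_mem) hφ h1
  convert this using 1
  ext x
  simp only [MonoidHom.comp_apply]
  congr 1
  ext
  simp [Cfsg.conjHom]

theorem map_subgroupOf_comp_inclusion {R R' Q : Subgroup Ω} (h : R' ≤ R) (hQ : Q ≤ R') (ψ : R →* Ω) :
    (Q.subgroupOf R').map (ψ.comp (Subgroup.inclusion h)) = (Q.subgroupOf R).map ψ := by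
  ext y
  constructor
  · rintro ⟨x, hx, rfl⟩
    exact ⟨Subgroup.inclusion h x, hx, rfl⟩
  · rintro ⟨x, hx, rfl⟩
    exact ⟨⟨x.1, hQ hx⟩, hx, rfl⟩

theorem isCentral_bot (F : Cfsg.FusionSystem S) : F.IsCentral ⊥ := by
  refine ⟨bot_le, fun P φ hφ => ⟨_, restrict_mem F hφ (sup_bot_eq P).le, fun x => rfl, fun x => ?_⟩⟩
  have hx : x = 1 := Subsingleton.elim _ _
  subst hx
  simp

theorem isCentral_sup (F : Cfsg.FusionSystem S) {A B : Subgroup Ω} (hA : F.IsCentral A)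
    (hB : F.IsCentral B) : F.IsCentral (A ⊔ B) := by
  refine ⟨sup_le hA.1 hB.1, fun P φ hφ => ?_⟩
  obtain ⟨ψ, hψ, hψP, hψA⟩ := hA.2 P φ hφ
  obtain ⟨χ, hχ, hχP, hχB⟩ := hB.2 (P ⊔ A) ψ hψ
  have hle : P ⊔ (A ⊔ B) ≤ P ⊔ A ⊔ B := (sup_assoc P A B).ge
  refine ⟨_, restrict_mem F hχ hle, fun x => ?_, fun x => ?_⟩
  · exact (hχP (Subgroup.inclusion le_sup_left x)).trans (hψP x)
  · set f : ↥(A ⊔ B) →* Ω := (χ.comp (Subgroup.inclusion hle)).comp
      (Subgroup.inclusion (le_sup_right : A ⊔ B ≤ P ⊔ (A ⊔ B))) with hf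
    have h1 : A ≤ (f.eqLocus (A ⊔ B).subtype).map (A ⊔ B).subtype := fun a ha =>
      ⟨⟨a, Subgroup.mem_sup_left ha⟩,
        (hχP (Subgroup.inclusion le_sup_right ⟨a, ha⟩)).trans (hψA ⟨a, ha⟩), rfl⟩
    have h2 : B ≤ (f.eqLocus (A ⊔ B).subtype).map (A ⊔ B).subtype := fun b hb =>
      ⟨⟨b, Subgroup.mem_sup_right hb⟩, hχB ⟨b, hb⟩, rfl⟩
    obtain ⟨z, hz, hzx⟩ := sup_le h1 h2 x.2
    obtain rfl : z = x := Subtype.ext hzx
    exact hz

theorem isNormal_bot (F : Cfsg.FusionSystem S) : F.IsNormal ⊥ := by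
  refine ⟨bot_le, fun P φ hφ => ⟨_, restrict_mem F hφ (sup_bot_eq P).le, fun x => rfl, ?_⟩⟩
  rw [Subgroup.bot_subgroupOf, Subgroup.map_bot]

theorem isNormal_sup (F : Cfsg.FusionSystem S) {A B : Subgroup Ω} (hA : F.IsNormal A)
    (hB : F.IsNormal B) : F.IsNormal (A ⊔ B) := by
  refine ⟨sup_le hA.1 hB.1, fun P φ hφ => ?_⟩
  obtain ⟨ψ, hψ, hψP, hψA⟩ := hA.2 P φ hφ
  obtain ⟨χ, hχ, hχP, hχB⟩ := hB.2 (P ⊔ A) ψ hψ
  have hle : P ⊔ (A ⊔ B) ≤ P ⊔ A ⊔ B := (sup_assoc P A B).ge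
  refine ⟨_, restrict_mem F hχ hle, fun x => ?_, ?_⟩
  · exact (hχP (Subgroup.inclusion le_sup_left x)).trans (hψP x)
  · rw [map_subgroupOf_comp_inclusion hle le_sup_right,
      Subgroup.subgroupOf_sup (le_sup_right.trans le_sup_left) le_sup_right, Subgroup.map_sup, hχB]
    congr 1
    rw [← map_subgroupOf_comp_inclusion (le_sup_left : P ⊔ A ≤ P ⊔ A ⊔ B) le_sup_right χ,
      show χ.comp (Subgroup.inclusion le_sup_left) = ψ from MonoidHom.ext hχP]
    exact hψA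

theorem subgroups_le_finite (S : Subgroup Ω) [Finite S] : {Q : Subgroup Ω | Q ≤ S}.Finite := by
  apply (Set.finite_range (fun Q : Subgroup S => Q.map S.subtype)).subset
  intro Q hQ
  exact ⟨Q.subgroupOf S, by simpa using Subgroup.map_subgroupOf_eq_of_le hQ⟩

theorem sSup_closed {α : Type*} [CompleteLattice α] (p : α → Prop) (h0 : p ⊥)
    (hs : ∀ a b, p a → p b → p (a ⊔ b)) {s : Set α} (hfin : s.Finite) (h : ∀ a ∈ s, p a) :
    p (sSup s) := by
  induction s, hfin using Set.Finite.induction_on with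
  | empty => simpa using h0
  | @insert a t _ _ ih =>
    rw [sSup_insert]
    exact hs _ _ (h a (Set.mem_insert _ _)) (ih fun b hb => h b (Set.mem_insert_of_mem _ hb))

theorem isCentral_center (F : Cfsg.FusionSystem S) [Finite S] : F.IsCentral F.center :=
  sSup_closed F.IsCentral (isCentral_bot F) (fun _ _ => isCentral_sup F)
    ((subgroups_le_finite S).subset fun _ hQ => hQ.1) fun _ h => h

theorem isNormal_core (F : Cfsg.FusionSystem S) [Finite S] : F.IsNormal F.core :=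
  sSup_closed F.IsNormal (isNormal_bot F) (fun _ _ => isNormal_sup F)
    ((subgroups_le_finite S).subset fun _ hQ => hQ.1) fun _ h => h

theorem le_core (F : Cfsg.FusionSystem S) {Q : Subgroup Ω} (hQ : F.IsNormal Q) : Q ≤ F.core :=
  le_sSup hQ

theorem le_center (F : Cfsg.FusionSystem S) {Q : Subgroup Ω} (hQ : F.IsCentral Q) : Q ≤ F.center :=
  le_sSup hQ

end Cfsg.Agent.H89
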