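import Mathlib.GroupTheory.Sylow
import Mathlib.GroupTheory.QuotientGroup.Basic

/-!
Lifting fusion through a quotient by a normal subgroup.
-/

namespace Cfsg.Agent.H89

open Pointwise

variable {G : Type*} [Group G] [Finite G] {p : ℕ} [Fact p.Prime]

/-- A `p`-subgroup of `S N` (with `N` normal) is carried into `S` by an element of `N`. -/
theorem exists_normal_conj_into (S : Sylow p G) (N : Subgroup G) [hN : N.Normal] (Q : Subgroup G)
    (hQp : IsPGroup p Q) (hQ : Q ≤ (S : Subgroup G) ⊔ N) :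
    ∃ n ∈ N, ∀ x ∈ Q, n * x * n⁻¹ ∈ (S : Subgroup G) := by
  obtain ⟨T, hT⟩ := (hQp.comap_subtype : IsPGroup p (Q.subgroupOf ((S : Subgroup G) ⊔ N))).exists_le_sylow
  obtain ⟨h, hh⟩ := MulAction.exists_smul_eq ↥((S : Subgroup G) ⊔ N) T (S.subtype le_sup_left)
  obtain ⟨s, hs, n, hn, hsn⟩ := Subgroup.mem_sup_of_normal_right.1 h.2
  refine ⟨n, hn, fun x hx => ?_⟩
  have hxT : (⟨x, hQ hx⟩ : ↥((S : Subgroup G) ⊔ N)) ∈ (T : Subgroup ↥((S : Subgroup G) ⊔ N)) := hT hx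
  have h1 : h * ⟨x, hQ hx⟩ * h⁻¹ ∈ ((h • T : Sylow p ↥((S : Subgroup G) ⊔ N)) : Subgroup _) := by
    rw [Sylow.coe_subgroup_smul]
    exact Subgroup.smul_mem_pointwise_smul _ (MulAut.conj h) _ hxT
  rw [hh] at h1
  have h2 : (h : G) * x * (h : G)⁻¹ ∈ (S : Subgroup G) := h1
  rw [← hsn] at h2
  have h3 := S.mul_mem (S.mul_mem (S.inv_mem hs) h2) hs
  simpa [mul_assoc] using h3

end Cfsg.Agent.H89
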