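import Cfsg.Agent.FusionSys.Saturated
import Cfsg.Agent.H89.SylowLift

/-!
Extending maps of a saturated fusion system over strongly closed subgroups: an induction principle
(every map is built from automorphisms of fully normalized subgroups and maps with larger source) and a
Frattini argument inside `Aut_F(Q)`.
-/

set_option autoImplicit false

namespace Cfsg.Agent.H89

open Cfsg Cfsg.FusionSystem Cfsg.Agent.FusionSys
open Pointwise

variable {Ω : Type*} [Group Ω] {S : Subgroup Ω} [Finite S] {p : ℕ} [Fact p.Prime]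
variable {F : FusionSystem S}

omit [Fact p.Prime] in
theorem isPGroup_lt_normalizerIn [Fact p.Prime] (hS : IsPGroup p S) {R : Subgroup Ω} (hR : R < S) :
    R < Cfsg.FusionSystem.normalizerIn S R := by
  have hlt : R.subgroupOf S < ⊤ :=
    lt_top_iff_ne_top.2 fun h => hR.not_ge (Subgroup.subgroupOf_eq_top.1 h)
  haveI : Group.IsNilpotent S := hS.isNilpotent
  have hN := normalizerCondition_of_isNilpotent _ hlt
  refine lt_of_le_of_ne (le_inf hR.le Subgroup.le_normalizer) fun heq => hN.ne ?_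
  refine le_antisymm Subgroup.le_normalizer fun x hx => ?_
  show (x : Ω) ∈ R
  rw [heq]
  refine ⟨x.2, ?_⟩
  haveI : Finite R := finite_of_le hR.le
  exact mem_normalizer_of_maps fun y hy => (Subgroup.mem_normalizer_iff.1 hx ⟨y, hR.le hy⟩).1 hy

theorem card_lt_card_of_lt {A B : Subgroup Ω} [Finite B] (h : A < B) : Nat.card A < Nat.card B :=
  lt_of_not_ge fun hge => h.ne (Subgroup.eq_of_le_of_card_ge h.le hge)

/-- Induction over the maps of a saturated system. -/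
theorem map_induction (hS : IsPGroup p S) (hF : F.IsSaturated p)
    {Φ : Subgroup Ω → (Ω → Ω) → Prop}
    (hcongr : ∀ P f g, IsMap F P f → (∀ x ∈ P, g x = f x) → Φ P f → Φ P g)
    (hmono : ∀ R P f, IsMap F R f → P ≤ R → Φ R f → Φ P f)
    (hcomp : ∀ P Q f g, IsMap F P f → IsMap F Q g → (∀ x ∈ P, f x ∈ Q) → Φ P f → Φ Q g → Φ P (g ∘ f))
    (haut : ∀ Q, F.IsFullyNormalized Q →
      (∀ R g, IsMap F R g → Nat.card Q < Nat.card R → Φ R g) → ∀ f, IsIso F Q Q f → Φ Q f)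
    {P : Subgroup Ω} {f : Ω → Ω} (hf : IsMap F P f) : Φ P f := by
  suffices H : ∀ n, ∀ P f, IsMap F P f → Nat.card S - Nat.card P ≤ n → Φ P f from
    H _ P f hf le_rfl
  intro n
  induction n using Nat.strong_induction_on with
  | _ n ih =>
  intro P f hf hn
  have hPS := hf.le
  have hIH : ∀ R g, IsMap F R g → Nat.card P < Nat.card R → Φ R g := by
    intro R g hg hlt
    have hle : Nat.card R ≤ Nat.card S :=
      Nat.card_le_card_of_injective _ (Subgroup.inclusion_injective hg.le)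
    exact ih (Nat.card S - Nat.card R) (by omega) R g hg le_rfl
  rcases hPS.eq_or_lt with heq | hlt
  · subst heq
    refine haut P ⟨le_rfl, fun Q _ => ?_⟩ hIH f
      ⟨hf, hf.image_eq_of_mapsTo fun x hx => hf.mem_S hx⟩
    haveI : Finite (Cfsg.FusionSystem.normalizerIn P P) := finite_of_le normalizerIn_le
    exact Nat.card_le_card_of_injective _ (Subgroup.inclusion_injective
      (show Cfsg.FusionSystem.normalizerIn P Q ≤ Cfsg.FusionSystem.normalizerIn P P from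
        fun x hx => ⟨hx.1, Subgroup.le_normalizer hx.1⟩))
  · obtain ⟨Q, hPQ, hQ⟩ := exists_isFullyNormalized F hPS
    set P' := imgSub f P with hP'
    have hPP' : F.IsConj P P' := hf.isIso.isConj
    obtain ⟨u, hu, hui, -⟩ := exists_map_to_fullyNormalized hS hF hQ hPQ
    obtain ⟨v, hv, hvi, -⟩ :=
      exists_map_to_fullyNormalized hS hF hQ (isConj_trans (isConj_symm hPP') hPQ)
    obtain ⟨v', hv', hvv'⟩ := hv.exists_inv
    have hP'S : P' ≤ S := hf.imgSub_le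
    have hlt' : P' < S := by
      refine lt_of_le_of_ne hP'S fun he => ?_
      have hcard := card_eq_of_isConj hPP'
      rw [he] at hcard
      exact absurd hcard (card_lt_card_of_lt hlt).ne
    haveI : Finite (Cfsg.FusionSystem.normalizerIn S P) := finite_of_le normalizerIn_le
    haveI : Finite (Cfsg.FusionSystem.normalizerIn S P') := finite_of_le normalizerIn_le
    have hu1 : Φ P u := hmono _ _ _ hu (le_normalizerIn_self hPS)
      (hIH _ u hu (card_lt_card_of_lt (isPGroup_lt_normalizerIn hS hlt)))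
    have hv1 : Φ Q v' := by
      have hle : Q ≤ imgSub v (Cfsg.FusionSystem.normalizerIn S P') := fun y hy => by
        obtain ⟨x, hx, rfl⟩ := hvi.exists_preimage hy
        exact hv.mem_imgSub.2 ⟨x, le_normalizerIn_self hP'S hx, rfl⟩
      refine hmono _ _ _ hv' hle (hIH _ v' hv' ?_)
      rw [← hv.isIso.card_eq, hPP' |> card_eq_of_isConj]
      exact card_lt_card_of_lt (isPGroup_lt_normalizerIn hS hlt')
    have hv'Q : IsIso F Q P' v' := by
      have hle : Q ≤ imgSub v (Cfsg.FusionSystem.normalizerIn S P') := fun y hy => by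
        obtain ⟨x, hx, rfl⟩ := hvi.exists_preimage hy
        exact hv.mem_imgSub.2 ⟨x, le_normalizerIn_self hP'S hx, rfl⟩
      refine ⟨hv'.mono hle, ?_⟩
      rw [← hvi.image_eq, Set.image_image]
      conv_rhs => rw [← Set.image_id (P' : Set Ω)]
      exact Set.image_congr fun x hx => hvv' x (le_normalizerIn_self hP'S hx)
    obtain ⟨u', hu', hu'l, hu'r⟩ := hui.exists_symm
    have hα : IsIso F Q Q (v ∘ (f ∘ u')) := (hu'.comp hf.isIso).comp hvi
    have hα1 : Φ Q (v ∘ (f ∘ u')) := haut Q hQ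
      (fun R g hg hc => hIH R g hg (by rwa [card_eq_of_isConj hPQ])) _ hα
    have h2 := hcomp P Q u (v' ∘ (v ∘ (f ∘ u'))) hui.isMap (hα.comp hv'Q).isMap (fun x hx => hui.mem hx)
      hu1 (hcomp Q Q _ v' hα.isMap hv'Q.isMap (fun x hx => hα.mem hx) hα1 hv1)
    refine hcongr P _ f (hui.isMap.comp (hα.comp hv'Q).isMap fun x hx => hui.mem hx) (fun x hx => ?_) h2
    simp only [Function.comp_apply]
    rw [hu'l x hx, hvv' _ (le_normalizerIn_self hP'S (hf.isIso.mem hx))]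

/-- Decomposing a normal subgroup of `Aut_F(Q)` which is a `p`-group modulo `K₀`. -/
theorem exists_conjAut_mul (hS : IsPGroup p S) (hF : F.IsSaturated p) {Q : Subgroup Ω}
    (hQ : F.IsFullyNormalized Q) {K K₀ : Subgroup (MulAut Q)} (hK : K ≤ F.autGroup Q)
    (hK₀ : K₀ ≤ K) (hKn : ∀ a ∈ F.autGroup Q, ∀ k ∈ K, a * k * a⁻¹ ∈ K)
    (hK₀n : ∀ a ∈ F.autGroup Q, ∀ k ∈ K₀, a * k * a⁻¹ ∈ K₀)
    (hpow : ∀ k ∈ K, ∃ e : ℕ, k ^ (p ^ e) ∈ K₀) {k : MulAut Q} (hk : k ∈ K) :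
    ∃ s, ∃ hs : s ∈ Cfsg.FusionSystem.normalizerIn S Q, ∃ k₀ ∈ K₀, k = conjAut hs.2 * k₀ := by
  haveI := finite_autGroup F hQ.1
  set A := F.autGroup Q
  obtain ⟨P, hP⟩ : ∃ P : Sylow p A, (P : Subgroup A) = (autInducedBy S Q).subgroupOf A :=
    (isFullyAutomized_of_isFullyNormalized hS hF hQ).2
  set K' := K.subgroupOf A
  set K₀' := K₀.subgroupOf A
  haveI : K'.Normal := ⟨fun x hx a => hKn a a.2 x hx⟩
  haveI : K₀'.Normal := ⟨fun x hx a => hK₀n a a.2 x hx⟩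
  set π := QuotientGroup.mk' K₀' with hπ
  have hsurj : Function.Surjective π := QuotientGroup.mk'_surjective K₀'
  set P' := P.mapSurjective hsurj
  haveI : (K'.map π).Normal := Subgroup.Normal.map inferInstance π hsurj
  have hKp : IsPGroup p (K'.map π) := by
    rintro ⟨_, x, hx, rfl⟩
    obtain ⟨e, he⟩ := hpow x hx
    refine ⟨e, Subtype.ext ?_⟩
    show π x ^ (p ^ e) = 1
    rw [← map_pow]
    exact (QuotientGroup.eq_one_iff _).2 he
  have hle : K'.map π ≤ (P : Subgroup A).map π := by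
    have hc : (P' : Subgroup (A ⧸ K₀')) = (P : Subgroup A).map π := Sylow.coe_mapSurjective ..
    rw [← hc]
    refine le_trans le_sup_left (P'.3 (hKp.to_sup_of_normal_left P'.2) le_sup_right).le
  obtain ⟨y, hy, hye⟩ := hle ⟨⟨k, hK hk⟩, hk, rfl⟩
  rw [SetLike.mem_coe, hP, Subgroup.mem_subgroupOf, mem_autInducedBy] at hy
  obtain ⟨s, hsS, hsn, hs⟩ := hy
  refine ⟨s, ⟨hsS, hsn⟩, (y : MulAut Q)⁻¹ * k, ?_, ?_⟩
  · exact (QuotientGroup.eq.1 hye : y⁻¹ * ⟨k, hK hk⟩ ∈ K₀')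
  · rw [← hs]
    group

/-- Frattini argument in `Aut_F(Q)`. -/
theorem exists_frattini (hS : IsPGroup p S) (hF : F.IsSaturated p) {Q : Subgroup Ω}
    (hQ : F.IsFullyNormalized Q) {K : Subgroup (MulAut Q)} (hK : K ≤ F.autGroup Q)
    (hKn : ∀ a ∈ F.autGroup Q, ∀ k ∈ K, a * k * a⁻¹ ∈ K) {X : Subgroup Ω}
    (hX : X ≤ Cfsg.FusionSystem.normalizerIn S Q)
    (hXK : ∀ x (hx : x ∈ X), conjAut (hX hx).2 ∈ K) {α : MulAut Q} (hα : α ∈ F.autGroup Q) :
    ∃ β ∈ F.autGroup Q, ∃ k ∈ K, α = β * k ∧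
      ∃ g, IsMap F (X ⊔ Q) g ∧ ∀ y ∈ Q, g y = autMap β y := by
  haveI := finite_autGroup F hQ.1
  set A := F.autGroup Q
  obtain ⟨P, hP⟩ : ∃ P : Sylow p A, (P : Subgroup A) = (autInducedBy S Q).subgroupOf A :=
    (isFullyAutomized_of_isFullyNormalized hS hF hQ).2
  haveI : (K.subgroupOf A).Normal := ⟨fun x hx a => hKn a a.2 x hx⟩
  set a : A := ⟨α, hα⟩
  set J : Subgroup A := ((P : Subgroup A) ⊓ K.subgroupOf A).map (MulAut.conj a).toMonoidHom
  have hJK : J ≤ K.subgroupOf A := by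
    rintro _ ⟨y, hy, rfl⟩
    exact hKn α hα y hy.2
  obtain ⟨n, hn, hconj⟩ := exists_normal_conj_into P (K.subgroupOf A) J
    ((P.2.to_le inf_le_left).map _) (hJK.trans le_sup_right)
  set β : A := n * a with hβ
  refine ⟨β, β.2, α⁻¹ * (n : MulAut Q)⁻¹ * α, ?_, ?_, ?_⟩
  · simpa using hKn α⁻¹ (Subgroup.inv_mem _ hα) _ (K.inv_mem hn)
  · show α = (n : MulAut Q) * α * (α⁻¹ * (n : MulAut Q)⁻¹ * α)
    group
  · obtain ⟨g, hg, hge⟩ := receptive_extend (receptive_of_isFullyNormalized hS hF hQ)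
      (isIso_autMap hQ.1 β.2) (N := X) fun x hx => by
      have hxP : (⟨conjAut (hX hx).2, hK (hXK x hx)⟩ : A) ∈ (P : Subgroup A) ⊓ K.subgroupOf A := by
        refine ⟨?_, hXK x hx⟩
        rw [hP]
        exact mem_autInducedBy.2 ⟨x, (hX hx).1, (hX hx).2, rfl⟩
      have h1 : β * ⟨conjAut (hX hx).2, hK (hXK x hx)⟩ * β⁻¹ ∈ (P : Subgroup A) := by
        have h0 := hconj _ ⟨_, hxP, rfl⟩
        have hrw : n * (MulAut.conj a).toMonoidHom ⟨conjAut (hX hx).2, hK (hXK x hx)⟩ * n⁻¹ =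
            β * ⟨conjAut (hX hx).2, hK (hXK x hx)⟩ * β⁻¹ := by
          simp only [MulEquiv.coe_toMonoidHom, MulAut.conj_apply, hβ]
          group
        rwa [hrw] at h0
      rw [hP, Subgroup.mem_subgroupOf, mem_autInducedBy] at h1
      obtain ⟨h, hhS, hhn, he⟩ := h1
      refine ⟨(hX hx).1, (hX hx).2, h, hhS, fun y hy => ?_⟩
      have he' : (β : MulAut Q) * conjAut (hX hx).2 = conjAut hhn * (β : MulAut Q) := by
        rw [← he]
        simp
      have h2 := congrArg (fun c : MulAut Q => autMap c y) he'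
      rw [autMap_mul _ _ hy, autMap_mul _ _ hy, autMap_conjAut _ hy,
        autMap_conjAut hhn (autMap_mem _ hy)] at h2
      exact h2
    exact ⟨g, hg, hge⟩

omit [Finite S] in
theorem stronglyClosed_top (F : FusionSystem S) : F.StronglyClosed S :=
  ⟨le_rfl, fun _ _ _ hφ x => (F.le_of_mem hφ).2 x⟩

omit [Finite S] in
theorem stronglyClosed_bot (F : FusionSystem S) : F.StronglyClosed ⊥ := by
  refine ⟨bot_le, fun R hR φ _ x => ?_⟩
  have hx : x = 1 := Subtype.ext (Subgroup.mem_bot.1 (hR x.2))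
  simp [hx]

omit [Finite S] in
/-- A map sends the points of a strongly closed subgroup into it. -/
theorem mem_of_stronglyClosed {B : Subgroup Ω} (hB : F.StronglyClosed B) {P : Subgroup Ω}
    {f : Ω → Ω} (hf : IsMap F P f) {x : Ω} (hx : x ∈ P) (hxB : x ∈ B) : f x ∈ B :=
  (stronglyClosed_iff.1 hB).2 (P ⊓ B) f inf_le_right (hf.mono inf_le_left) x ⟨hx, hxB⟩

omit [Finite S] in
theorem conj_mem_of_stronglyClosed {B : Subgroup Ω} (hB : F.StronglyClosed B) {s b : Ω}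
    (hs : s ∈ S) (hb : b ∈ B) : s * b * s⁻¹ ∈ B :=
  mem_of_stronglyClosed hB (isMap_conj F hB.1 hs) hb hb

/-- The automorphisms in `Aut_F(Q)` moving the elements of `Q ∩ D` only modulo `B`. -/
def stab (F : FusionSystem S) (Q : Subgroup Ω) (hQ : Q ≤ S) {D B : Subgroup Ω}
    (hD : F.StronglyClosed D) : Subgroup (MulAut Q) where
  carrier := {α | α ∈ F.autGroup Q ∧ ∀ x ∈ Q, x ∈ D → x⁻¹ * autMap α x ∈ B}
  one_mem' := ⟨one_mem _, fun x hx _ => by simp [autMap_apply _ hx]⟩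
  mul_mem' {a b} ha hb := ⟨mul_mem ha.1 hb.1, fun x hx hxD => by
    have hbx : autMap b x ∈ D :=
      mem_of_stronglyClosed hD (isIso_autMap hQ hb.1).isMap hx hxD
    rw [autMap_mul _ _ hx, show x⁻¹ * autMap a (autMap b x) =
      (x⁻¹ * autMap b x) * ((autMap b x)⁻¹ * autMap a (autMap b x)) by group]
    exact B.mul_mem (hb.2 x hx hxD) (ha.2 _ (autMap_mem _ hx) hbx)⟩
  inv_mem' {a} ha := ⟨Subgroup.inv_mem _ ha.1, fun x hx hxD => by
    have hyD : autMap a⁻¹ x ∈ D :=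
      mem_of_stronglyClosed hD (isIso_autMap hQ (Subgroup.inv_mem _ ha.1)).isMap hx hxD
    have h := B.inv_mem (ha.2 _ (autMap_mem _ hx) hyD)
    rw [autMap_inv_apply a hx, mul_inv_rev, inv_inv] at h
    exact h⟩

omit [Finite S] in
theorem stab_conj {Q : Subgroup Ω} (hQ : Q ≤ S) {D B : Subgroup Ω} (hD : F.StronglyClosed D)
    (hB : F.StronglyClosed B) {a k : MulAut Q} (ha : a ∈ F.autGroup Q)
    (hk : k ∈ stab F Q hQ (B := B) hD) : a * k * a⁻¹ ∈ stab F Q hQ (B := B) hD := by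
  refine ⟨mul_mem (mul_mem ha hk.1) (Subgroup.inv_mem _ ha), fun x hx hxD => ?_⟩
  set y := autMap a⁻¹ x with hy_def
  have hy : y ∈ Q := autMap_mem _ hx
  have hyD : y ∈ D := mem_of_stronglyClosed hD (isIso_autMap hQ (Subgroup.inv_mem _ ha)).isMap hx hxD
  have hxy : x = autMap a y := (autMap_inv_apply a hx).symm
  have hm := (isIso_autMap hQ ha).isMap
  rw [autMap_mul _ _ hx, autMap_mul _ _ (autMap_mem _ hx), ← hy_def, hxy,
    ← hm.map_inv hy, ← hm.map_mul (Q.inv_mem hy) (autMap_mem k hy)]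
  exact mem_of_stronglyClosed hB hm (Q.mul_mem (Q.inv_mem hy) (autMap_mem k hy)) (hk.2 y hy hyD)

omit [Fact p.Prime] in
/-- Stabilizing `D ≥ B ≥ R`: the `|S|`-th power moves `D` only modulo `R`. -/
theorem pow_card_mem_stab {Q : Subgroup Ω} (hQ : Q ≤ S) {D B R : Subgroup Ω}
    (hD : F.StronglyClosed D) (hB : F.StronglyClosed B) (hR : F.StronglyClosed R)
    {k : MulAut Q} (hk : k ∈ stab F Q hQ (B := B) hD) (hk' : k ∈ stab F Q hQ (B := R) hB) :
    k ^ Nat.card S ∈ stab F Q hQ (B := R) hD := by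
  refine ⟨Subgroup.pow_mem _ hk.1 _, fun x hx hxD => ?_⟩
  set d := x⁻¹ * autMap k x with hd
  have hdQ : d ∈ Q := Q.mul_mem (Q.inv_mem hx) (autMap_mem _ hx)
  have hdB : d ∈ B := hk.2 x hx hxD
  have hm := (isIso_autMap hQ hk.1).isMap
  have key : ∀ n : ℕ, (x * d ^ n)⁻¹ * autMap (k ^ n) x ∈ R := by
    intro n
    induction n with
    | zero => simp [autMap_apply _ hx]
    | succ n ih =>
      set y := autMap (k ^ n) x with hy
      set r := (x * d ^ n)⁻¹ * y with hr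
      have hrQ : r ∈ Q :=
        Q.mul_mem (Q.inv_mem (Q.mul_mem hx (Q.pow_mem hdQ n))) (autMap_mem _ hx)
      have h1 : autMap (k ^ (n + 1)) x = x * d * autMap k (d ^ n) * autMap k r := by
        rw [pow_succ', autMap_mul _ _ hx, ← hy, show y = x * d ^ n * r by rw [hr]; group,
          hm.map_mul (Q.mul_mem hx (Q.pow_mem hdQ n)) hrQ, hm.map_mul hx (Q.pow_mem hdQ n),
          show x * d = autMap k x by rw [hd]; group]
      rw [h1, show (x * d ^ (n + 1))⁻¹ * (x * d * autMap k (d ^ n) * autMap k r) =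
        ((d ^ n)⁻¹ * autMap k (d ^ n)) * autMap k r by rw [pow_succ']; group]
      exact R.mul_mem (hk'.2 _ (Q.pow_mem hdQ n) (B.pow_mem hdB n))
        (mem_of_stronglyClosed hR hm hrQ ih)
  have h := key (Nat.card S)
  have hpow : d ^ Nat.card S = 1 := congrArg Subtype.val (pow_card_eq_one' : (⟨d, hQ hdQ⟩ : S) ^ Nat.card S = 1)
  rwa [hpow, mul_one] at h

/-- If a strongly closed `B` is not in `Q`, then `Q` grows by the elements of `B` normalizing it. -/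
theorem lt_inf_normalizer_sup (hS : IsPGroup p S) {B Q : Subgroup Ω} (hB : F.StronglyClosed B)
    (hQ : Q ≤ S) (hBQ : ¬ B ≤ Q) : Q < (B ⊓ Subgroup.normalizer (Q : Set Ω)) ⊔ Q := by
  refine lt_of_le_of_ne le_sup_right fun heq => hBQ ?_
  by_contra hne
  have hlt : Q < B ⊔ Q := lt_of_le_of_ne le_sup_right fun h => hne (le_sup_left.trans h.symm.le)
  haveI : Finite ↥(B ⊔ Q) := finite_of_le (sup_le hB.1 hQ)
  obtain ⟨x, hx, hxQ⟩ := SetLike.exists_of_lt (isPGroup_lt_normalizerIn (hS.to_le (sup_le hB.1 hQ)) hlt)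
  haveI : (B.subgroupOf S).Normal := ⟨fun b hb s => conj_mem_of_stronglyClosed hB s.2 hb⟩
  have hxS : (⟨x, sup_le hB.1 hQ hx.1⟩ : S) ∈ B.subgroupOf S ⊔ Q.subgroupOf S := by
    rw [← Subgroup.subgroupOf_sup hB.1 hQ]
    exact hx.1
  obtain ⟨b, hb, q, hq, hbq⟩ := Subgroup.mem_sup_of_normal_left.1 hxS
  have hbq' : (b : Ω) * q = x := congrArg Subtype.val hbq
  have hbn : (b : Ω) ∈ Subgroup.normalizer (Q : Set Ω) := by
    rw [show (b : Ω) = x * (q : Ω)⁻¹ by rw [← hbq']; group]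
    exact Subgroup.mul_mem _ hx.2 (Subgroup.le_normalizer (Q.inv_mem hq))
  apply hxQ
  rw [← hbq', heq]
  exact Subgroup.mul_mem _ (Subgroup.mem_sup_left ⟨hb, hbn⟩) (Subgroup.mem_sup_right hq)

omit [Finite S] in
/-- A map carries `P ⊔ B` into `Q ⊔ B` when it does so on `P` and on `B`. -/
theorem mapsTo_sup {P B T : Subgroup Ω} {g : Ω → Ω} (hg : IsMap F (P ⊔ B) g)
    (hP : ∀ x ∈ P, g x ∈ T) (hB : ∀ x ∈ B, g x ∈ T) : ∀ x ∈ P ⊔ B, g x ∈ T := by
  intro x hx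
  obtain ⟨φ, hφ, hφg⟩ := hg
  have h : (T.comap φ).map (P ⊔ B).subtype = P ⊔ B := by
    refine le_antisymm (Subgroup.map_subtype_le _) (sup_le ?_ ?_)
    · exact fun y hy => ⟨⟨y, Subgroup.mem_sup_left hy⟩, by
        show φ _ ∈ T; rw [hφg]; exact hP y hy, rfl⟩
    · exact fun y hy => ⟨⟨y, Subgroup.mem_sup_right hy⟩, by
        show φ _ ∈ T; rw [hφg]; exact hB y hy, rfl⟩
  rw [← h] at hx
  obtain ⟨z, hz, rfl⟩ := hx
  exact hφg z ▸ hz

omit [Finite S] in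
theorem isMap_id' (F : FusionSystem S) {P : Subgroup Ω} (hP : P ≤ S) : IsMap F P id := isMap_id F hP

/-- Every map extends over `B` modulo `R`, for strongly closed `R ≤ B` with `[B, B] ≤ R`. -/
theorem exists_extend_mod (hS : IsPGroup p S) (hF : F.IsSaturated p) {R B : Subgroup Ω}
    (hR : F.StronglyClosed R) (hB : F.StronglyClosed B) (hRB : R ≤ B)
    (hcomm : ∀ a ∈ B, ∀ b ∈ B, a * b * a⁻¹ * b⁻¹ ∈ R) {P : Subgroup Ω} {f : Ω → Ω}
    (hf : IsMap F P f) : ∃ g, IsMap F (P ⊔ B) g ∧ ∀ x ∈ P, (f x)⁻¹ * g x ∈ R := by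
  let Φ : Subgroup Ω → (Ω → Ω) → Prop := fun P f => ∃ g, IsMap F (P ⊔ B) g ∧ ∀ x ∈ P, (f x)⁻¹ * g x ∈ R
  have hcomp : ∀ P Q f g, IsMap F P f → IsMap F Q g → (∀ x ∈ P, f x ∈ Q) → Φ P f → Φ Q g →
      Φ P (g ∘ f) := by
    rintro P Q f g hf hg hPQ ⟨a, ha, hae⟩ ⟨b, hb, hbe⟩
    have hmaps : ∀ x ∈ P ⊔ B, a x ∈ Q ⊔ B := mapsTo_sup ha
      (fun x hx => by
        rw [show a x = f x * ((f x)⁻¹ * a x) by group]
        exact Subgroup.mul_mem _ (Subgroup.mem_sup_left (hPQ x hx))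
          (Subgroup.mem_sup_right (hRB (hae x hx))))
      (fun x hx => Subgroup.mem_sup_right (mem_of_stronglyClosed hB ha (Subgroup.mem_sup_right hx) hx))
    refine ⟨b ∘ a, ha.comp hb hmaps, fun x hx => ?_⟩
    have h1 : a x = f x * ((f x)⁻¹ * a x) := by group
    simp only [Function.comp_apply]
    rw [h1, hb.map_mul (Subgroup.mem_sup_left (hPQ x hx)) (Subgroup.mem_sup_right (hRB (hae x hx))),
      ← mul_assoc]
    exact R.mul_mem (hbe _ (hPQ x hx))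
      (mem_of_stronglyClosed hR hb (Subgroup.mem_sup_right (hRB (hae x hx))) (hae x hx))
  refine map_induction hS hF (Φ := Φ) ?_ ?_ hcomp ?_ hf
  · rintro P f g _ he ⟨a, ha, hae⟩
    exact ⟨a, ha, fun x hx => by rw [he x hx]; exact hae x hx⟩
  · rintro T P f _ hPT ⟨a, ha, hae⟩
    exact ⟨a, ha.mono (sup_le_sup_right hPT B), fun x hx => hae x (hPT hx)⟩
  intro Q hQ hIH f hf
  by_cases hBQ : B ≤ Q
  · exact ⟨f, by rw [sup_eq_left.2 hBQ]; exact hf.isMap, fun x hx => by simp⟩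
  have hT := stronglyClosed_top F
  let K : Subgroup (MulAut Q) := stab F Q hQ.1 (B := B) hT ⊓ stab F Q hQ.1 (B := R) hB
  let K₀ : Subgroup (MulAut Q) := stab F Q hQ.1 (B := R) hT
  have hK : K ≤ F.autGroup Q := fun _ h => h.1.1
  have hK₀K : K₀ ≤ K := fun k hk =>
    ⟨⟨hk.1, fun x hx hxS => hRB (hk.2 x hx hxS)⟩, hk.1, fun x hx hxB => hk.2 x hx (hB.1 hxB)⟩
  have hKn : ∀ a ∈ F.autGroup Q, ∀ k ∈ K, a * k * a⁻¹ ∈ K := fun a ha k hk =>
    ⟨stab_conj hQ.1 hT hB ha hk.1, stab_conj hQ.1 hB hR ha hk.2⟩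
  set X := B ⊓ Subgroup.normalizer (Q : Set Ω) with hXdef
  have hX : X ≤ Cfsg.FusionSystem.normalizerIn S Q := fun x hx => ⟨hB.1 hx.1, hx.2⟩
  have hXK : ∀ x (hx : x ∈ X), conjAut (hX hx).2 ∈ K := fun x hx => by
    have hA := conjAut_mem_autGroup F hQ.1 (hX hx)
    refine ⟨⟨hA, fun y hy hyS => ?_⟩, hA, fun y hy hyB => ?_⟩
    · rw [autMap_conjAut _ hy, conjMap_apply, show y⁻¹ * (x * y * x⁻¹) = (y⁻¹ * x * y⁻¹⁻¹) * x⁻¹ by group]
      exact B.mul_mem (conj_mem_of_stronglyClosed hB (S.inv_mem hyS) hx.1) (B.inv_mem hx.1)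
    · rw [autMap_conjAut _ hy, conjMap_apply, show y⁻¹ * (x * y * x⁻¹) = y⁻¹ * x * y⁻¹⁻¹ * x⁻¹ by group]
      exact hcomm _ (B.inv_mem hyB) _ hx.1
  obtain ⟨α, hα, hαf⟩ := hf.exists_aut
  obtain ⟨β, hβ, k, hk, hαβ, g, hg, hge⟩ := exists_frattini hS hF hQ hK hKn hX hXK hα
  have hpow : ∀ k ∈ K, ∃ e : ℕ, k ^ (p ^ e) ∈ K₀ := fun k hk => by
    obtain ⟨e, he⟩ := IsPGroup.iff_card.1 hS
    exact ⟨e, he ▸ pow_card_mem_stab hQ.1 hT hB hR hk.1 hk.2⟩
  obtain ⟨s, hs, k₀, hk₀, hkk⟩ := exists_conjAut_mul hS hF hQ hK hK₀K hKn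
    (fun a ha k hk => stab_conj hQ.1 hT hR ha hk) hpow hk
  -- the three pieces
  have hΦg : Φ Q (autMap β) := by
    haveI : Finite ↥(X ⊔ Q) := finite_of_le hg.le
    obtain ⟨c, hc, hce⟩ := hIH _ g hg (card_lt_card_of_lt (lt_inf_normalizer_sup hS hB hQ.1 hBQ))
    exact ⟨c, hc.mono (sup_le_sup_right le_sup_right B), fun x hx => hge x hx ▸ hce x (Subgroup.mem_sup_right hx)⟩
  have hΦs : Φ Q (autMap (conjAut hs.2)) :=
    ⟨conjMap s, isMap_conj F (sup_le hQ.1 hB.1) hs.1, fun x hx => by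
      rw [autMap_conjAut _ hx, inv_mul_cancel]; exact R.one_mem⟩
  have hΦk : Φ Q (autMap k₀) :=
    ⟨id, isMap_id F (sup_le hQ.1 hB.1), fun x hx => by
      have h := R.inv_mem (hk₀.2 x hx (hQ.1 hx))
      rwa [mul_inv_rev, inv_inv] at h⟩
  have hms := (isIso_autMap hQ.1 (conjAut_mem_autGroup F hQ.1 hs)).isMap
  have hmk := (isIso_autMap hQ.1 hk₀.1).isMap
  have hfin := hcomp Q Q _ _ (hmk.comp hms fun x hx => autMap_mem _ hx) (isIso_autMap hQ.1 hβ).isMap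
    (fun x hx => autMap_mem _ (autMap_mem _ hx))
    (hcomp Q Q _ _ hmk hms (fun x hx => autMap_mem _ hx) hΦk hΦs) hΦg
  obtain ⟨c, hc, hce⟩ := hfin
  refine ⟨c, hc, fun x hx => ?_⟩
  rw [← hαf x hx, hαβ, hkk, autMap_mul _ _ hx, autMap_mul _ _ hx]
  exact hce x hx

/-- A strongly closed `C` is normal when it has a central series `Z ≤ C` of strongly closed subgroups. -/
theorem isNormal_of_central_series (hS : IsPGroup p S) (hF : F.IsSaturated p) {Z C : Subgroup Ω}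
    (hZ : F.StronglyClosed Z) (hC : F.StronglyClosed C)
    (hcomm : ∀ a ∈ C, ∀ b ∈ C, a * b * a⁻¹ * b⁻¹ ∈ Z)
    (hcent : ∀ a ∈ C, ∀ z ∈ Z, a * z = z * a) : F.IsNormal C := by
  refine isNormal_iff.2 ⟨hC.1, fun P f hf => ?_⟩
  let Φ : Subgroup Ω → (Ω → Ω) → Prop := fun P f => ∃ g, IsMap F (P ⊔ C) g ∧ ∀ x ∈ P, g x = f x
  have hcomp : ∀ P Q f g, IsMap F P f → IsMap F Q g → (∀ x ∈ P, f x ∈ Q) → Φ P f → Φ Q g →
      Φ P (g ∘ f) := by
    rintro P Q f g hf hg hPQ ⟨a, ha, hae⟩ ⟨b, hb, hbe⟩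
    refine ⟨b ∘ a, ha.comp hb (mapsTo_sup ha
      (fun x hx => (hae x hx).symm ▸ Subgroup.mem_sup_left (hPQ x hx))
      (fun x hx => Subgroup.mem_sup_right (mem_of_stronglyClosed hC ha (Subgroup.mem_sup_right hx) hx))),
      fun x hx => ?_⟩
    simp only [Function.comp_apply]
    rw [hae x hx, hbe _ (hPQ x hx)]
  suffices h : Φ P f by
    obtain ⟨g, hg, hge⟩ := h
    haveI : Finite C := finite_of_le hC.1
    exact ⟨g, hg, hge, (hg.mono le_sup_right).image_eq_of_mapsTo fun x hx =>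
      mem_of_stronglyClosed hC hg (Subgroup.mem_sup_right hx) hx⟩
  refine map_induction hS hF (Φ := Φ) ?_ ?_ hcomp ?_ hf
  · rintro P f g _ he ⟨a, ha, hae⟩
    exact ⟨a, ha, fun x hx => (hae x hx).trans (he x hx).symm⟩
  · rintro T P f _ hPT ⟨a, ha, hae⟩
    exact ⟨a, ha.mono (sup_le_sup_right hPT C), fun x hx => hae x (hPT hx)⟩
  intro Q hQ hIH f hf
  by_cases hCQ : C ≤ Q
  · exact ⟨f, by rw [sup_eq_left.2 hCQ]; exact hf.isMap, fun x hx => rfl⟩
  have hT := stronglyClosed_top F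
  have h1 := stronglyClosed_bot F
  let K : Subgroup (MulAut Q) :=
    stab F Q hQ.1 (B := C) hT ⊓ (stab F Q hQ.1 (B := Z) hC ⊓ stab F Q hQ.1 (B := ⊥) hZ)
  have hK : K ≤ F.autGroup Q := fun _ h => h.1.1
  have hKn : ∀ a ∈ F.autGroup Q, ∀ k ∈ K, a * k * a⁻¹ ∈ K := fun a ha k hk =>
    ⟨stab_conj hQ.1 hT hC ha hk.1, stab_conj hQ.1 hC hZ ha hk.2.1, stab_conj hQ.1 hZ h1 ha hk.2.2⟩
  set X := C ⊓ Subgroup.normalizer (Q : Set Ω) with hXdef
  have hX : X ≤ Cfsg.FusionSystem.normalizerIn S Q := fun x hx => ⟨hC.1 hx.1, hx.2⟩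
  have hXK : ∀ x (hx : x ∈ X), conjAut (hX hx).2 ∈ K := fun x hx => by
    have hA := conjAut_mem_autGroup F hQ.1 (hX hx)
    refine ⟨⟨hA, fun y hy hyS => ?_⟩, ⟨hA, fun y hy hyC => ?_⟩, hA, fun y hy hyZ => ?_⟩
    · rw [autMap_conjAut _ hy, conjMap_apply, show y⁻¹ * (x * y * x⁻¹) = (y⁻¹ * x * y⁻¹⁻¹) * x⁻¹ by group]
      exact C.mul_mem (conj_mem_of_stronglyClosed hC (S.inv_mem hyS) hx.1) (C.inv_mem hx.1)
    · rw [autMap_conjAut _ hy, conjMap_apply, show y⁻¹ * (x * y * x⁻¹) = y⁻¹ * x * y⁻¹⁻¹ * x⁻¹ by group]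
      exact hcomm _ (C.inv_mem hyC) _ hx.1
    · rw [autMap_conjAut _ hy, conjMap_apply, hcent x hx.1 y hyZ, Subgroup.mem_bot]
      group
  obtain ⟨α, hα, hαf⟩ := hf.exists_aut
  obtain ⟨β, hβ, k, hk, hαβ, g, hg, hge⟩ := exists_frattini hS hF hQ hK hKn hX hXK hα
  have hpow : ∀ k ∈ K, ∃ e : ℕ, k ^ (p ^ e) ∈ (⊥ : Subgroup (MulAut Q)) := fun k hk => by
    obtain ⟨e, he⟩ := IsPGroup.iff_card.1 hS
    refine ⟨e + e, ?_⟩
    rw [pow_add, ← he, pow_mul, Subgroup.mem_bot]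
    have hk1 := pow_card_mem_stab hQ.1 hC hZ h1 hk.2.1 hk.2.2
    have hk2 := pow_card_mem_stab hQ.1 hT hC h1 (Subgroup.pow_mem _ hk.1 _) hk1
    refine aut_ext fun x hx => ?_
    have h3 := hk2.2 x hx (hQ.1 hx)
    rw [Subgroup.mem_bot, inv_mul_eq_one] at h3
    rw [← h3, autMap_apply _ hx]
    rfl
  obtain ⟨s, hs, k₀, hk₀, hkk⟩ := exists_conjAut_mul hS hF hQ hK bot_le hKn
    (fun a _ k hk => by rw [Subgroup.mem_bot] at hk ⊢; rw [hk]; group) hpow hk
  rw [Subgroup.mem_bot] at hk₀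
  rw [hk₀, mul_one] at hkk
  have hΦg : Φ Q (autMap β) := by
    haveI : Finite ↥(X ⊔ Q) := finite_of_le hg.le
    obtain ⟨c, hc, hce⟩ := hIH _ g hg (card_lt_card_of_lt (lt_inf_normalizer_sup hS hC hQ.1 hCQ))
    exact ⟨c, hc.mono (sup_le_sup_right le_sup_right C),
      fun x hx => (hce x (Subgroup.mem_sup_right hx)).trans (hge x hx)⟩
  have hΦs : Φ Q (autMap (conjAut hs.2)) :=
    ⟨conjMap s, isMap_conj F (sup_le hQ.1 hC.1) hs.1, fun x hx => (autMap_conjAut _ hx).symm⟩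
  obtain ⟨c, hc, hce⟩ := hcomp Q Q _ _ (isIso_autMap hQ.1 (conjAut_mem_autGroup F hQ.1 hs)).isMap
    (isIso_autMap hQ.1 hβ).isMap (fun x hx => autMap_mem _ hx) hΦs hΦg
  refine ⟨c, hc, fun x hx => ?_⟩
  rw [hce x hx, ← hαf x hx, hαβ, hkk, autMap_mul _ _ hx]
  rfl

/-- An abelian strongly closed subgroup is normal. -/
theorem isNormal_of_comm (hS : IsPGroup p S) (hF : F.IsSaturated p) {C : Subgroup Ω}
    (hC : F.StronglyClosed C) (hcomm : ∀ a ∈ C, ∀ b ∈ C, a * b = b * a) : F.IsNormal C :=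
  isNormal_of_central_series hS hF (stronglyClosed_bot F) hC
    (fun a ha b hb => by rw [hcomm a ha b hb, Subgroup.mem_bot]; group)
    (fun a _ z hz => by rw [Subgroup.mem_bot.1 hz]; group)

end Cfsg.Agent.H89
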