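import Cfsg.Prelude.Def_FusionComponents
import Cfsg.Agent.H89.Extend

/-!
Factor systems modulo a strongly closed subgroup.
-/

set_option autoImplicit false

namespace Cfsg.Agent.H89

open Cfsg Cfsg.FusionSystem Cfsg.Agent.FusionSys

universe u v

variable {Ω : Type u} [Group Ω] {Ω' : Type v} [Group Ω'] {S : Subgroup Ω}
variable {F : FusionSystem S}

/-- `θ` has kernel exactly `R`. -/
def KerEq (θ : S →* Ω') (R : Subgroup Ω) : Prop := ∀ s : S, θ s = 1 ↔ (s : Ω) ∈ R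

theorem mem_preimageAlong {θ : S →* Ω'} {P' : Subgroup Ω'} {x : Ω} :
    x ∈ preimageAlong θ P' ↔ ∃ hx : x ∈ S, θ ⟨x, hx⟩ ∈ P' :=
  ⟨fun ⟨s, hs, he⟩ => he ▸ ⟨s.2, hs⟩, fun ⟨hx, h⟩ => ⟨⟨x, hx⟩, h, rfl⟩⟩

theorem preimageAlong_le (θ : S →* Ω') (P' : Subgroup Ω') : preimageAlong θ P' ≤ S :=
  Subgroup.map_subtype_le _

theorem ker_le_preimageAlong {θ : S →* Ω'} {R : Subgroup Ω} (hθ : KerEq θ R) (hR : R ≤ S)
    (P' : Subgroup Ω') : R ≤ preimageAlong θ P' :=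
  fun x hx => mem_preimageAlong.2 ⟨hR hx, by rw [(hθ ⟨x, hR hx⟩).2 hx]; exact P'.one_mem⟩

theorem mem_imageAlong {θ : S →* Ω'} {P : Subgroup Ω} {y : Ω'} :
    y ∈ imageAlong θ P ↔ ∃ x : S, (x : Ω) ∈ P ∧ θ x = y := Iff.rfl

theorem preimageAlong_imageAlong {θ : S →* Ω'} {R P : Subgroup Ω} (hθ : KerEq θ R) (hR : R ≤ S)
    (hP : P ≤ S) : preimageAlong θ (imageAlong θ P) = P ⊔ R := by
  refine le_antisymm (fun x hx => ?_)
    (sup_le (fun x hx => mem_preimageAlong.2 ⟨hP hx, ⟨⟨x, hP hx⟩, hx, rfl⟩⟩)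
      (ker_le_preimageAlong hθ hR _))
  obtain ⟨hxS, y, hy, hye⟩ := mem_preimageAlong.1 hx
  have h1 : θ (y⁻¹ * ⟨x, hxS⟩) = 1 := by rw [map_mul, map_inv, hye, inv_mul_cancel]
  rw [show x = (y : Ω) * ((y : Ω)⁻¹ * x) by group]
  exact Subgroup.mul_mem _ (Subgroup.mem_sup_left hy) (Subgroup.mem_sup_right ((hθ _).1 h1))

theorem imageAlong_le {θ : S →* Ω'} {P : Subgroup Ω} : imageAlong θ P ≤ θ.range := by
  rintro _ ⟨x, -, rfl⟩
  exact ⟨x, rfl⟩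

theorem map_mem_of_stronglyClosed {R : Subgroup Ω} (hR : F.StronglyClosed R) {P : Subgroup Ω}
    {φ : P →* Ω} (hφ : φ ∈ F.Hom P) (x : P) (hx : (x : Ω) ∈ R) : φ x ∈ R := by
  rw [← homFun_coe φ x]
  exact mem_of_stronglyClosed hR (isMap_of_mem hφ) x.2 hx

/-- Every map with source a full preimage induces a map. -/
theorem exists_induced {R : Subgroup Ω} {θ : S →* Ω'} (hθ : KerEq θ R) (hR : F.StronglyClosed R)
    {P' : Subgroup Ω'} (hP' : P' ≤ θ.range) {φ : preimageAlong θ P' →* Ω}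
    (hφ : φ ∈ F.Hom (preimageAlong θ P')) : ∃ φ' : P' →* Ω', InducedAlong θ φ φ' := by
  have hex : ∀ y : P', ∃ x : preimageAlong θ P', θ ⟨x, preimageAlong_le _ _ x.2⟩ = (y : Ω') := by
    intro y
    obtain ⟨s, hs⟩ := hP' y.2
    exact ⟨⟨s, s, (show θ s ∈ P' from hs ▸ y.2), rfl⟩, hs⟩
  choose sec hsec using hex
  have hS : ∀ x, φ x ∈ S := (F.le_of_mem hφ).2
  have hwd : ∀ a b : preimageAlong θ P',
      θ ⟨a, preimageAlong_le _ _ a.2⟩ = θ ⟨b, preimageAlong_le _ _ b.2⟩ →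
      θ ⟨φ a, hS a⟩ = θ ⟨φ b, hS b⟩ := by
    intro a b hab
    have h1 : θ (⟨(a : Ω), preimageAlong_le _ _ a.2⟩⁻¹ * ⟨(b : Ω), preimageAlong_le _ _ b.2⟩) = 1 := by
      rw [map_mul, map_inv, hab, inv_mul_cancel]
    have h2 := map_mem_of_stronglyClosed hR hφ (a⁻¹ * b) ((hθ _).1 h1)
    have h3 : θ (⟨φ a, hS a⟩⁻¹ * ⟨φ b, hS b⟩) = 1 := (hθ _).2 (by simpa using h2)
    rwa [map_mul, map_inv, inv_mul_eq_one] at h3
  refine ⟨MonoidHom.mk' (fun y => θ ⟨φ (sec y), hS _⟩) fun a b => ?_, preimageAlong_le _ _, hS,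
    fun x => (mem_preimageAlong.1 x.2).2, fun x => hwd _ _ ?_⟩
  · rw [← map_mul θ]
    refine (hwd (sec (a * b)) (sec a * sec b) ?_).trans (congrArg θ (Subtype.ext (map_mul φ _ _)))
    refine (hsec (a * b)).trans ?_
    rw [Subgroup.coe_mul, ← hsec a, ← hsec b, ← map_mul]
    rfl
  · exact hsec _

theorem induced_unique {θ : S →* Ω'} {P : Subgroup Ω} {P' : Subgroup Ω'} {φ : P →* Ω}
    {φ₁ φ₂ : P' →* Ω'} (h : ∀ y ∈ P', ∃ x : S, (x : Ω) ∈ P ∧ θ x = y)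
    (h₁ : InducedAlong θ φ φ₁) (h₂ : InducedAlong θ φ φ₂) : φ₁ = φ₂ := by
  obtain ⟨hP, hφ, hP', he₁⟩ := h₁
  obtain ⟨_, _, _, he₂⟩ := h₂
  ext ⟨y, hy⟩
  obtain ⟨x, hx, rfl⟩ := h y hy
  exact (he₁ ⟨x, hx⟩).trans (he₂ ⟨x, hx⟩).symm

/-- In a saturated system every map induces one of the factor system. -/
theorem isSurjectiveMorphism_of_factor [Finite S] {p : ℕ} [Fact p.Prime] (hS : IsPGroup p S)
    (hF : F.IsSaturated p) {R : Subgroup Ω} (hR : F.StronglyClosed R) {S' : Subgroup Ω'}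
    {θ : S →* Ω'} {E : FusionSystem S'} (hE : F.IsFactorSystem R θ E) :
    F.IsSurjectiveMorphism E θ := by
  obtain ⟨hRS, hker, hrange, hmaps⟩ := hE
  refine ⟨⟨fun s => hrange ▸ ⟨s, rfl⟩, fun P φ hφ => ?_⟩, hrange,
    fun P' _ φ' hφ' => ((hmaps P' φ').1 hφ').2⟩
  have hP := (F.le_of_mem hφ).1
  obtain ⟨g, hg, hge⟩ := exists_extend_mod hS hF hR hR le_rfl
    (fun a ha b hb => R.mul_mem (R.mul_mem (R.mul_mem ha hb) (R.inv_mem ha)) (R.inv_mem hb))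
    (isMap_of_mem hφ)
  rw [← preimageAlong_imageAlong hker hRS hP] at hg
  obtain ⟨ψ, hψ, hψg⟩ := hg
  obtain ⟨φ', hφ'⟩ := exists_induced hker hR imageAlong_le hψ
  refine ⟨φ', (hmaps _ _).2 ⟨imageAlong_le.trans hrange.le, ψ, hψ, hφ'⟩, hP, (F.le_of_mem hφ).2,
    fun x => ⟨⟨x, hP x.2⟩, x.2, rfl⟩, fun x => ?_⟩
  obtain ⟨hle, hψS, hmem, hind⟩ := hφ'
  set x' : preimageAlong θ (imageAlong θ P) :=
    ⟨x, mem_preimageAlong.2 ⟨hP x.2, ⟨⟨x, hP x.2⟩, x.2, rfl⟩⟩⟩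
  refine (hind x').trans ?_
  have h1 : θ (⟨φ x, (F.le_of_mem hφ).2 x⟩⁻¹ * ⟨ψ x', hψS x'⟩) = 1 := by
    refine (hker _).2 ?_
    show (φ x)⁻¹ * ψ x' ∈ R
    rw [hψg x', ← homFun_coe φ x]
    exact hge x x.2
  rw [map_mul, map_inv, inv_mul_eq_one] at h1
  exact h1.symm

/-- The factor system of `F` modulo a strongly closed `R`, read through `θ`. -/
def factorSystem [Finite S] (θ : S →* Ω') {R : Subgroup Ω} (hθ : KerEq θ R) (hR : F.StronglyClosed R)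
    {S' : Subgroup Ω'} (hS' : θ.range = S') : FusionSystem S' where
  Hom P' := {φ' | P' ≤ S' ∧ ∃ φ ∈ F.Hom (preimageAlong θ P'), InducedAlong θ φ φ'}
  le_of_mem := by
    rintro P' φ' ⟨hP', φ, hφ, hle, hφS, hmem, hind⟩
    refine ⟨hP', fun y => ?_⟩
    obtain ⟨s, hs⟩ : (y : Ω') ∈ θ.range := hS' ▸ hP' y.2
    have hsm : (s : Ω) ∈ preimageAlong θ P' := ⟨s, (show θ s ∈ P' from hs ▸ y.2), rfl⟩
    have h := hind ⟨s, hsm⟩
    rw [show (⟨θ ⟨(s : Ω), hle hsm⟩, hmem ⟨s, hsm⟩⟩ : P') = y from Subtype.ext hs] at h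
    rw [h, ← hS']
    exact ⟨_, rfl⟩
  injective_of_mem := by
    rintro P' φ' ⟨hP', φ, hφ, hle, hφS, hmem, hind⟩
    rw [injective_iff_map_eq_one]
    intro y hy
    obtain ⟨s, hs⟩ : (y : Ω') ∈ θ.range := hS' ▸ hP' y.2
    have hsm : (s : Ω) ∈ preimageAlong θ P' := ⟨s, (show θ s ∈ P' from hs ▸ y.2), rfl⟩
    have h := hind ⟨s, hsm⟩
    rw [show (⟨θ ⟨(s : Ω), hle hsm⟩, hmem ⟨s, hsm⟩⟩ : P') = y from Subtype.ext hs, hy] at h
    have hφR : φ ⟨s, hsm⟩ ∈ R := (hθ _).1 h.symm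
    haveI : Finite R := finite_of_le hR.1
    have hm := (isMap_of_mem hφ).mono (ker_le_preimageAlong hθ hR.1 P')
    obtain ⟨r, hr, hre⟩ := (hm.image_eq_of_mapsTo fun r hr =>
      mem_of_stronglyClosed hR hm hr hr).ge hφR
    rw [homFun_mem φ (ker_le_preimageAlong hθ hR.1 P' hr)] at hre
    have hrs := congrArg Subtype.val (F.injective_of_mem hφ hre)
    exact Subtype.ext (hs.symm.trans ((hθ s).2 (show (s : Ω) ∈ R from hrs ▸ hr)))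
  conj_mem := by
    intro P' g hP' hg
    obtain ⟨s, hs⟩ : g ∈ θ.range := hS' ▸ hg
    refine ⟨hP', conjHom _ (s : Ω), F.conj_mem (preimageAlong_le _ _) s.2, preimageAlong_le _ _,
      fun x => S.mul_mem (S.mul_mem s.2 (preimageAlong_le _ _ x.2)) (S.inv_mem s.2),
      fun x => (mem_preimageAlong.1 x.2).2, fun x => ?_⟩
    show g * θ ⟨x, preimageAlong_le θ P' x.2⟩ * g⁻¹ = θ (s * ⟨x, preimageAlong_le θ P' x.2⟩ * s⁻¹)
    rw [map_mul, map_mul, map_inv, hs]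
  comp_mem := by
    rintro P' Q' φ' ψ' ⟨hP', φ, hφ, hle, hφS, hmem, hind⟩ ⟨hQ', ψ, hψ, hle', hψS, hmem', hind'⟩ h
    have hmap : ∀ x, φ x ∈ preimageAlong θ Q' := fun x =>
      mem_preimageAlong.2 ⟨hφS x, (hind x) ▸ h _⟩
    refine ⟨hP', _, F.comp_mem hφ hψ hmap, hle, fun x => hψS _, hmem, fun x => ?_⟩
    have h2 := hind' ⟨φ x, hmap x⟩
    refine Eq.trans ?_ h2
    show ψ' ⟨φ' _, h _⟩ = ψ' _
    exact congrArg ψ' (Subtype.ext (hind x))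
  inv_mem := by
    rintro P' φ' ⟨hP', φ, hφ, hle, hφS, hmem, hind⟩
    obtain ⟨ψ, hψ, hinv⟩ := F.inv_mem hφ
    haveI : Finite R := finite_of_le hR.1
    have hm := (isMap_of_mem hφ).mono (ker_le_preimageAlong hθ hR.1 P')
    have himg : ∀ r ∈ R, r ∈ φ.range := fun r hr => by
      obtain ⟨r₀, hr₀, hre⟩ := (hm.image_eq_of_mapsTo fun x hx =>
        mem_of_stronglyClosed hR hm hx hx).ge hr
      exact ⟨⟨r₀, ker_le_preimageAlong hθ hR.1 P' hr₀⟩,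
        (homFun_mem φ (ker_le_preimageAlong hθ hR.1 P' hr₀)).symm.trans hre⟩
    have hrange : φ'.range ≤ S' := by
      rintro _ ⟨y, rfl⟩
      obtain ⟨s, hs⟩ : (y : Ω') ∈ θ.range := hS' ▸ hP' y.2
      have hsm : (s : Ω) ∈ preimageAlong θ P' := ⟨s, (show θ s ∈ P' from hs ▸ y.2), rfl⟩
      have h := hind ⟨s, hsm⟩
      rw [show (⟨θ ⟨(s : Ω), hle hsm⟩, hmem ⟨s, hsm⟩⟩ : P') = y from Subtype.ext hs] at h
      rw [h, ← hS']
      exact ⟨_, rfl⟩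
    have hpre : preimageAlong θ φ'.range = φ.range := by
      apply le_antisymm
      · intro x hx
        obtain ⟨hxS, y, hy⟩ := mem_preimageAlong.1 hx
        obtain ⟨s, hs⟩ : (y : Ω') ∈ θ.range := hS' ▸ hP' y.2
        have hsm : (s : Ω) ∈ preimageAlong θ P' := ⟨s, (show θ s ∈ P' from hs ▸ y.2), rfl⟩
        have h := hind ⟨s, hsm⟩
        rw [show (⟨θ ⟨(s : Ω), hle hsm⟩, hmem ⟨s, hsm⟩⟩ : P') = y from Subtype.ext hs, hy] at h
        have h1 : θ (⟨φ ⟨s, hsm⟩, hφS _⟩⁻¹ * ⟨x, hxS⟩) = 1 := by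
          rw [map_mul, map_inv, h, inv_mul_cancel]
        rw [show x = φ ⟨s, hsm⟩ * ((φ ⟨s, hsm⟩)⁻¹ * x) by group]
        exact Subgroup.mul_mem _ ⟨_, rfl⟩ (himg _ ((hθ _).1 h1))
      · rintro _ ⟨x, rfl⟩
        exact mem_preimageAlong.2 ⟨hφS x, ⟨_, hind x⟩⟩
    have hψ' : ψ.comp (MulEquiv.subgroupCongr hpre).toMonoidHom ∈ F.Hom (preimageAlong θ φ'.range) := by
      have hm : IsMap F (preimageAlong θ φ'.range) (homFun ψ) := by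
        rw [hpre]; exact isMap_of_mem hψ
      refine mem_hom_of_isMap hm fun x => ?_
      rw [homFun_mem ψ (hpre.le x.2)]
      rfl
    obtain ⟨ψ', hψ'i⟩ := exists_induced hθ hR (hrange.trans hS'.ge) hψ'
    refine ⟨ψ', ⟨hrange, _, hψ', hψ'i⟩, fun y => ?_⟩
    obtain ⟨hle', hψS, hmem', hind'⟩ := hψ'i
    obtain ⟨s, hs⟩ : (y : Ω') ∈ θ.range := hS' ▸ hP' y.2
    have hsm : (s : Ω) ∈ preimageAlong θ P' := ⟨s, (show θ s ∈ P' from hs ▸ y.2), rfl⟩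
    have h := hind ⟨s, hsm⟩
    rw [show (⟨θ ⟨(s : Ω), hle hsm⟩, hmem ⟨s, hsm⟩⟩ : P') = y from Subtype.ext hs] at h
    have h2 := hind' ⟨φ ⟨s, hsm⟩, by rw [hpre]; exact ⟨_, rfl⟩⟩
    rw [← hs]
    refine Eq.trans ?_ (h2.trans (congrArg θ (Subtype.ext (hinv ⟨s, hsm⟩))))
    exact congrArg ψ' (Subtype.ext h)

theorem isFactorSystem_factorSystem [Finite S] (θ : S →* Ω') {R : Subgroup Ω} (hθ : KerEq θ R)
    (hR : F.StronglyClosed R) {S' : Subgroup Ω'} (hS' : θ.range = S') :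
    F.IsFactorSystem R θ (factorSystem θ hθ hR hS') :=
  ⟨hR.1, hθ, hS', fun _ _ => Iff.rfl⟩

end Cfsg.Agent.H89
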