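import Cfsg.Agent.H89.SimpleTools

/-!
Simplicity of the fusion system on a self-normalizing Sylow subgroup in which every subgroup closed
under conjugation and meeting the centre is the whole group.
-/

set_option autoImplicit false

namespace Cfsg.Agent.H89

open Cfsg Cfsg.FusionSystem Cfsg.Agent.FusionSys

variable {G : Type*} [Group G] [Finite G] {p : ℕ} [Fact p.Prime]

/-- Every subgroup of `P` closed under `G`-conjugation into `P` and containing a nontrivial element
central in `P` is `P`. -/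
def FusionRigid (P : Subgroup G) : Prop :=
  ∀ T : Subgroup G, T ≤ P → (∀ x ∈ T, ∀ g : G, g * x * g⁻¹ ∈ P → g * x * g⁻¹ ∈ T) →
    (∃ z ∈ T, z ≠ 1 ∧ ∀ s ∈ P, s * z = z * s) → T = P

/-- The criterion, for the Sylow subgroup itself. -/
theorem isSimple_of_fusionRigid (S : Sylow p G) (hS1 : (S : Subgroup G) ≠ ⊥)
    (hN : ∀ n ∈ Subgroup.normalizer ((S : Subgroup G) : Set G), n ∈ (S : Subgroup G))
    (hR : FusionRigid (S : Subgroup G)) :
    (groupFusionSystem (S : Subgroup G)).IsSimple p := by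
  refine isSimple_of_criterion S (isSaturated_group S) hS1 ?_ ?_
  · intro T hT
    by_cases hne : T = ⊥
    · exact Or.inl hne
    · exact Or.inr (hR T hT.1 (fun x hx g hg => mem_of_conj_mem hT hx hg)
        (exists_central_mem S hT hne))
  · have hn : (S : Subgroup G) ≤ Subgroup.normalizer ((S : Subgroup G) : Set G) :=
      Subgroup.le_normalizer
    intro α hα
    obtain ⟨g, -, hg, rfl⟩ := mem_autInducedBy.1 hα
    refine Subgroup.mem_iSup_of_mem (S : Subgroup G) (Subgroup.mem_iSup_of_mem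
      ⟨isFullyNormalized_of_le_normalizer S le_rfl hn,
        isCentric_of_le_normalizer S le_rfl hn centralizerIn_le⟩ ?_)
    refine mem_autInducedBy.2 ⟨g, Subgroup.subset_closure ⟨hg, ?_⟩, hg, rfl⟩
    obtain ⟨k, hk⟩ := IsPGroup.iff_orderOf.1 S.2 ⟨g, hN g hg⟩
    exact ⟨k, by rw [← hk]; exact Subgroup.orderOf_coe (⟨g, hN g hg⟩ : (S : Subgroup G))⟩

/-- The criterion, checked on one Sylow subgroup given as a subgroup `P`. -/
theorem isSimple_of_fusionRigid_conj (P : Subgroup G) (hP : IsPGroup p P) (hidx : ¬ p ∣ P.index)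
    (hP1 : P ≠ ⊥) (hN : ∀ n ∈ Subgroup.normalizer (P : Set G), n ∈ P) (hR : FusionRigid P)
    (S : Sylow p G) : (groupFusionSystem (S : Subgroup G)).IsSimple p := by
  obtain ⟨c, hc⟩ := MulAction.exists_smul_eq G (hP.toSylow hidx) S
  have hmem : ∀ x, x ∈ (S : Subgroup G) ↔ c⁻¹ * x * c ∈ P := fun x => by
    rw [← hc, Sylow.coe_subgroup_smul, Subgroup.mem_pointwise_smul_iff_inv_smul_mem,
      IsPGroup.toSylow_coe]
    simp [MulAut.smul_def, MulAut.inv_apply, MulAut.conj_symm_apply]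
  have hup : ∀ x ∈ P, c * x * c⁻¹ ∈ (S : Subgroup G) := fun x hx => by
    rw [hmem, show c⁻¹ * (c * x * c⁻¹) * c = x by group]
    exact hx
  refine isSimple_of_fusionRigid S ?_ ?_ ?_
  · intro hS
    refine hP1 ((Subgroup.eq_bot_iff_forall _).2 fun x hx => ?_)
    have := hup x hx
    rw [hS, Subgroup.mem_bot] at this
    simpa using this
  · intro n hn
    rw [hmem]
    refine hN _ (Subgroup.mem_normalizer_iff.2 fun x => ?_)
    constructor
    · intro hx
      have := (hmem _).1 ((Subgroup.mem_normalizer_iff.1 hn _).1 (hup x hx))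
      rwa [show c⁻¹ * n * c * x * (c⁻¹ * n * c)⁻¹ = c⁻¹ * (n * (c * x * c⁻¹) * n⁻¹) * c by group]
    · intro hx
      have h1 : n * (c * x * c⁻¹) * n⁻¹ ∈ (S : Subgroup G) := by
        rw [show n * (c * x * c⁻¹) * n⁻¹ = c * (c⁻¹ * n * c * x * (c⁻¹ * n * c)⁻¹) * c⁻¹ by group]
        exact hup _ hx
      have := (hmem _).1 ((Subgroup.mem_normalizer_iff.1 hn _).2 h1)
      rwa [show c⁻¹ * (c * x * c⁻¹) * c = x by group] at this
  · intro T hT hcl hz
    obtain ⟨z, hz, hz1, hzc⟩ := hz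
    have key := hR (T.comap (MulAut.conj c).toMonoidHom) (fun x hx => ?_) (fun x hx g hg => ?_)
      ⟨c⁻¹ * z * c, ?_, ?_, ?_⟩
    · refine le_antisymm hT fun x hx => ?_
      have h2 := (hmem x).1 hx
      rw [← key] at h2
      have h3 : c * (c⁻¹ * x * c) * c⁻¹ ∈ T := h2
      rwa [show c * (c⁻¹ * x * c) * c⁻¹ = x by group] at h3
    · have h1 := (hmem _).1 (hT (show c * x * c⁻¹ ∈ T from hx))
      rwa [show c⁻¹ * (c * x * c⁻¹) * c = x by group] at h1
    · have h1 := hcl (c * x * c⁻¹) hx (c * g * c⁻¹) (by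
        rw [show c * g * c⁻¹ * (c * x * c⁻¹) * (c * g * c⁻¹)⁻¹ = c * (g * x * g⁻¹) * c⁻¹ by group]
        exact hup _ hg)
      show c * (g * x * g⁻¹) * c⁻¹ ∈ T
      rwa [show c * (g * x * g⁻¹) * c⁻¹ = c * g * c⁻¹ * (c * x * c⁻¹) * (c * g * c⁻¹)⁻¹ by group]
    · show c * (c⁻¹ * z * c) * c⁻¹ ∈ T
      rwa [show c * (c⁻¹ * z * c) * c⁻¹ = z by group]
    · intro h
      apply hz1
      calc z = c * (c⁻¹ * z * c) * c⁻¹ := by group
        _ = 1 := by rw [h]; group
    · intro s hs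
      calc s * (c⁻¹ * z * c) = c⁻¹ * ((c * s * c⁻¹) * z) * c := by group
        _ = c⁻¹ * (z * (c * s * c⁻¹)) * c := by rw [hzc _ (hup s hs)]
        _ = c⁻¹ * z * c * s := by group

end Cfsg.Agent.H89
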