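import Cfsg.Agent.H89.ResidualExtend

/-!
The `p'`-residual of a weakly normal subsystem is normal.
-/

set_option autoImplicit false
set_option linter.style.haveILetI false
set_option linter.unusedSectionVars false

namespace Cfsg.Agent.H89.ResidualNormal

open Cfsg Cfsg.FusionSystem Cfsg.Agent.FusionSys Cfsg.Agent.H91.CentFocal Cfsg.Agent.H91.CentSE
open Cfsg.Agent.H89.ResidualExtend
open Cfsg.FusionSystem (centralizerIn normalizerIn)

variable {Ω : Type*} [Group Ω] {S T : Subgroup Ω} {F : FusionSystem S} {E : FusionSystem T} {p : ℕ}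

theorem map_cent {A X : Subgroup Ω} {g : Ω → Ω} (hg : IsMap F X g) (hAX : A ≤ X) {c : Ω} (hc : c ∈ X)
    (hcc : ∀ a ∈ A, a * c = c * a) : g c ∈ centralizerIn S (imgSub g A) :=
  FusionSys.mem_centralizerIn.2 ⟨hg.mem_S hc, fun y hy => by
    obtain ⟨a, ha, rfl⟩ := (hg.mono hAX).mem_imgSub.1 hy
    rw [← hg.map_mul (hAX ha) hc, ← hg.map_mul hc (hAX ha), hcc a ha]⟩

variable [Finite S]

theorem map_cent_top (hT : F.StronglyClosed T) {g : Ω → Ω}
    (hg : IsMap F (T ⊔ centralizerIn S T) g) {c : Ω} (hc : c ∈ centralizerIn S T) :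
    g c ∈ centralizerIn S T := by
  haveI : Finite T := finite_of_le hT.1
  have hgT : IsMap F T g := hg.mono le_sup_left
  have h := map_cent hg le_sup_left (Subgroup.mem_sup_right hc)
    (FusionSys.mem_centralizerIn.1 hc).2
  rwa [← (isIso_of_mapsTo hgT ((stronglyClosed_iff.1 hT).2 T g le_rfl hgT)).eq_imgSub] at h

theorem maps_top (hT : F.StronglyClosed T) {g : Ω → Ω}
    (hg : IsMap F (T ⊔ centralizerIn S T) g) {y : Ω} (hy : y ∈ T ⊔ centralizerIn S T) :
    g y ∈ T ⊔ centralizerIn S T :=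
  hg.mapsTo_sup (fun t ht => Subgroup.mem_sup_left
      ((stronglyClosed_iff.1 hT).2 T g le_rfl (hg.mono le_sup_left) t ht))
    (fun _ hc => Subgroup.mem_sup_right (map_cent_top hT hg hc)) hy

/-- The automorphisms of `T` extending to `T C_S(T)` trivially modulo `T`. -/
def ExtT (F : FusionSystem S) (T : Subgroup Ω) (a : MulAut T) : Prop :=
  ∃ b, IsMap F (T ⊔ centralizerIn S T) b ∧ (∀ t ∈ T, b t = autMap a t) ∧
    ∀ c ∈ centralizerIn S T, c⁻¹ * b c ∈ T

theorem extT_one (hT : F.StronglyClosed T) : ExtT F T 1 :=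
  ⟨id, isMap_id F (sup_cent_le hT.1 le_rfl), fun t ht => (FusionSys.autMap_one ht).symm,
    fun c _ => by rw [id_eq, inv_mul_cancel]; exact T.one_mem⟩

theorem ExtT.mul (hT : F.StronglyClosed T) {a₁ a₂ : MulAut T} (h₁ : ExtT F T a₁) (h₂ : ExtT F T a₂) :
    ExtT F T (a₁ * a₂) := by
  obtain ⟨b₁, hb₁, h1, h1c⟩ := h₁
  obtain ⟨b₂, hb₂, h2, h2c⟩ := h₂
  refine ⟨b₁ ∘ b₂, hb₂.comp hb₁ fun y hy => maps_top hT hb₂ hy, fun t ht => ?_, fun c hc => ?_⟩
  · rw [Function.comp_apply, h2 t ht, h1 _ (autMap_mem _ ht), autMap_mul _ _ ht]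
  · have := T.mul_mem (h2c c hc) (h1c _ (map_cent_top hT hb₂ hc))
    rw [mul_assoc, mul_inv_cancel_left] at this
    exact this

/-- The subgroup they form. -/
def extSub (hT : F.StronglyClosed T) : Subgroup (MulAut T) where
  carrier := {a | ExtT F T a}
  one_mem' := extT_one hT
  mul_mem' := fun ha hb => ExtT.mul hT ha hb
  inv_mem' := fun {a} ha => by
    haveI : Finite T := finite_of_le hT.1
    haveI : Finite (MulAut T) := Finite.of_injective (fun e : MulAut T => (e : T → T)) DFunLike.coe_injective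
    have h : a⁻¹ = a ^ (orderOf a - 1) := inv_eq_of_mul_eq_one_right (by
      rw [← pow_succ', Nat.sub_add_cancel (orderOf_pos a), pow_orderOf_eq_one])
    rw [h]
    generalize orderOf a - 1 = j
    induction j with
    | zero => rw [pow_zero]; exact extT_one hT
    | succ j ihj => rw [pow_succ]; exact ExtT.mul hT ihj ha

theorem autInduced_le_extSub (hT : F.StronglyClosed T) : autInducedBy T T ≤ extSub hT := by
  intro a ha
  obtain ⟨t, ht, hn, rfl⟩ := mem_autInducedBy.1 ha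
  refine ⟨conjMap t, isMap_conj F (sup_cent_le hT.1 le_rfl) (hT.1 ht),
    fun x hx => (autMap_conjAut hn hx).symm, fun c hc => ?_⟩
  rw [conjMap_apply, cent_comm le_rfl hc ht, mul_inv_cancel_right, inv_mul_cancel]
  exact T.one_mem

/-- `f` extends to `P C_S(T)` trivially modulo `T`. -/
def Good (F : FusionSystem S) (T P : Subgroup Ω) (f : Ω → Ω) : Prop :=
  ∃ g, IsMap F (P ⊔ centralizerIn S T) g ∧ (∀ x ∈ P, g x = f x) ∧
    ∀ y ∈ P ⊔ centralizerIn S T, y⁻¹ * g y ∈ T

theorem diff_mem (hE : E.IsInvariantIn F) {P : Subgroup Ω} {f g : Ω → Ω}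
    (hP : E.IsCentric P) (hf : IsMap E P f) (hg : IsMap F (P ⊔ centralizerIn S T) g)
    (he : ∀ x ∈ P, g x = f x) {c : Ω} (hc : c ∈ centralizerIn S T) (hz : c⁻¹ * g c ∈ T) :
    c⁻¹ * g c ∈ imgSub f P := by
  haveI : Finite T := finite_of_le hE.2.1.1
  have hQ : E.IsCentric (imgSub f P) := isCentric_of_isConj hP hf.isIso.isConj
  refine hQ.2 _ (isConj_refl E hQ.1) (FusionSys.mem_centralizerIn.2 ⟨hz, fun y hy => ?_⟩)
  obtain ⟨x, hx, rfl⟩ := hf.mem_imgSub.1 hy
  have h2 : f x * g c = g c * f x := by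
    rw [← he x hx, ← hg.map_mul (Subgroup.mem_sup_left hx) (Subgroup.mem_sup_right hc),
      ← hg.map_mul (Subgroup.mem_sup_right hc) (Subgroup.mem_sup_left hx), cent_comm hP.1 hc hx]
  calc f x * (c⁻¹ * g c) = f x * c⁻¹ * g c := (mul_assoc _ _ _).symm
    _ = c⁻¹ * f x * g c := by rw [cent_comm le_rfl (Subgroup.inv_mem _ hc) (hf.mem_S hx)]
    _ = c⁻¹ * g c * f x := by rw [mul_assoc, h2, mul_assoc]

/-- The maps of `E` which on centric subgroups extend trivially modulo `T`. -/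
noncomputable def goodSys (hS : IsPGroup p S) [Fact p.Prime] (hF : F.IsSaturated p)
    (hEs : E.IsSaturated p) (hE : E.IsInvariantIn F) : FusionSystem T :=
  subSys E (fun P f => E.IsCentric P → Good F T P f)
    (fun P f g h he hP => by
      obtain ⟨k, hk, hkf, hkm⟩ := h hP
      exact ⟨k, hk, fun x hx => (hkf x hx).trans (he x hx).symm, hkm⟩)
    (fun P a hP ha _ => by
      have hT := hE.2.1
      refine ⟨conjMap a, isMap_conj F (sup_cent_le hT.1 hP) (hT.1 ha), fun _ _ => rfl, fun y hy => ?_⟩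
      have := T.mul_mem (conj_mem_closed hT (S.inv_mem (sup_cent_le hT.1 hP hy)) ha) (T.inv_mem ha)
      convert this using 1
      rw [conjMap_apply]
      group)
    (fun P Q f g hf hg hm h1 h2 hP => by
      have hT := hE.2.1
      haveI : Finite T := finite_of_le hT.1
      obtain ⟨k₁, hk₁, he₁, hm₁⟩ := h1 hP
      have hQ' : E.IsCentric (imgSub f P) := isCentric_of_isConj hP hf.isIso.isConj
      have hle : imgSub f P ≤ Q := fun y hy => by
        obtain ⟨x, hx, rfl⟩ := hf.mem_imgSub.1 hy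
        exact hm x hx
      obtain ⟨k₂, hk₂, he₂, hm₂⟩ := h2 (isCentric_of_le hQ' hle hg.le)
      have hmaps : ∀ y ∈ P ⊔ centralizerIn S T, k₁ y ∈ Q ⊔ centralizerIn S T := fun y hy =>
        hk₁.mapsTo_sup (fun x hx => Subgroup.mem_sup_left ((he₁ x hx).symm ▸ hm x hx))
          (fun c hc => by
            have hz := hle (diff_mem hE hP hf hk₁ he₁ hc (hm₁ c (Subgroup.mem_sup_right hc)))
            have := mul_mem (Subgroup.mem_sup_right (S := Q) hc) (Subgroup.mem_sup_left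
              (T := centralizerIn S T) hz)
            rwa [mul_inv_cancel_left] at this) hy
      refine ⟨k₂ ∘ k₁, hk₁.comp hk₂ hmaps, fun x hx => ?_, fun y hy => ?_⟩
      · rw [Function.comp_apply, he₁ x hx, he₂ _ (hm x hx), Function.comp_apply]
      · have := T.mul_mem (hm₁ y hy) (hm₂ _ (hmaps y hy))
        rw [mul_assoc, mul_inv_cancel_left] at this
        exact this)
    (fun P Q f g hf hg hgf h hQ => by
      have hT := hE.2.1
      haveI : Finite T := finite_of_le hT.1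
      have hP : E.IsCentric P := isCentric_of_isConj hQ (isConj_symm hf.isConj)
      obtain ⟨k, hk, he, hm⟩ := h hP
      obtain ⟨k', hk', hk'e⟩ := hk.exists_inv
      have hle : Q ⊔ centralizerIn S T ≤ imgSub k (P ⊔ centralizerIn S T) := by
        refine sup_le (fun y hy => ?_) fun c hc => ?_
        · obtain ⟨x, hx, rfl⟩ := hf.exists_preimage hy
          exact hk.mem_imgSub.2 ⟨x, Subgroup.mem_sup_left hx, he x hx⟩
        · obtain ⟨x, hx, hxe⟩ := hf.isMap.mem_imgSub.1
            (diff_mem hE hP hf.isMap hk he hc (hm c (Subgroup.mem_sup_right hc)))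
          refine hk.mem_imgSub.2 ⟨c * x⁻¹, mul_mem (Subgroup.mem_sup_right hc)
            (Subgroup.mem_sup_left (P.inv_mem hx)), ?_⟩
          rw [hk.map_mul (Subgroup.mem_sup_right hc) (Subgroup.mem_sup_left (P.inv_mem hx)),
            hk.map_inv (Subgroup.mem_sup_left hx), he x hx, hxe, _root_.mul_inv_rev, inv_inv,
            mul_inv_cancel_left]
      refine ⟨k', hk'.mono hle, fun y hy => ?_, fun y hy => ?_⟩
      · obtain ⟨x, hx, rfl⟩ := hf.exists_preimage hy
        rw [← he x hx, hk'e x (Subgroup.mem_sup_left hx), he x hx, hgf x hx]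
      · obtain ⟨w, hw, rfl⟩ := hk.mem_imgSub.1 (hle hy)
        rw [hk'e w hw]
        have := T.inv_mem (hm w hw)
        rwa [_root_.mul_inv_rev, inv_inv] at this)

variable [Fact p.Prime]

theorem hyp0_goodSys (hS : IsPGroup p S) (hF : F.IsSaturated p) (hEs : E.IsSaturated p)
    (hE : E.IsInvariantIn F) : S5114.Hyp0 p E (goodSys hS hF hEs hE) := by
  have hT := hE.2.1
  haveI : Finite T := finite_of_le hT.1
  have hTp : IsPGroup p T := hS.to_le hT.1
  intro P hP
  rw [S5114.opAut, MonoidHom.map_closure, Subgroup.closure_le]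
  rintro _ ⟨α, ⟨i, hi⟩, rfl⟩
  suffices hg : Good F T P (autMap (α : MulAut P)) by
    obtain ⟨φ, hφ, hφe⟩ := (mem_autGroup_iff hP.1).1 α.2
    exact mem_autGroup_of_isMap ⟨φ, ⟨hφ, fun _ => by
      obtain ⟨g, hg, he, hm⟩ := hg
      exact ⟨g, hg, fun x hx => by rw [homFun_mem φ hx, he x hx]; exact (hφe ⟨x, hx⟩).symm, hm⟩⟩, hφe⟩
  have hPS : P ≤ S := hP.1.trans hT.1
  obtain ⟨R, hRc, hRn⟩ := exists_isFullyNormalized F hPS
  obtain ⟨g, hg, hgi, -⟩ := exists_map_to_fullyNormalized hS hF hRn hRc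
  have hR : E.IsCentric R := isCentric_target hE hP hgi
  have hRS : R ≤ S := hRn.1
  set δ := hgi.autEquiv (α : MulAut P) with hδ
  have hδE : δ ∈ E.autGroup R := autEquiv_mem hE hP.1 hgi α.2
  haveI := finite_autGroup E hR.1
  obtain ⟨-, Sy, hSy⟩ := isFullyAutomized_of_isFullyNormalized hTp hEs
    (isFullyNormalized_sub hS hF hE.1 hT hR.1 hRn)
  set δ' : E.autGroup R := ⟨δ, hδE⟩
  have hδo : orderOf δ' = p ^ i := by
    rw [← Subgroup.orderOf_coe]
    show orderOf δ = _
    rw [hδ, MulEquiv.orderOf_eq, Subgroup.orderOf_coe]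
    exact hi
  have hz : IsPGroup p (Subgroup.zpowers δ') := IsPGroup.of_card (n := i) (by rw [Nat.card_zpowers, hδo])
  obtain ⟨Sy', hSy'⟩ := hz.exists_le_sylow
  obtain ⟨γ, hγ⟩ := MulAction.exists_smul_eq (E.autGroup R) Sy' Sy
  have hmem : γ * δ' * γ⁻¹ ∈ (Sy : Subgroup (E.autGroup R)) := by
    rw [← hγ, Sylow.coe_subgroup_smul]
    exact ⟨δ', hSy' (Subgroup.mem_zpowers _), rfl⟩
  rw [hSy] at hmem
  obtain ⟨t, htT, htn, hte⟩ := mem_autInducedBy.1 hmem
  have hγm : IsMap F R (autMap (γ : MulAut R)) := isMap_of_sub hE.1 (autGroup_set_subgroup hR.1 γ.2)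
  set CR := centralizerIn S R with hCR
  set Z := R ⊔ CR with hZ
  have hZS : Z ≤ S := sup_le hRS centralizerIn_le
  haveI : Finite Z := finite_of_le hZS
  haveI : Finite R := finite_of_le hRS
  obtain ⟨γe, hγe, hγee⟩ := receptive_extend (receptive_of_isFullyNormalized hS hF hRn)
    (isIso_of_mapsTo hγm fun x hx => autMap_mem _ hx) (N := CR)
    fun x hx => hγm.inExt_of_centralizes hx
  have hγeZ : IsMap F Z γe := hγe.mono (sup_comm R CR).le
  have himg : imgSub γe R = R := ((isIso_of_mapsTo (hγeZ.mono le_sup_left) fun x hx => by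
    rw [hγee x hx]; exact autMap_mem _ hx).eq_imgSub).symm
  have hγeZm : ∀ y ∈ Z, γe y ∈ Z := fun y hy => hγeZ.mapsTo_sup
    (fun x hx => Subgroup.mem_sup_left ((hγee x hx).symm ▸ autMap_mem _ hx))
    (fun c hc => by
      have := map_cent hγeZ le_sup_left (Subgroup.mem_sup_right hc)
        (FusionSys.mem_centralizerIn.1 hc).2
      rw [himg] at this
      exact Subgroup.mem_sup_right this) hy
  obtain ⟨Γ, hΓ, hΓe⟩ := (isIso_of_mapsTo hγeZ hγeZm).exists_aut
  have htZ : t ∈ Subgroup.normalizer (Z : Set Ω) := by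
    refine mem_normalizer_of_maps fun y hy => ?_
    have hm : IsMap F Z (conjMap t) := isMap_conj F hZS (hT.1 htT)
    have hmR : imgSub (conjMap t) R = R := ((isIso_of_mapsTo (hm.mono le_sup_left) fun x hx =>
      (Subgroup.mem_normalizer_iff.1 htn x).1 hx).eq_imgSub).symm
    exact hm.mapsTo_sup (fun x hx => Subgroup.mem_sup_left ((Subgroup.mem_normalizer_iff.1 htn x).1 hx))
      (fun c hc => by
        have := map_cent hm le_sup_left (Subgroup.mem_sup_right hc)
          (FusionSys.mem_centralizerIn.1 hc).2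
        rw [hmR] at this
        exact Subgroup.mem_sup_right this) hy
  set cT : F.autGroup Z := ⟨conjAut htZ, conjAut_mem_autGroup F hZS ⟨hT.1 htT, htZ⟩⟩
  have hcT : cT ∈ modSub hT hZS := fun y hy => by
    rw [autMap_conjAut _ hy, conjMap_apply]
    have := T.mul_mem (conj_mem_closed hT (S.inv_mem (hZS hy)) htT) (T.inv_mem htT)
    convert this using 1
    group
  set Δ : F.autGroup Z := (⟨Γ, hΓ⟩ : F.autGroup Z)⁻¹ * cT * (⟨Γ, hΓ⟩ : F.autGroup Z)⁻¹⁻¹ with hΔ
  have hΔm : Δ ∈ modSub hT hZS := modSub_conj hT hZS hcT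
  have hΔR : ∀ x ∈ R, autMap (Δ : MulAut Z) x = autMap δ x := by
    intro x hx
    have hxZ : x ∈ Z := Subgroup.mem_sup_left hx
    have h1 := congrArg (fun a : MulAut R => autMap a (autMap (γ : MulAut R) x)) hte
    simp only [Subgroup.coe_subtype, Subgroup.coe_mul, Subgroup.coe_inv] at h1
    rw [autMap_conjAut _ (autMap_mem _ hx), conjMap_apply,
      autMap_mul _ _ (autMap_mem _ hx), autMap_mul _ _ (autMap_mem _ (autMap_mem _ hx)),
      ← autMap_mul (γ : MulAut R)⁻¹ _ hx, inv_mul_cancel, FusionSys.autMap_one hx] at h1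
    have hdx : autMap δ x ∈ R := autMap_mem _ hx
    simp only [hΔ, inv_inv, Subgroup.coe_mul, Subgroup.coe_inv, cT]
    rw [autMap_mul _ _ hxZ, hΓe x hxZ, hγee x hx, autMap_mul _ _ (Subgroup.mem_sup_left (autMap_mem _ hx)),
      autMap_conjAut _ (Subgroup.mem_sup_left (autMap_mem _ hx)), conjMap_apply, ← h1,
      show autMap (γ : MulAut R) (autMap δ x) = autMap Γ (autMap δ x) by
        rw [hΓe _ (Subgroup.mem_sup_left hdx), hγee _ hdx],
      S5114.inv_autMap_apply Γ (Subgroup.mem_sup_left hdx)]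
  set X := P ⊔ centralizerIn S T with hX
  have hXN : X ≤ normalizerIn S P := sup_le (le_normalizerIn_self hPS)
    ((cent_le hP.1).trans centralizerIn_le_normalizerIn)
  have hgX : IsMap F X g := hg.mono hXN
  have hgXZ : ∀ y ∈ X, g y ∈ Z := fun y hy => hgX.mapsTo_sup
    (fun x hx => Subgroup.mem_sup_left (hgi.mem hx))
    (fun c hc => by
      have := map_cent hgX le_sup_left (Subgroup.mem_sup_right hc) fun a ha => cent_comm hP.1 hc ha
      rw [← hgi.eq_imgSub] at this
      exact Subgroup.mem_sup_right this) hy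
  have hkey : ∀ y ∈ X, ∃ x ∈ P, autMap (Δ : MulAut Z) (g y) = g (y * x) := by
    intro y hy
    have hd := hΔm _ (hgXZ y hy)
    have hdR : (g y)⁻¹ * autMap (Δ : MulAut Z) (g y) ∈ R := by
      obtain ⟨a, ha, c, hc, hac⟩ := exists_decomp (fun x hx b hb => (FusionSys.mem_centralizerIn.1 hx).2 b hb)
        (mul_mem (inv_mem (hgXZ y hy)) (autMap_mem (Δ : MulAut Z) (hgXZ y hy)))
      rw [hac] at hd ⊢
      have hcT' : c ∈ T := by
        have := T.mul_mem (T.inv_mem (hR.1 ha)) hd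
        rwa [inv_mul_cancel_left] at this
      exact R.mul_mem ha (hR.2 R (isConj_refl E hR.1)
        (FusionSys.mem_centralizerIn.2 ⟨hcT', (FusionSys.mem_centralizerIn.1 hc).2⟩))
    obtain ⟨x, hx, hxe⟩ := hgi.exists_preimage hdR
    exact ⟨x, hx, by rw [hgX.map_mul hy (Subgroup.mem_sup_left hx), hxe, mul_inv_cancel_left]⟩
  obtain ⟨k, hk, hkg⟩ := hgX.exists_inv
  have hΔmap : IsMap F Z (autMap (Δ : MulAut Z)) := (mem_autGroup_iff hZS).1 Δ.2
  have hΔim : ∀ y ∈ X, autMap (Δ : MulAut Z) (g y) ∈ imgSub g X := fun y hy => by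
    obtain ⟨x, hx, hxe⟩ := hkey y hy
    exact hgX.mem_imgSub.2 ⟨_, mul_mem hy (Subgroup.mem_sup_left hx), hxe.symm⟩
  refine ⟨k ∘ (autMap (Δ : MulAut Z) ∘ g), (hgX.comp hΔmap hgXZ).comp hk hΔim,
    fun x hx => ?_, fun y hy => ?_⟩
  · rw [Function.comp_apply, Function.comp_apply, hΔR _ (hgi.mem hx), hδ, hgi.autMap_autEquiv _ hx,
      hkg _ (Subgroup.mem_sup_left (autMap_mem _ hx))]
  · obtain ⟨x, hx, hxe⟩ := hkey y hy
    rw [Function.comp_apply, Function.comp_apply, hxe, hkg _ (mul_mem hy (Subgroup.mem_sup_left hx)),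
      inv_mul_cancel_left]
    exact hP.1 hx

theorem good_of_inE0 (hS : IsPGroup p S) (hF : F.IsSaturated p) (hEs : E.IsSaturated p)
    (hE : E.IsInvariantIn F) {P : Subgroup Ω} {f : Ω → Ω} (hP : E.IsCentric P)
    (hf : S5114.InE0 p E P f) : Good F T P f := by
  obtain ⟨φ, ⟨-, hΦ⟩, he⟩ := hf _ (hyp0_goodSys hS hF hEs hE)
  obtain ⟨g, hg, hge, hgm⟩ := hΦ hP
  exact ⟨g, hg, fun x hx => by rw [hge x hx, homFun_mem φ hx]; exact he ⟨x, hx⟩, hgm⟩

theorem h0set_le (hS : IsPGroup p S) (hF : F.IsSaturated p) (hEs : E.IsSaturated p)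
    (hE : E.IsInvariantIn F) [Finite T] {β : MulAut T} (hβ : β ∈ S5140.H0set p E) :
    β ∈ extSub hE.2.1 := by
  obtain ⟨hβE, P, f, hP, hf, he⟩ := hβ
  have hT := hE.2.1
  have hTS := hT.1
  have hTp : IsPGroup p T := hS.to_le hTS
  set C := centralizerIn S T with hC
  obtain ⟨g, hg, hge, hgm⟩ := good_of_inE0 hS hF hEs hE hP hf
  set Y := P ⊔ C with hY
  set X := T ⊔ C with hX
  have hXS : X ≤ S := sup_cent_le hTS le_rfl
  have hYS : Y ≤ S := sup_cent_le hTS hP.1
  have hYX : Y ≤ X := sup_le_sup_right hP.1 C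
  haveI : Finite X := finite_of_le hXS
  haveI : Finite Y := finite_of_le hYS
  have hβm : IsMap F T (autMap β) := isMap_of_sub hE.1 (autGroup_set_subgroup le_rfl hβE)
  obtain ⟨b0, hb0, hb0e⟩ := receptive_extend (receptive_of_isFullyCentralized hS hF
      (isFullyCentralized_closed hT)) (isIso_of_mapsTo hβm fun x hx => autMap_mem _ hx) (N := C)
    fun x hx => hβm.inExt_of_centralizes hx
  replace hb0 : IsMap F X b0 := hb0.mono (sup_comm T C).le
  obtain ⟨B, hB, hBe⟩ := (isIso_of_mapsTo hb0 fun y hy => maps_top hT hb0 hy).exists_aut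
  have hBm : IsMap F X (autMap B) := (mem_autGroup_iff hXS).1 hB
  have hBi : IsMap F X (autMap B⁻¹) := (mem_autGroup_iff hXS).1 (Subgroup.inv_mem _ hB)
  have hTX : T ≤ X := le_sup_left
  have hBT : ∀ t ∈ T, autMap B t = autMap β t := fun t ht => (hBe t (hTX ht)).trans (hb0e t ht)
  have hgX : ∀ y ∈ Y, g y ∈ X := fun y hy => by
    have := mul_mem (hYX hy) (hTX (hgm y hy))
    rwa [mul_inv_cancel_left] at this
  have hfP : ∀ x ∈ P, g x = autMap B x := fun x hx => by rw [hge x hx, ← he x hx, hBT x (hP.1 hx)]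
  have hu0 : IsMap F Y (autMap B⁻¹ ∘ g) := hg.comp hBi hgX
  have hu0P : ∀ x ∈ P, (autMap B⁻¹ ∘ g) x = x := fun x hx => by
    rw [Function.comp_apply, hfP x hx, S5114.inv_autMap_apply B (hTX (hP.1 hx))]
  have hu0Y : ∀ y ∈ Y, (autMap B⁻¹ ∘ g) y ∈ Y := fun y hy => hu0.mapsTo_sup
    (fun x hx => Subgroup.mem_sup_left ((hu0P x hx).symm ▸ hx))
    (fun c hc => by
      have hcY : c ∈ Y := Subgroup.mem_sup_right hc
      obtain ⟨x, hx, hxe⟩ := (hf.isMap).mem_imgSub.1 (diff_mem hE hP hf.isMap hg hge hc (hgm c hcY))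
      have hgc : g c = c * autMap B x := by
        rw [hBT x (hP.1 hx), he x hx, hxe, mul_inv_cancel_left]
      rw [Function.comp_apply, hgc, hBi.map_mul (hYX hcY) (autMap_mem _ (hTX (hP.1 hx))),
        S5114.inv_autMap_apply B (hTX (hP.1 hx))]
      exact mul_mem (Subgroup.mem_sup_right (map_cent_top hT hBi hc)) (Subgroup.mem_sup_left hx)) hy
  obtain ⟨ν, hν, hνe⟩ := (isIso_of_mapsTo hu0 hu0Y).exists_aut
  haveI := finite_autGroup F hYS
  have hn0 : orderOf ν ≠ 0 := by
    have := orderOf_pos (⟨ν, hν⟩ : F.autGroup Y)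
    rw [← Subgroup.orderOf_coe] at this
    exact this.ne'
  obtain ⟨a, m, hm, hn⟩ := Nat.exists_eq_pow_mul_and_not_dvd hn0 p (Fact.out : p.Prime).ne_one
  have hνP : ∀ j : ℕ, ∀ x ∈ P, autMap (ν ^ j) x = x := by
    intro j
    induction j with
    | zero => intro x hx; rw [pow_zero, FusionSys.autMap_one (Subgroup.mem_sup_left hx)]
    | succ j ihj =>
      intro x hx
      rw [pow_succ', autMap_mul _ _ (Subgroup.mem_sup_left hx), ihj x hx,
        hνe x (Subgroup.mem_sup_left hx), hu0P x hx]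
  obtain ⟨κ, hκ, hκT, hκY⟩ := exists_extend hS hF hT P hP.1 (WeakResidual.ctr_of_isCentric hE hP)
    (autMap (ν ^ p ^ a)) ((mem_autGroup_iff hYS).1 (pow_mem hν _)) (fun y hy => autMap_mem _ hy)
    (hνP _) m ((Fact.out : p.Prime).coprime_iff_not_dvd.2 hm) (fun y hy => by
      rw [autMap_pow _ (fun _ _ => rfl) m hy, ← pow_mul, ← hn, pow_orderOf_eq_one,
        FusionSys.autMap_one hy])
  obtain ⟨K, hK, hKe⟩ := (isIso_of_mapsTo hκ fun y hy => maps_top hT hκ hy).exists_aut
  have hBpT : ∀ j : ℕ, ∀ t ∈ T, autMap (B ^ j) t = autMap (β ^ j) t := by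
    intro j
    induction j with
    | zero => intro t ht; rw [pow_zero, pow_zero, FusionSys.autMap_one (hTX ht), FusionSys.autMap_one ht]
    | succ j ihj =>
      intro t ht
      rw [pow_succ', pow_succ', autMap_mul _ _ (hTX ht), autMap_mul _ _ ht, ihj t ht,
        hBT _ (autMap_mem _ ht)]
  have key : ∀ j : ℕ, ∀ c ∈ Y, c⁻¹ * autMap (B ^ j) (autMap (ν ^ j) c) ∈ T := by
    intro j
    induction j with
    | zero =>
      intro c hc
      rw [pow_zero, pow_zero, FusionSys.autMap_one hc, FusionSys.autMap_one (hYX hc), inv_mul_cancel]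
      exact T.one_mem
    | succ j ihj =>
      intro c hc
      set y := autMap (ν ^ j) c with hy
      have hyY : y ∈ Y := autMap_mem _ hc
      rw [pow_succ' ν, autMap_mul _ _ hc, ← hy, pow_succ B, autMap_mul _ _ (hYX (autMap_mem _ hyY)),
        hνe y hyY, Function.comp_apply, autMap_inv_apply B (hgX y hyY),
        show g y = y * (y⁻¹ * g y) by group,
        ((mem_autGroup_iff hXS).1 (pow_mem hB j)).map_mul (hYX hyY) (hTX (hgm y hyY)), ← mul_assoc]
      exact T.mul_mem (ihj c hc) (by rw [hBpT j _ (hgm y hyY)]; exact autMap_mem _ (hgm y hyY))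
  have hpow : β ^ p ^ a ∈ extSub hT := by
    refine ⟨autMap (B ^ p ^ a * K), (mem_autGroup_iff hXS).1 (mul_mem (pow_mem hB _) hK),
      fun t ht => ?_, fun c hc => ?_⟩
    · rw [autMap_mul _ _ (hTX ht), hKe t (hTX ht), hκT t ht, hBpT _ t ht]
    · have hcY : c ∈ Y := Subgroup.mem_sup_right hc
      rw [autMap_mul _ _ (hYX hcY), hKe c (hYX hcY), hκY c hcY]
      exact key _ c hcY
  -- the index of the inner automorphisms
  haveI := finite_autGroup E (le_refl T)
  set N := (autInducedBy T T).subgroupOf (E.autGroup T) with hN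
  haveI : N.Normal := ⟨fun x hx y => by
    obtain ⟨t, ht, hn, hxe⟩ := mem_autInducedBy.1 hx
    refine mem_autInducedBy.2 ⟨autMap (y : MulAut T) t, autMap_mem _ ht,
      Subgroup.le_normalizer (autMap_mem _ ht), aut_ext fun z hz => ?_⟩
    have hym : IsMap E T (autMap (y : MulAut T)) := autGroup_set_subgroup le_rfl y.2
    simp only [Subgroup.coe_subtype, Subgroup.coe_mul, Subgroup.coe_inv] at hxe ⊢
    rw [autMap_mul _ _ hz, autMap_mul _ _ (autMap_mem _ hz), hxe, autMap_conjAut _ (autMap_mem _ hz),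
      autMap_conjAut _ hz, conjMap_apply, conjMap_apply, hym.map_conj ht (autMap_mem _ hz),
      autMap_inv_apply _ hz]⟩
  have hpn : ¬ p ∣ N.index := by
    have hTn : E.IsFullyNormalized T := ⟨le_rfl, fun Q hQ => by rw [eq_S_of_isConj hQ]⟩
    exact ((isFullyAutomized_iff hTp).1 (isFullyAutomized_of_isFullyNormalized hTp hEs hTn)).2
  set β' : E.autGroup T := ⟨β, hβE⟩ with hβ'
  set H := (extSub hT).subgroupOf (E.autGroup T) with hH
  have h2 : β' ^ N.index ∈ H := autInduced_le_extSub hT (N.pow_index_mem β')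
  have h3 : β' ^ p ^ a ∈ H := hpow
  have hco : Nat.Coprime (p ^ a) N.index :=
    ((Fact.out : p.Prime).coprime_iff_not_dvd.2 hpn).pow_left a
  have hb1 := Nat.gcd_eq_gcd_ab (p ^ a) N.index
  rw [hco.gcd_eq_one, Nat.cast_one] at hb1
  have h4 : β' ∈ H := by
    rw [← zpow_one β', hb1, zpow_add, zpow_mul, zpow_mul, zpow_natCast, zpow_natCast]
    exact mul_mem (zpow_mem h3 _) (zpow_mem h2 _)
  exact h4

/-- Every automorphism of `T` in the residual extends. -/
theorem residual_aut_le (hS : IsPGroup p S) (hF : F.IsSaturated p) (hEs : E.IsSaturated p)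
    (hE : E.IsInvariantIn F) [Finite T] {α : MulAut T}
    (hα : α ∈ (S5140.residual p E).autGroup T) : α ∈ extSub hE.2.1 := by
  obtain ⟨-, β, hβ, f₀, hf₀, hfe⟩ := S5140.isMap_residual.1 ((mem_autGroup_iff le_rfl).1 hα)
  have hTc : E.IsCentric T := ⟨le_rfl, fun Q hQ => by
    rw [eq_S_of_isConj hQ]; exact inf_le_left⟩
  obtain ⟨γ, -, hγe⟩ := (isIso_of_mapsTo hf₀.isMap fun x hx => hf₀.isMap.mem_S hx).exists_aut
  have h1 : γ ∈ extSub hE.2.1 := by
    obtain ⟨g, hg, hge, hgm⟩ := good_of_inE0 hS hF hEs hE hTc hf₀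
    exact ⟨g, hg, fun t ht => (hge t ht).trans (hγe t ht).symm,
      fun c hc => hgm c (Subgroup.mem_sup_right hc)⟩
  have h2 : β ∈ extSub hE.2.1 :=
    (Subgroup.closure_le _).2 (fun b hb => h0set_le hS hF hEs hE hb) hβ
  rw [show α = β * γ from aut_ext fun x hx => by rw [autMap_mul _ _ hx, hγe x hx, ← hfe x hx]]
  exact mul_mem h2 h1

/-- `InE0` is invariant under all of `Aut_F(T)`. -/
theorem inE0_conj (hE : E.IsInvariantIn F) [Finite T] {a : MulAut T} (ha : a ∈ F.autGroup T)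
    {P : Subgroup Ω} {f : Ω → Ω} (h : S5114.InE0 p E P f) :
    S5114.InE0 p E (imgSub (autMap a) P) (autMap a ∘ f ∘ autMap a⁻¹) := by
  intro E' hE'
  have hb : IsMap F T (autMap a) := (mem_autGroup_iff hE.2.1.1).1 ha
  have hinv : ∀ {x : Ω}, x ∈ T → autMap a⁻¹ (autMap a x) = x := fun hx =>
    S5114.inv_autMap_apply a hx
  let E'' : FusionSystem T := subSys E
    (fun P f => P ≤ T → (∀ x ∈ P, f x ∈ T) →
      IsMap E' (imgSub (autMap a) P) (autMap a ∘ f ∘ autMap a⁻¹))
    (by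
      intro P f g hf he hP hm
      have hf' := hf hP fun x hx => he x hx ▸ hm x hx
      refine hf'.congr fun y hy => ?_
      obtain ⟨x, hx, rfl⟩ := (hb.mono hP).mem_imgSub.1 hy
      simp only [Function.comp_apply, hinv (hP hx), he x hx])
    (by
      intro P c _ hc hP _
      have hle : imgSub (autMap a) P ≤ T := fun y hy => by
        obtain ⟨x, hx, rfl⟩ := (hb.mono hP).mem_imgSub.1 hy
        exact autMap_mem _ (hP hx)
      refine (isMap_conj E' hle (autMap_mem a hc)).congr fun y hy => ?_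
      obtain ⟨x, hx, rfl⟩ := (hb.mono hP).mem_imgSub.1 hy
      simp only [Function.comp_apply, hinv (hP hx), conjMap_apply]
      exact hb.map_conj hc (hP hx))
    (by
      intro P Q f g hfE hgE hPQ hf hg hP _
      have hf' := hf hP fun x hx => hfE.mem_S hx
      have hg' := hg hgE.le fun x hx => hgE.mem_S hx
      refine (hf'.comp hg' fun y hy => ?_).congr fun y hy => ?_
      · obtain ⟨x, hx, rfl⟩ := (hb.mono hP).mem_imgSub.1 hy
        simp only [Function.comp_apply, hinv (hP hx)]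
        exact (hb.mono hgE.le).mem_imgSub.2 ⟨_, hPQ x hx, rfl⟩
      · obtain ⟨x, hx, rfl⟩ := (hb.mono hP).mem_imgSub.1 hy
        simp only [Function.comp_apply, hinv (hP hx), hinv (hfE.mem_S hx)])
    (by
      intro P Q f g hf hg hgf hΦ hQ _
      have hf' := hΦ hf.source_le fun x hx => hf.isMap.mem_S hx
      obtain ⟨g', hg', hgf'⟩ := hf'.exists_inv
      have hle : imgSub (autMap a) Q ≤
          imgSub (autMap a ∘ f ∘ autMap a⁻¹) (imgSub (autMap a) P) := by
        intro y hy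
        obtain ⟨z, hz, rfl⟩ := (hb.mono hQ).mem_imgSub.1 hy
        obtain ⟨x, hx, rfl⟩ := hf.exists_preimage hz
        refine hf'.mem_imgSub.2 ⟨autMap a x,
          (hb.mono hf.source_le).mem_imgSub.2 ⟨x, hx, rfl⟩, ?_⟩
        simp only [Function.comp_apply, hinv (hf.source_le hx)]
      refine (hg'.mono hle).congr fun y hy => ?_
      obtain ⟨z, hz, rfl⟩ := (hb.mono hQ).mem_imgSub.1 hy
      obtain ⟨x, hx, rfl⟩ := hf.exists_preimage hz
      have h1 := hgf' (autMap a x) ((hb.mono hf.source_le).mem_imgSub.2 ⟨x, hx, rfl⟩)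
      simp only [Function.comp_apply, hinv (hf.source_le hx)] at h1
      simp only [Function.comp_apply, hinv (hQ (hf.mem hx)), hgf x hx, h1])
  have hE'' : S5114.Hyp0 p E E'' := by
    intro P hc
    rw [S5114.opAut, MonoidHom.map_closure, Subgroup.closure_le]
    rintro _ ⟨γ, ⟨k, hk⟩, rfl⟩
    have hiso := (hb.mono hc.1).isIso
    have hδ := autEquiv_mem hE hc.1 hiso γ.2
    have hδk : (⟨_, hδ⟩ : E.autGroup (imgSub (autMap a) P)) ∈ S5114.opAut p E _ := by
      refine Subgroup.subset_closure ⟨k, ?_⟩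
      rw [← Subgroup.orderOf_coe, MulEquiv.orderOf_eq, Subgroup.orderOf_coe]
      exact hk
    have hc' := isCentric_target hE hc hiso
    have hm := autGroup_set_subgroup hc'.1 (hE' _ hc' ⟨_, hδk, rfl⟩)
    refine mem_autGroup_of_isMap ⟨P.subtype.comp (γ : MulAut P).toMonoidHom, ⟨?_, ?_⟩,
      fun x => (autMap_coe _ x).symm⟩
    · exact mem_hom_of_isMap (autGroup_set_subgroup hc.1 γ.2) fun x => (autMap_coe _ x).symm
    · intro hP _
      refine hm.congr fun y hy => ?_
      obtain ⟨x, hx, rfl⟩ := (hb.mono hc.1).mem_imgSub.1 hy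
      rw [Subgroup.subtype_apply, hiso.autMap_autEquiv _ hx]
      simp only [Function.comp_apply, hinv (hP hx)]
      rfl
  obtain ⟨φ, hφ, hφe⟩ := h E'' hE''
  have hm := hφ.2 (E.le_of_mem hφ.1).1 fun x hx => by
    rw [homFun_mem φ hx]; exact (E.le_of_mem hφ.1).2 ⟨x, hx⟩
  refine hm.congr fun y hy => ?_
  obtain ⟨x, hx, rfl⟩ := (hb.mono h.isMap.le).mem_imgSub.1 hy
  simp only [Function.comp_apply, hinv (h.isMap.le hx), homFun_mem φ hx]
  rw [hφe ⟨x, hx⟩]

theorem h0_conj (hE : E.IsInvariantIn F) [Finite T] {a : MulAut T} (ha : a ∈ F.autGroup T)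
    {β : MulAut T} (hβ : β ∈ S5140.H0 p E) : a * β * a⁻¹ ∈ S5140.H0 p E := by
  have hle : (S5140.H0 p E).map (MulAut.conj a).toMonoidHom ≤ S5140.H0 p E := by
    rw [S5140.H0, MonoidHom.map_closure, Subgroup.closure_le]
    rintro _ ⟨b, ⟨hbE, P, f, hP, hf, he⟩, rfl⟩
    have hb : IsMap F T (autMap a) := (mem_autGroup_iff hE.2.1.1).1 ha
    refine Subgroup.subset_closure ⟨?_, imgSub (autMap a) P, _,
      isCentric_target hE hP (hb.mono hP.1).isIso, inE0_conj hE ha hf, fun y hy => ?_⟩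
    · simpa using WeakResidual.conj_mem_autGroup hE le_rfl ha hbE
    · obtain ⟨x, hx, rfl⟩ := (hb.mono hP.1).mem_imgSub.1 hy
      have hxT := hP.1 hx
      simp only [MulEquiv.coe_toMonoidHom, MulAut.conj_apply, Function.comp_apply]
      rw [autMap_mul _ _ (autMap_mem _ hxT), autMap_mul _ _ (autMap_mem _ (autMap_mem _ hxT)),
        S5114.inv_autMap_apply a hxT, he x hx]
  simpa using hle ⟨β, hβ, rfl⟩

theorem isMap_residual_conj (hE : E.IsInvariantIn F) [Finite T] {a : MulAut T}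
    (ha : a ∈ F.autGroup T) {P : Subgroup Ω} {f : Ω → Ω}
    (hf : IsMap (S5140.residual p E) P f) :
    ∃ g, IsMap (S5140.residual p E) (imgSub (autMap a) P) g ∧
      ∀ x ∈ P, g (autMap a x) = autMap a (f x) := by
  obtain ⟨hfE, β, hβ, f₀, hf₀, hfe⟩ := S5140.isMap_residual.1 hf
  have hc := inE0_conj hE ha hf₀
  have hb : IsMap F T (autMap a) := (mem_autGroup_iff hE.2.1.1).1 ha
  refine ⟨autMap (a * β * a⁻¹) ∘ (autMap a ∘ f₀ ∘ autMap a⁻¹), S5140.isMap_residual.2
    ⟨hc.isMap.comp (autGroup_set_subgroup le_rfl (S5140.H0_le (h0_conj hE ha hβ))) fun x hx =>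
      hc.isMap.mem_S hx, a * β * a⁻¹, h0_conj hE ha hβ, _, hc, fun _ _ => rfl⟩, fun x hx => ?_⟩
  have hy := hf₀.isMap.mem_S hx
  simp only [Function.comp_apply]
  rw [S5114.inv_autMap_apply a (hfE.le hx), autMap_mul _ _ (autMap_mem _ hy),
    autMap_mul _ _ (autMap_mem _ (autMap_mem _ hy)), S5114.inv_autMap_apply a hy, hfe x hx]

/-- A system with the same maps as the residual of a weakly normal system is normal. -/
theorem isNormalIn (hS : IsPGroup p S) (hE : E.IsWeaklyNormalIn F p) [Finite T] {D : FusionSystem T}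
    (hDs : D.IsSaturated p) (h1 : D.IsSubsystemOf (S5140.residual p E))
    (h2 : (S5140.residual p E).IsSubsystemOf D) : D.IsNormalIn F p := by
  have hTS : T ≤ S := hE.2.2.2.1.1
  have hTp : IsPGroup p T := hS.to_le hTS
  refine ⟨⟨hDs, hE.2.1, fun P => (h1 P).trans ((S5140.residual_sub P).trans (hE.2.2.1 P)),
    hE.2.2.2.1, fun P hP φ hφ a ha => ?_, fun P hP φ hφ => ?_⟩, fun α hα => ?_⟩
  · obtain ⟨g, hg, hge⟩ := isMap_residual_conj hE.2.2 ha (isMap_of_mem (h1 P hφ))
    have ham : IsMap F T (autMap a) := (mem_autGroup_iff hTS).1 ha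
    have himg : (P.subgroupOf T).map (T.subtype.comp a.toMonoidHom) = imgSub (autMap a) P := by
      ext z
      constructor
      · rintro ⟨w, hw, rfl⟩
        exact (ham.mono hP).mem_imgSub.2 ⟨w, hw, autMap_coe a w⟩
      · intro hz
        obtain ⟨x, hx, rfl⟩ := (ham.mono hP).mem_imgSub.1 hz
        exact ⟨⟨x, hP hx⟩, hx, (autMap_apply a (hP hx)).symm⟩
    obtain ⟨χ', hχ', hχ'e⟩ := (isMap_of_sub h2 (hg.mono himg.le) : IsMap D
      ((P.subgroupOf T).map (T.subtype.comp a.toMonoidHom)) g)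
    refine ⟨χ', hχ', fun x hφx hax => ?_⟩
    rw [hχ'e]
    show g ((a ⟨(x : Ω), hP x.2⟩ : T) : Ω) = _
    rw [← autMap_apply a (hP x.2), hge x x.2, homFun_coe, autMap_apply a hφx]
  · obtain ⟨a, ha, g, hg, hge⟩ := frattini_map hE.2.2 hP (isMap_of_mem hφ)
    obtain ⟨β, hβ, f₀, hf₀, hfe⟩ := S5114.fac_of_map hTp hE.1 hg
    obtain ⟨φ₀, hφ₀, hφ₀e⟩ := isMap_of_sub h2 (S5140.isMap_residual_inE0 hf₀)
    have hβF : β ∈ F.autGroup T :=
      mem_autGroup_of_isMap (isMap_of_sub hE.2.2.1 (autGroup_set_subgroup le_rfl hβ))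
    refine ⟨a * β, mul_mem ha hβF, φ₀, hφ₀, fun x hx => ?_⟩
    rw [← autMap_apply (a * β) hx, hφ₀e x, autMap_mul _ _ (hf₀.isMap.mem_S x.2), ← hfe x x.2,
      ← hge x x.2, homFun_coe]
  · have hαr : α ∈ (S5140.residual p E).autGroup T :=
      mem_autGroup_of_isMap (isMap_of_sub h1 ((mem_autGroup_iff le_rfl).1 hα))
    obtain ⟨b, hb, hbT, hbc⟩ := residual_aut_le hS hE.2.1 hE.1 hE.2.2 hαr
    haveI : Finite (T ⊔ centralizerIn S T : Subgroup Ω) :=
      finite_of_le (sup_cent_le hTS le_rfl)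
    obtain ⟨β, hβ, hβe⟩ := (isIso_of_mapsTo hb fun y hy =>
      maps_top hE.2.2.2.1 hb hy).exists_aut
    refine ⟨β, hβ, fun x => ?_, fun c hc => ?_⟩
    · rw [← autMap_coe β, Subgroup.coe_inclusion, hβe _ (Subgroup.mem_sup_left x.2), hbT _ x.2,
        autMap_coe]
    · rw [← autMap_coe β, hβe _ c.2]
      refine ⟨hbc _ hc, Subgroup.mul_mem _ (Subgroup.inv_mem _ ?_) ?_⟩
      · exact (FusionSys.mem_centralizerIn.1 hc).2
      · exact (FusionSys.mem_centralizerIn.1 (map_cent_top hE.2.2.2.1 hb hc)).2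

end Cfsg.Agent.H89.ResidualNormal
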