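import Cfsg.Agent.S5140

/-!
The `p'`-residual of a weakly normal subsystem over `T` lies in every weakly normal subsystem over `T`.

For a weakly normal `E` and `R ≤ T` with `C_T(R') ≤ R'` for all conjugates `R'`, the elements of `Aut_F(T)`
agreeing on `R` with a map of `E` form a group that is a `p`-group modulo `Aut_E(T)`.
-/

set_option autoImplicit false
set_option linter.style.haveILetI false
set_option linter.unusedSectionVars false

namespace Cfsg.Agent.H89.WeakResidual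

open Cfsg Cfsg.FusionSystem Cfsg.Agent.FusionSys Cfsg.Agent.H91.CentFocal Cfsg.Agent.H91.CentSE
open Cfsg.FusionSystem (centralizerIn normalizerIn)

variable {Ω : Type*} [Group Ω] {S T : Subgroup Ω} {F : FusionSystem S} {E : FusionSystem T} {p : ℕ}

/-- `b` agrees on `R` with a map of `E`. -/
def Agree (F : FusionSystem S) (E : FusionSystem T) (R : Subgroup Ω) (b : F.autGroup T) : Prop :=
  ∃ ψ, IsMap E R ψ ∧ ∀ x ∈ R, autMap (b : MulAut T) x = ψ x

theorem Agree.mono {R R' : Subgroup Ω} {b : F.autGroup T} (h : Agree F E R' b) (hle : R ≤ R') :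
    Agree F E R b := by
  obtain ⟨ψ, hψ, he⟩ := h
  exact ⟨ψ, hψ.mono hle, fun x hx => he x (hle hx)⟩

theorem agree_one {R : Subgroup Ω} (hR : R ≤ T) : Agree F E R 1 :=
  ⟨id, isMap_id E hR, fun _ hx => by rw [Subgroup.coe_one, id_eq, FusionSys.autMap_one (hR hx)]⟩

theorem Agree.conj (hE : E.IsInvariantIn F) {R : Subgroup Ω} {l : F.autGroup T} (h : Agree F E R l)
    (b : F.autGroup T) : Agree F E (imgSub (autMap (b : MulAut T)) R) (b * l * b⁻¹) := by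
  obtain ⟨ψ, hψ, he⟩ := h
  obtain ⟨χ, hχ, hχe⟩ := invariant_map hE b.2 hψ
  refine ⟨χ, hχ, fun y hy => ?_⟩
  obtain ⟨x, hx, rfl⟩ :=
    (((mem_autGroup_iff hE.2.1.1).1 b.2).mono hψ.le).mem_imgSub.1 hy
  have hxT := hψ.le hx
  rw [hχe x hx, ← he x hx, Subgroup.coe_mul, Subgroup.coe_mul, Subgroup.coe_inv,
    autMap_mul _ _ (autMap_mem _ hxT), ← autMap_mul _ _ hxT, inv_mul_cancel,
    FusionSys.autMap_one hxT, autMap_mul _ _ hxT]

/-- Moving along a map of `E`. -/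
theorem Agree.move (hE : E.IsInvariantIn F) {X : Subgroup Ω} {b : F.autGroup T} (h : Agree F E X b)
    {ψ : Ω → Ω} (hψ : IsMap E X ψ) : Agree F E (imgSub ψ X) b := by
  obtain ⟨φ, hφ, he⟩ := h
  obtain ⟨χ, hχ, hχe⟩ := invariant_map hE b.2 hψ
  obtain ⟨u, hu, huψ, -⟩ := hψ.isIso.exists_symm
  have hbX : IsMap F X (autMap (b : MulAut T)) := ((mem_autGroup_iff hE.2.1.1).1 b.2).mono hψ.le
  refine ⟨χ ∘ (φ ∘ u), (hu.isMap.comp hφ fun y hy => hu.mem hy).comp hχ fun y hy =>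
    hbX.mem_imgSub.2 ⟨u y, hu.mem hy, by rw [Function.comp_apply, he _ (hu.mem hy)]⟩, fun y hy => ?_⟩
  obtain ⟨x, hx, rfl⟩ := hψ.mem_imgSub.1 hy
  rw [Function.comp_apply, Function.comp_apply, huψ x hx, ← he x hx, hχe x hx]

theorem Agree.mul (hE : E.IsInvariantIn F) {R : Subgroup Ω} {b l : F.autGroup T}
    (hb : Agree F E R b) (hl : Agree F E R l) : Agree F E R (b * l) := by
  obtain ⟨ψ, hψ, he⟩ := hl
  obtain ⟨φ, hφ, hφe⟩ := hb.move hE hψ
  have hm : ∀ x ∈ R, ψ x ∈ imgSub ψ R := fun x hx => hψ.mem_imgSub.2 ⟨x, hx, rfl⟩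
  refine ⟨φ ∘ ψ, hψ.comp hφ hm, fun x hx => ?_⟩
  rw [Subgroup.coe_mul, autMap_mul _ _ (hψ.le hx), he x hx, hφe _ (hm x hx), Function.comp_apply]

theorem Agree.pow (hE : E.IsInvariantIn F) {R : Subgroup Ω} {b : F.autGroup T}
    (hb : Agree F E R b) (hR : R ≤ T) (n : ℕ) : Agree F E R (b ^ n) := by
  induction n with
  | zero => rw [pow_zero]; exact agree_one hR
  | succ n ih => rw [pow_succ]; exact ih.mul hE hb

variable [Finite S] [Fact p.Prime]

theorem Agree.inv (hE : E.IsInvariantIn F) {R : Subgroup Ω} {b : F.autGroup T}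
    (hb : Agree F E R b) (hR : R ≤ T) : Agree F E R b⁻¹ := by
  haveI : Finite T := finite_of_le hE.2.1.1
  haveI := finite_autGroup F hE.2.1.1
  have h : b⁻¹ = b ^ (orderOf b - 1) :=
    inv_eq_of_mul_eq_one_right (by
      rw [← pow_succ', Nat.sub_add_cancel (orderOf_pos b), pow_orderOf_eq_one])
  rw [h]
  exact hb.pow hE hR _

/-- An element agreeing with a map of `E` on a self-centralizing subgroup is a `p`-element modulo
`Aut_E(T)`. -/
theorem exists_pow_mem (hS : IsPGroup p S) (hF : F.IsSaturated p) (hEs : E.IsSaturated p)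
    (hE : E.IsInvariantIn F) (R : Subgroup Ω) (hRT : R ≤ T) (hR : Ctr F T R) (b : F.autGroup T)
    (hb0 : Agree F E R b) : ∃ i : ℕ, ((b : MulAut T)) ^ (p ^ i) ∈ E.autGroup T := by
  have hT := hE.2.1
  have hTS := hT.1
  haveI : Finite T := finite_of_le hTS
  have hTp : IsPGroup p T := hS.to_le hTS
  induction hn : Nat.card T - Nat.card R using Nat.strong_induction_on generalizing R b with
  | _ n ih =>
  obtain ⟨ψ, hψ, hb⟩ := hb0
  rcases hRT.eq_or_lt with hRe | hRlt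
  · subst hRe
    exact ⟨0, by rw [pow_zero, pow_one]; exact mem_autGroup_of_isMap (hψ.congr hb)⟩
  set R₂ := normalizerIn T R with hR₂
  have hlt : R < R₂ := lt_inf_normalizer_of_lt hTp hRlt
  have hR₂T : R₂ ≤ T := inf_le_left
  have hR₂S : R₂ ≤ S := hR₂T.trans hTS
  haveI : Finite R₂ := finite_of_le hR₂S
  haveI : Finite R := finite_of_le (hRT.trans hTS)
  have hbT : IsIso F T T (autMap (b : MulAut T)) := isIso_autMap hTS b.2
  set B₁ := imgSub ψ R with hB₁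
  have hψi := hψ.isIso
  have hB₁c : Ctr F T B₁ := hR.of_isConj (isIso_of_sub hE.1 hψi).isConj
  have hB₁E : E.IsCentric B₁ := ⟨hψ.imgSub_le, fun Q hQ => hB₁c Q (by
    obtain ⟨u, hu⟩ := isConj_iff.1 hQ
    exact (isIso_of_sub hE.1 hu).isConj)⟩
  obtain ⟨ψ₂, hψ₂, hψ₂e⟩ := receptive_extend (receptive_of_isFullyCentralized hTp hEs
    (isFullyCentralized_of_centric_le (E := E) (le_refl' E) hB₁E)) hψi (N := R₂) fun t ht =>
      ⟨ht.1, ht.2, autMap (b : MulAut T) t, autMap_mem _ ht.1, fun x hx => by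
        rw [← hb x hx, ← hb _ ((Subgroup.mem_normalizer_iff.1 ht.2 x).1 hx),
          hbT.isMap.map_conj ht.1 (hRT hx)]⟩
  replace hψ₂ : IsMap E R₂ ψ₂ := hψ₂.mono le_sup_left
  have hψ₂R : ∀ x ∈ R, ψ₂ x = autMap (b : MulAut T) x := fun x hx => (hψ₂e x hx).trans (hb x hx).symm
  have hdiff : ∀ t ∈ R₂, (autMap (b : MulAut T) t)⁻¹ * ψ₂ t ∈ B₁ := fun t ht => by
    refine hB₁c B₁ (isConj_refl F (hψ.imgSub_le.trans hTS)) (FusionSys.mem_centralizerIn.2
      ⟨T.mul_mem (T.inv_mem (autMap_mem _ ht.1)) (hψ₂.mem_S ht), fun y hy => ?_⟩)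
    obtain ⟨x, hx, rfl⟩ := hψ.mem_imgSub.1 hy
    rw [← hb x hx]
    have h1 := hψ₂.map_conj ht (hlt.le hx)
    rw [hψ₂R x hx, hψ₂R _ ((Subgroup.mem_normalizer_iff.1 ht.2 x).1 hx),
      hbT.isMap.map_conj ht.1 (hRT hx)] at h1
    calc autMap (b : MulAut T) x * ((autMap (b : MulAut T) t)⁻¹ * ψ₂ t)
        = (autMap (b : MulAut T) t)⁻¹ *
          (autMap (b : MulAut T) t * autMap (b : MulAut T) x * (autMap (b : MulAut T) t)⁻¹) * ψ₂ t := by
          group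
      _ = _ := by rw [h1]; group
  set B₂ := imgSub ψ₂ R₂ with hB₂
  have hψ₂i := hψ₂.isIso
  have hB₁₂ : B₁ ≤ B₂ := fun y hy => by
    obtain ⟨x, hx, rfl⟩ := hψ.mem_imgSub.1 hy
    exact hψ₂.mem_imgSub.2 ⟨x, hlt.le hx, hψ₂e x hx⟩
  have hbB : ∀ t ∈ R₂, autMap (b : MulAut T) t ∈ B₂ := fun t ht => by
    have h := B₂.mul_mem (hψ₂i.mem ht) (B₂.inv_mem (hB₁₂ (hdiff t ht)))
    rwa [_root_.mul_inv_rev, inv_inv, mul_inv_cancel_left] at h
  obtain ⟨v, hv, hvψ, hψv⟩ := hψ₂i.exists_symm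
  have hδm : IsMap F R₂ (v ∘ autMap (b : MulAut T)) :=
    (hbT.isMap.mono hR₂T).comp (isMap_of_sub hE.1 hv.isMap) hbB
  obtain ⟨δ, hδ, hδe⟩ := (isIso_of_mapsTo hδm fun t ht => hv.mem (hbB t ht)).exists_aut
  have hδR : ∀ x ∈ R, autMap δ x = x := fun x hx => by
    rw [hδe x (hlt.le hx), Function.comp_apply, ← hψ₂R x hx, hvψ x (hlt.le hx)]
  have hδmod : ∀ t ∈ R₂, t⁻¹ * autMap δ t ∈ R := fun t ht => by
    rw [hδe t ht, Function.comp_apply]
    obtain ⟨x, hx, hxe⟩ := hψ.mem_imgSub.1 (B₁.inv_mem (hdiff t ht))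
    have h : autMap (b : MulAut T) t = ψ₂ (t * x) := by
      rw [hψ₂.map_mul ht (hlt.le hx), hψ₂e x hx, hxe, _root_.mul_inv_rev, inv_inv, mul_inv_cancel_left]
    rw [h, hvψ _ (R₂.mul_mem ht (hlt.le hx)), inv_mul_cancel_left]
    exact hx
  have hδp : ∃ m : ℕ, δ ^ p ^ m = 1 := by
    obtain ⟨m, hm⟩ := IsPGroup.iff_card.1 (hS.to_le hR₂S)
    refine ⟨m, aut_ext fun t ht => ?_⟩
    have hdP : t⁻¹ * autMap δ t ∈ R₂ := hlt.le (hδmod t ht)
    have hδM : IsMap F R₂ (autMap δ) := (mem_autGroup_iff hR₂S).1 hδ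
    have key : ∀ j : ℕ, autMap (δ ^ j) t = t * (t⁻¹ * autMap δ t) ^ j := by
      intro j
      induction j with
      | zero => rw [pow_zero, pow_zero, FusionSys.autMap_one ht, mul_one]
      | succ j ih' =>
        rw [pow_succ', autMap_mul _ _ ht, ih', hδM.map_mul ht (R₂.pow_mem hdP j),
          hδR _ (R.pow_mem (hδmod t ht) j), pow_succ', ← mul_assoc t, mul_inv_cancel_left]
    rw [key, ← hm, show (t⁻¹ * autMap δ t) ^ Nat.card R₂ = 1 from
      congrArg Subtype.val (pow_card_eq_one' (x := (⟨_, hdP⟩ : R₂))), mul_one, FusionSys.autMap_one ht]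
  obtain ⟨m, hm⟩ := hδp
  -- move the automorphism into `Aut_S`
  obtain ⟨Q, hQc, hQn⟩ := exists_isFullyNormalized F hR₂S
  obtain ⟨g, hg, hgi, -⟩ := exists_map_to_fullyNormalized hS hF hQn hQc
  haveI := finite_autGroup F hQn.1
  obtain ⟨-, Sy, hSy⟩ := isFullyAutomized_of_isFullyNormalized hS hF hQn
  set δQ : F.autGroup Q := ⟨hgi.autEquiv δ, hgi.autEquiv_mem_autGroup hδ⟩ with hδQ
  have hδQp : δQ ^ p ^ m = 1 := Subtype.ext (by
    rw [SubgroupClass.coe_pow, Subgroup.coe_one, hδQ, ← map_pow, hm, map_one])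
  have hz : IsPGroup p (Subgroup.zpowers δQ) := by
    obtain ⟨i, -, hi⟩ := (Nat.dvd_prime_pow (Fact.out : p.Prime)).1 (orderOf_dvd_of_pow_eq_one hδQp)
    exact IsPGroup.of_card (n := i) (by rw [Nat.card_zpowers, hi])
  obtain ⟨Sy', hSy'⟩ := hz.exists_le_sylow
  obtain ⟨γ, hγ⟩ := MulAction.exists_smul_eq (F.autGroup Q) Sy' Sy
  have hmem : γ * δQ * γ⁻¹ ∈ (Sy : Subgroup (F.autGroup Q)) := by
    rw [← hγ, Sylow.coe_subgroup_smul]
    exact ⟨δQ, hSy' (Subgroup.mem_zpowers _), rfl⟩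
  rw [hSy] at hmem
  obtain ⟨s, hsS, hsn, hse⟩ := mem_autInducedBy.1 hmem
  have hg' : IsIso F R₂ Q (autMap (γ : MulAut Q) ∘ g) := hgi.comp (isIso_autMap hQn.1 γ.2)
  have hgs : ∀ t ∈ R₂, (autMap (γ : MulAut Q) ∘ g) (autMap δ t) =
      s * (autMap (γ : MulAut Q) ∘ g) t * s⁻¹ := fun t ht => by
    have hgt := hgi.mem ht
    have h1 := congrArg (fun α : MulAut Q => autMap α (autMap (γ : MulAut Q) (g t))) hse
    rw [Subgroup.coe_subtype, Subgroup.coe_mul, Subgroup.coe_mul, Subgroup.coe_inv] at h1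
    rw [autMap_conjAut _ (autMap_mem _ hgt), conjMap_apply,
      autMap_mul _ _ (autMap_mem _ hgt), autMap_mul _ _ (autMap_mem _ (autMap_mem _ hgt)),
      ← autMap_mul _ _ hgt, inv_mul_cancel, FusionSys.autMap_one hgt] at h1
    simp only [Function.comp_apply]
    rw [← hgi.autMap_autEquiv δ ht]
    exact h1
  have hsm : IsMap F T (conjMap s) := isMap_conj F hTS hsS
  have hsT : ∀ x ∈ T, conjMap s x ∈ T := fun x hx => conj_mem_closed hT hsS hx
  obtain ⟨cs, hcs, hcse⟩ := (isIso_of_mapsTo hsm hsT).exists_aut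
  obtain ⟨a₀, ha₀, φ₀, hφ₀, hφ₀e⟩ := frattini_map hE hR₂T hg'.isMap
  set k : F.autGroup T := (⟨a₀, ha₀⟩ : F.autGroup T)⁻¹ * ⟨cs, hcs⟩ * ⟨a₀, ha₀⟩ with hk
  obtain ⟨l, hkl⟩ : ∃ l, k ^ p ^ l = 1 := by
    have h1 : (cs : MulAut T) ^ Nat.card S = 1 := by
      have key : ∀ j : ℕ, ∀ x ∈ T, autMap (cs ^ j) x = s ^ j * x * (s ^ j)⁻¹ := by
        intro j
        induction j with
        | zero => intro x hx; rw [pow_zero, FusionSys.autMap_one hx, pow_zero]; group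
        | succ j ihj =>
          intro x hx
          rw [pow_succ, autMap_mul _ _ hx, ihj _ (autMap_mem _ hx), hcse x hx, conjMap_apply, pow_succ]
          group
      refine aut_ext fun x hx => ?_
      rw [key _ x hx, show s ^ Nat.card S = 1 from congrArg Subtype.val
        (pow_card_eq_one' (x := (⟨s, hsS⟩ : S))), FusionSys.autMap_one hx]
      group
    obtain ⟨l, hl⟩ := IsPGroup.iff_card.1 hS
    refine ⟨l, ?_⟩
    have h2 : (⟨cs, hcs⟩ : F.autGroup T) ^ p ^ l = 1 := Subtype.ext (by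
      rw [SubgroupClass.coe_pow, ← hl]; exact h1)
    have h3 := _root_.conj_pow (i := p ^ l) (a := (⟨a₀, ha₀⟩ : F.autGroup T)⁻¹)
      (b := (⟨cs, hcs⟩ : F.autGroup T))
    rw [inv_inv, ← hk, h2, mul_one, inv_mul_cancel] at h3
    exact h3
  have hkφ : ∀ t ∈ R₂, φ₀ (autMap δ t) = autMap (k : MulAut T) (φ₀ t) := fun t ht => by
    have hdt := autMap_mem δ ht
    have h1 := hgs t ht
    rw [hφ₀e _ hdt, hφ₀e t ht] at h1
    have hφt : φ₀ t ∈ T := hφ₀.mem_S ht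
    rw [hk]
    simp only [Subgroup.coe_mul, Subgroup.coe_inv]
    rw [autMap_mul _ _ hφt, autMap_mul _ _ (autMap_mem _ hφt), hcse _ (autMap_mem _ hφt),
      conjMap_apply, ← h1, ← autMap_mul _ _ (hφ₀.mem_S hdt), inv_mul_cancel,
      FusionSys.autMap_one (hφ₀.mem_S hdt)]
  obtain ⟨φ₁, hφ₁, hφ₁e⟩ := invariant_map hE k.2 hφ₀
  obtain ⟨u, hu, huφ, -⟩ := hφ₀.isIso.exists_symm
  set R₃ := imgSub (autMap (k : MulAut T)) R₂ with hR₃
  have hkR₂ : IsMap F R₂ (autMap (k : MulAut T)) := (isIso_autMap hTS k.2).isMap.mono hR₂T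
  have hφ₁im : ∀ y ∈ R₃, φ₁ y ∈ imgSub φ₀ R₂ := fun y hy => by
    obtain ⟨t, ht, rfl⟩ := hkR₂.mem_imgSub.1 hy
    rw [hφ₁e t ht, ← hkφ t ht]
    exact hφ₀.mem_imgSub.2 ⟨_, autMap_mem δ ht, rfl⟩
  have hem : IsMap E R₃ (ψ₂ ∘ (u ∘ φ₁)) :=
    (hφ₁.comp hu.isMap hφ₁im).comp hψ₂ fun y hy => hu.mem (hφ₁im y hy)
  have hbk : Agree F E R₃ (b * k⁻¹) := ⟨_, hem, fun y hy => by
    obtain ⟨t, ht, rfl⟩ := hkR₂.mem_imgSub.1 hy
    rw [Subgroup.coe_mul, Subgroup.coe_inv, autMap_mul _ _ (autMap_mem _ (hR₂T ht)),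
      ← autMap_mul _ _ (hR₂T ht), inv_mul_cancel, FusionSys.autMap_one (hR₂T ht), Function.comp_apply,
      Function.comp_apply, hφ₁e t ht, ← hkφ t ht, huφ _ (autMap_mem δ ht), hδe t ht,
      Function.comp_apply, hψv _ (hbB t ht)]⟩
  -- `k⁻¹ b` agrees with a map of `E` on `R₂`, and `b` normalizes that group
  have hkb : Agree F E R₂ (k⁻¹ * b) := by
    have h1 := hbk.conj hE k⁻¹
    rw [inv_inv, show k⁻¹ * (b * k⁻¹) * k = k⁻¹ * b by group] at h1
    refine h1.mono fun t ht => ?_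
    refine (((mem_autGroup_iff hTS).1 (k⁻¹ : F.autGroup T).2).mono hem.le).mem_imgSub.2
      ⟨autMap (k : MulAut T) t, hkR₂.mem_imgSub.2 ⟨t, ht, rfl⟩, ?_⟩
    rw [Subgroup.coe_inv, ← autMap_mul _ _ (hR₂T ht), inv_mul_cancel,
      FusionSys.autMap_one (hR₂T ht)]
  have hbR₂ : IsMap F R₂ (autMap (b : MulAut T)) := hbT.isMap.mono hR₂T
  have hB₂eq : imgSub (autMap (b : MulAut T)) R₂ = B₂ := by
    have hle : imgSub (autMap (b : MulAut T)) R₂ ≤ B₂ := fun y hy => by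
      obtain ⟨t, ht, rfl⟩ := hbR₂.mem_imgSub.1 hy
      exact hbB t ht
    haveI : Finite B₂ := finite_of_le (hψ₂.imgSub_le.trans hTS)
    exact Subgroup.eq_of_le_of_card_ge hle (by rw [← hbR₂.isIso.card_eq, ← hψ₂i.card_eq])
  have hnorm : ∀ x, Agree F E R₂ x → Agree F E R₂ (b * x * b⁻¹) := fun x hx => by
    have h1 := hx.conj hE b
    rw [hB₂eq] at h1
    refine (h1.move hE hv.isMap).mono fun t ht => ?_
    exact hv.isMap.mem_imgSub.2 ⟨ψ₂ t, hψ₂i.mem ht, hvψ t ht⟩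
  have hc : Agree F E R₂ (b * (k⁻¹ * b)⁻¹ * b⁻¹) := hnorm _ (hkb.inv hE hR₂T)
  have hpow : ∀ j : ℕ, ∃ x, Agree F E R₂ x ∧ k ^ j = x * b ^ j := by
    intro j
    induction j with
    | zero => exact ⟨1, agree_one hR₂T, by rw [pow_zero, pow_zero, mul_one]⟩
    | succ j ihj =>
      obtain ⟨x, hx, hxe⟩ := ihj
      refine ⟨b * (k⁻¹ * b)⁻¹ * b⁻¹ * (b * x * b⁻¹), hc.mul hE (hnorm x hx), ?_⟩
      rw [pow_succ', hxe, pow_succ']
      group
  obtain ⟨x, hx, hxe⟩ := hpow (p ^ l)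
  rw [hkl] at hxe
  have hbp : Agree F E R₂ (b ^ p ^ l) := by
    rw [eq_inv_of_mul_eq_one_right hxe.symm]
    exact hx.inv hE hR₂T
  obtain ⟨i, hi⟩ := ih (Nat.card T - Nat.card R₂) (by
      have h1 : Nat.card R < Nat.card R₂ := Cfsg.Agent.H89.card_lt_card_of_lt hlt
      have h2 : Nat.card R₂ ≤ Nat.card T := Subgroup.card_le_of_le hR₂T
      omega) R₂ hR₂T (hR.mono hlt.le) (b ^ p ^ l) hbp rfl
  refine ⟨l + i, ?_⟩
  rwa [SubgroupClass.coe_pow, ← pow_mul, ← pow_add] at hi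

theorem ctr_of_isCentric (hE : E.IsInvariantIn F) {P : Subgroup Ω} (hP : E.IsCentric P) :
    Ctr F T P := fun Q hQ => by
  obtain ⟨g, hg⟩ := isConj_iff.1 hQ
  have h := isCentric_target hE hP hg
  exact h.2 Q (isConj_refl E h.1)

/-- Automorphism groups of an invariant subsystem are normal. -/
theorem conj_mem_autGroup (hE : E.IsInvariantIn F) {Q : Subgroup Ω} (hQ : Q ≤ T) {γ α : MulAut Q}
    (hγ : γ ∈ F.autGroup Q) (hα : α ∈ E.autGroup Q) : γ * α * γ⁻¹ ∈ E.autGroup Q := by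
  have hi := isIso_autMap (hQ.trans hE.2.1.1) hγ
  have h := autEquiv_mem hE hQ hi hα
  rwa [show hi.autEquiv α = γ * α * γ⁻¹ from aut_ext fun y hy => by
    obtain ⟨x, hx, rfl⟩ := hi.exists_preimage hy
    rw [hi.autMap_autEquiv α hx, autMap_mul _ _ hy, ← autMap_mul γ⁻¹ γ hx, inv_mul_cancel,
      FusionSys.autMap_one hx, autMap_mul _ _ hx]] at h

variable {E' : FusionSystem T}

/-- Every weakly normal system contains the `p`-power automorphisms of the centric subgroups of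
another. -/
theorem hyp0 (hS : IsPGroup p S) (hE : E.IsWeaklyNormalIn F p) (hE' : E'.IsWeaklyNormalIn F p) :
    S5114.Hyp0 p E E' := by
  have hTS : T ≤ S := hE.2.2.2.1.1
  haveI : Finite T := finite_of_le hTS
  have hTp : IsPGroup p T := hS.to_le hTS
  intro P hP
  rw [S5114.opAut, MonoidHom.map_closure, Subgroup.closure_le]
  rintro _ ⟨α, ⟨i, hi⟩, rfl⟩
  obtain ⟨Q, hQc, hQn⟩ := exists_isFullyNormalized E hP.1
  obtain ⟨g, hg⟩ := isConj_iff.1 (isConj_symm hQc)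
  obtain ⟨δ, hδ, hδα⟩ : (α : MulAut P) ∈ (E.autGroup Q).map hg.autEquiv.toMonoidHom := by
    rw [hg.map_autGroup]; exact α.2
  haveI := finite_autGroup E hQn.1
  obtain ⟨-, Sy, hSy⟩ := isFullyAutomized_of_isFullyNormalized hTp hE.1 hQn
  set δ' : E.autGroup Q := ⟨δ, hδ⟩
  have hδo : orderOf δ' = p ^ i := by
    rw [← Subgroup.orderOf_coe]
    show orderOf δ = _
    rw [← hi, ← Subgroup.orderOf_coe, ← hδα]
    exact (hg.autEquiv.orderOf_eq δ).symm
  have hz : IsPGroup p (Subgroup.zpowers δ') := IsPGroup.of_card (n := i) (by rw [Nat.card_zpowers, hδo])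
  obtain ⟨Sy', hSy'⟩ := hz.exists_le_sylow
  obtain ⟨γ, hγ⟩ := MulAction.exists_smul_eq (E.autGroup Q) Sy' Sy
  have hmem : γ * δ' * γ⁻¹ ∈ (Sy : Subgroup (E.autGroup Q)) := by
    rw [← hγ, Sylow.coe_subgroup_smul]
    exact ⟨δ', hSy' (Subgroup.mem_zpowers _), rfl⟩
  rw [hSy] at hmem
  have h1 : (γ : MulAut Q) * δ * (γ : MulAut Q)⁻¹ ∈ E'.autGroup Q :=
    autInducedBy_le_autGroup E' hQn.1 hmem
  have hγF : (γ : MulAut Q) ∈ F.autGroup Q :=
    mem_autGroup_of_isMap (isMap_of_sub hE.2.2.1 (autGroup_set_subgroup hQn.1 γ.2))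
  have h2 := conj_mem_autGroup hE'.2.2 hQn.1 (inv_mem hγF) h1
  rw [show (γ : MulAut Q)⁻¹ * ((γ : MulAut Q) * δ * (γ : MulAut Q)⁻¹) * (γ : MulAut Q)⁻¹⁻¹ = δ by
    group] at h2
  have hgF := isIso_of_sub hE.2.2.1 hg
  have h3 := autEquiv_mem hE'.2.2 hQn.1 hgF h2
  rw [show hgF.autEquiv δ = (α : MulAut P) from aut_ext fun y hy => by
    obtain ⟨x, hx, rfl⟩ := hg.exists_preimage hy
    rw [hgF.autMap_autEquiv δ hx, ← hδα]
    exact (hg.autMap_autEquiv δ hx).symm] at h3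
  exact h3

/-- The residual of a weakly normal system lies in every weakly normal system on the same subgroup. -/
theorem residual_le [Finite T] (hS : IsPGroup p S) (hE : E.IsWeaklyNormalIn F p)
    (hE' : E'.IsWeaklyNormalIn F p) : (S5140.residual p E).IsSubsystemOf E' := by
  have hTS : T ≤ S := hE.2.2.2.1.1
  have hTp : IsPGroup p T := hS.to_le hTS
  have hH := hyp0 hS hE hE'
  haveI := finite_autGroup E (le_refl T)
  have hβ : S5140.H0 p E ≤ E'.autGroup T := by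
    refine (Subgroup.closure_le _).2 fun β hb => ?_
    obtain ⟨hβE, P, f, hP, hf, he⟩ := hb
    have hβF : β ∈ F.autGroup T :=
      mem_autGroup_of_isMap (isMap_of_sub hE.2.2.1 (autGroup_set_subgroup le_rfl hβE))
    obtain ⟨i, hi⟩ := exists_pow_mem hS hE.2.1 hE'.1 hE'.2.2 P hP.1
      (ctr_of_isCentric hE.2.2 hP) ⟨β, hβF⟩ ⟨f, hf E' hH, he⟩
    set H := (E'.autGroup T).subgroupOf (E.autGroup T) with hHdef
    haveI : H.Normal := ⟨fun a ha y => conj_mem_autGroup hE'.2.2 le_rfl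
      (mem_autGroup_of_isMap (isMap_of_sub hE.2.2.1 (autGroup_set_subgroup le_rfl y.2))) ha⟩
    have hpn : ¬ p ∣ H.index := by
      have hTn : E.IsFullyNormalized T := ⟨le_rfl, fun Q hQ => by rw [eq_S_of_isConj hQ]⟩
      have h1 := ((isFullyAutomized_iff hTp).1 (isFullyAutomized_of_isFullyNormalized hTp hE.1 hTn)).2
      exact fun hd => h1 (hd.trans (Subgroup.index_dvd_of_le (H := (autInducedBy T T).subgroupOf
        (E.autGroup T)) (fun a ha => autInducedBy_le_autGroup E' le_rfl ha)))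
    have h2 : (⟨β, hβE⟩ : E.autGroup T) ^ H.index ∈ H := H.pow_index_mem _
    have h3 : (⟨β, hβE⟩ : E.autGroup T) ^ (p ^ i) ∈ H := hi
    have hco : Nat.Coprime (p ^ i) H.index :=
      ((Fact.out : p.Prime).coprime_iff_not_dvd.2 hpn).pow_left i
    set β' : E.autGroup T := ⟨β, hβE⟩ with hβ'
    have hb1 := Nat.gcd_eq_gcd_ab (p ^ i) H.index
    rw [hco.gcd_eq_one, Nat.cast_one] at hb1
    have h4 : β' ∈ H := by
      rw [← zpow_one β', hb1, zpow_add, zpow_mul, zpow_mul, zpow_natCast, zpow_natCast]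
      exact mul_mem (zpow_mem h3 _) (zpow_mem h2 _)
    exact h4
  rw [isSubsystemOf_iff_isMap]
  intro P f hf
  obtain ⟨-, β, hβm, f₀, hf₀, hfe⟩ := S5140.isMap_residual.1 hf
  exact ((hf₀ E' hH).comp (autGroup_set_subgroup le_rfl (hβ hβm)) fun x hx =>
    hf₀.isMap.mem_S hx).congr hfe

end Cfsg.Agent.H89.WeakResidual
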