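import Cfsg.Agent.FusionSys.Saturated
import Mathlib.Data.Nat.ChineseRemainder

/-!
A criterion for the fusion system of a finite group to be simple.
-/

namespace Cfsg.Agent.H89

open Cfsg Cfsg.FusionSystem Cfsg.Agent.FusionSys
open Pointwise

variable {G : Type*} [Group G] [Finite G] {p : ℕ} [Fact p.Prime]

/-- In a saturated system a centric subgroup is receptive. -/
theorem receptive_of_centric {Ω : Type*} [Group Ω] {S : Subgroup Ω} [Finite S] (hS : IsPGroup p S)
    (F : FusionSystem S) (hF : F.IsSaturated p) {R : Subgroup Ω} (hR : F.IsCentric R) :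
    F.IsReceptive R := by
  refine receptive_of_isFullyCentralized hS hF ⟨hR.1, fun Q hQ => ?_⟩
  obtain ⟨f, hf⟩ := isConj_iff.1 hQ
  obtain ⟨g, hg, -, hfg⟩ := hf.exists_symm
  haveI : Finite (centralizerIn S R) := finite_of_le centralizerIn_le
  refine Nat.card_le_card_of_injective
    (fun x : centralizerIn S Q => (⟨g x, FusionSys.mem_centralizerIn.2 ⟨hg.isMap.mem_S (hR.2 Q hQ x.2),
      fun y hy => ?_⟩⟩ : centralizerIn S R)) fun a b h => ?_
  · obtain ⟨z, hz, rfl⟩ := hg.exists_preimage hy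
    rw [← hg.isMap.map_mul hz (hR.2 Q hQ x.2), (FusionSys.mem_centralizerIn.1 x.2).2 z hz,
      hg.isMap.map_mul (hR.2 Q hQ x.2) hz]
  · exact Subtype.ext (hg.isMap.injOn (hR.2 Q hQ a.2) (hR.2 Q hQ b.2) (congrArg Subtype.val h))

/-- Sylow conjugacy: a p-subgroup is conjugated into a given Sylow subgroup. -/
theorem exists_conj_into_sylow (S : Sylow p G) {Q : Subgroup G} (hQ : IsPGroup p Q) :
    ∃ g : G, ∀ x ∈ Q, g * x * g⁻¹ ∈ (S : Subgroup G) := by
  obtain ⟨T, hT⟩ := hQ.exists_le_sylow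
  obtain ⟨g, hg⟩ := MulAction.exists_smul_eq G T S
  refine ⟨g, fun x hx => ?_⟩
  rw [← hg, Sylow.coe_subgroup_smul]
  exact Subgroup.smul_mem_pointwise_smul _ (MulAut.conj g) _ (hT hx)

/-- A subgroup normalized by `S` is fully normalized. -/
theorem isFullyNormalized_of_le_normalizer (S : Sylow p G) {R : Subgroup G} (hR : R ≤ S)
    (h : (S : Subgroup G) ≤ Subgroup.normalizer (R : Set G)) :
    (groupFusionSystem (S : Subgroup G)).IsFullyNormalized R :=
  ⟨hR, fun Q _ => Nat.card_le_card_of_injective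
    (Subgroup.inclusion (show Cfsg.FusionSystem.normalizerIn (S : Subgroup G) Q ≤
      Cfsg.FusionSystem.normalizerIn (S : Subgroup G) R from fun _ hx => ⟨hx.1, h hx.1⟩))
    (Subgroup.inclusion_injective _)⟩

/-- For `R` fully normalized, every `p`-element of `N_G(R)` is conjugate there into `S`. -/
theorem exists_conj_mem_of_normalizer (S : Sylow p G) {R : Subgroup G}
    (hR : (groupFusionSystem (S : Subgroup G)).IsFullyNormalized R) {g : G}
    (hg : g ∈ Subgroup.normalizer (R : Set G)) {k : ℕ} (hk : orderOf g = p ^ k) :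
    ∃ x ∈ Subgroup.normalizer (R : Set G), x * g * x⁻¹ ∈ (S : Subgroup G) := by
  set N := Subgroup.normalizer (R : Set G) with hN
  have h0 : IsPGroup p ↥((Cfsg.FusionSystem.normalizerIn (S : Subgroup G) R).subgroupOf N) :=
    (S.2.to_le inf_le_left).comap_subtype
  obtain ⟨P, hP⟩ := h0.exists_le_sylow
  set P' : Subgroup G := (P : Subgroup N).map N.subtype with hP'
  have hle : Cfsg.FusionSystem.normalizerIn (S : Subgroup G) R ≤ P' := fun x hx =>
    ⟨⟨x, hx.2⟩, hP hx, rfl⟩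
  obtain ⟨y, hy⟩ := exists_conj_into_sylow S (P.2.map N.subtype)
  set R' := R.map (MulAut.conj y).toMonoidHom with hR'
  have hRP : R ≤ P' := (le_inf hR.1 Subgroup.le_normalizer).trans hle
  have hconj : (groupFusionSystem (S : Subgroup G)).IsConj R R' :=
    ⟨conjHom R y, ⟨hR.1, fun x => hy x (hRP x.2), y, fun _ => rfl⟩, by
      ext z
      constructor
      · rintro ⟨x, rfl⟩
        exact ⟨x, x.2, rfl⟩
      · rintro ⟨x, hx, rfl⟩
        exact ⟨⟨x, hx⟩, rfl⟩⟩
  have hsub : P'.map (MulAut.conj y).toMonoidHom ≤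
      Cfsg.FusionSystem.normalizerIn (S : Subgroup G) R' := by
    rintro _ ⟨x, hx, rfl⟩
    refine ⟨hy x hx, ?_⟩
    haveI : Finite R' := inferInstance
    refine mem_normalizer_of_maps ?_
    rintro _ ⟨r, hr, rfl⟩
    obtain ⟨n, -, rfl⟩ := hx
    refine ⟨n * r * (n : G)⁻¹, (Subgroup.mem_normalizer_iff.1 n.2 r).1 hr, ?_⟩
    simp only [MulEquiv.coe_toMonoidHom, MulAut.conj_apply, Subgroup.coe_subtype]
    group
  have hcard : Nat.card P' ≤ Nat.card (Cfsg.FusionSystem.normalizerIn (S : Subgroup G) R) := by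
    rw [← Subgroup.card_map_of_injective (K := P') (f := (MulAut.conj y).toMonoidHom)
      (MulAut.conj y).injective]
    exact (Nat.card_le_card_of_injective _ (Subgroup.inclusion_injective hsub)).trans (hR.2 R' hconj)
  have heq : Cfsg.FusionSystem.normalizerIn (S : Subgroup G) R = P' :=
    Subgroup.eq_of_le_of_card_ge hle hcard
  have hz : IsPGroup p ↥(Subgroup.zpowers (⟨g, hg⟩ : N)) :=
    IsPGroup.of_card (n := k) (by rw [Nat.card_zpowers]; exact (Subgroup.orderOf_coe _).symm.trans hk)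
  obtain ⟨x, hx⟩ := exists_conj_into_sylow P hz
  refine ⟨x, x.2, ?_⟩
  have : (x : G) * g * (x : G)⁻¹ ∈ P' := ⟨_, hx ⟨g, hg⟩ (Subgroup.mem_zpowers _), rfl⟩
  rw [← heq] at this
  exact this.1

/-- Conjugation invariance of an invariant subsystem over the whole of `S`. -/
theorem conj_mem_autGroup_of_invariant {Ω : Type*} [Group Ω] {S : Subgroup Ω} {F E : FusionSystem S}
    (hE : E.IsInvariantIn F) {R : Subgroup Ω} (hR : R ≤ S) {α β : MulAut R}
    (hα : α ∈ F.autGroup R) (hβ : β ∈ E.autGroup R) : α * β * α⁻¹ ∈ E.autGroup R := by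
  obtain ⟨-, -, hinv, hfrat⟩ := hE
  obtain ⟨φ, hφ, hφα⟩ := (mem_autGroup_iff hR).1 hα
  obtain ⟨a, ha, φ₀, hφ₀, hfac⟩ := hfrat R hR φ hφ
  set f₀ := homFun φ₀ with hf₀
  have hf₀m : IsMap E R f₀ := isMap_of_mem hφ₀
  have hfacf : ∀ x ∈ R, autMap α x = autMap a (f₀ x) := fun x hx => by
    have hx0 : φ₀ ⟨x, hx⟩ ∈ S := (E.le_of_mem hφ₀).2 _
    rw [autMap_apply a (hf₀ ▸ (homFun_mem φ₀ hx).symm ▸ hx0), ← hφα ⟨x, hx⟩, hfac _ hx0]
    congr 2
    exact Subtype.ext (homFun_mem φ₀ hx).symm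
  -- the map β transported to the image R₀
  set R₀ := imgSub f₀ R with hR₀
  obtain ⟨g, hg, hgl, hgr⟩ := hf₀m.isIso.exists_symm
  have hb : IsIso E R₀ R₀ (f₀ ∘ (autMap β ∘ g)) :=
    (hg.comp (isIso_autMap hR hβ)).comp hf₀m.isIso
  obtain ⟨φb, hφb, hφbf⟩ := hb.isMap
  obtain ⟨χ, hχ, hχe⟩ := hinv R₀ hb.source_le φb hφb a ha
  have himg : (R₀.subgroupOf S).map (S.subtype.comp a.toMonoidHom) = R := by
    ext z
    constructor
    · rintro ⟨w, hw, rfl⟩
      obtain ⟨x, hx, hxw⟩ := hf₀m.mem_imgSub.1 (show (w : Ω) ∈ imgSub f₀ R from hw)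
      have h1 := hfacf x hx
      rw [hxw, autMap_coe a w] at h1
      show ((a w : S) : Ω) ∈ R
      rw [← h1]
      exact autMap_mem α hx
    · intro hz
      obtain ⟨x, hx, rfl⟩ : ∃ x ∈ R, autMap α x = z :=
        ⟨autMap α⁻¹ z, autMap_mem _ hz, autMap_inv_apply α hz⟩
      refine ⟨⟨f₀ x, hf₀m.mem_S hx⟩, hf₀m.mem_imgSub.2 ⟨x, hx, rfl⟩, ?_⟩
      rw [hfacf x hx, autMap_apply a (hf₀m.mem_S hx)]
      rfl
  apply mem_autGroup_of_isMap
  refine IsMap.congr (P := R) (f := homFun χ) (himg ▸ isMap_of_mem hχ) fun z hz => ?_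
  set x := autMap α⁻¹ z with hx_def
  have hx : x ∈ R := autMap_mem _ hz
  have hxz : autMap α x = z := autMap_inv_apply α hz
  rw [autMap_mul _ _ hz, autMap_mul _ _ (autMap_mem _ hz), ← hx_def, hfacf _ (autMap_mem β hx)]
  set w : R₀ := ⟨f₀ x, hf₀m.mem_imgSub.2 ⟨x, hx, rfl⟩⟩ with hw
  have hwS : (w : Ω) ∈ S := hf₀m.mem_S hx
  have hbw : φb w = f₀ (autMap β x) := by
    rw [hφbf w, hw]
    show f₀ (autMap β (g (f₀ x))) = _
    rw [hgl x hx]
  have hbwS : φb w ∈ S := (E.le_of_mem hφb).2 w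
  have h2 : ((a ⟨(w : Ω), hb.source_le w.2⟩ : S) : Ω) = z := by
    rw [← hxz, hfacf x hx, autMap_apply a hwS]
  have hmem : ((a ⟨(w : Ω), hb.source_le w.2⟩ : S) : Ω) ∈
      (R₀.subgroupOf S).map (S.subtype.comp a.toMonoidHom) := by rw [himg, h2]; exact hz
  have h3 := hχe w hbwS hmem
  rw [← homFun_mem χ hmem, h2, ← autMap_apply a hbwS, hbw] at h3
  exact h3.symm

/-- A `p`-element centralizing a centric subgroup lies in it. -/
theorem mem_of_centralizes_centric (S : Sylow p G) {R : Subgroup G}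
    (hR : (groupFusionSystem (S : Subgroup G)).IsCentric R) {c : G}
    (hc : ∀ r ∈ R, r * c = c * r) {k : ℕ} (hk : c ^ (p ^ k) = 1) : c ∈ R := by
  have hnorm : Subgroup.zpowers c ≤ Subgroup.normalizer (R : Set G) := by
    rw [Subgroup.zpowers_le, Subgroup.mem_normalizer_iff]
    intro r
    constructor
    · intro hr
      rwa [← hc r hr, mul_inv_cancel_right]
    · intro hr
      have := hc _ hr
      have h : c * r * c⁻¹ = r := mul_left_cancel (a := c) (by simpa using this.symm)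
      rwa [h] at hr
  have hz : IsPGroup p (Subgroup.zpowers c) := by
    rintro ⟨_, i, rfl⟩
    refine ⟨k, Subtype.ext ?_⟩
    show (c ^ i) ^ (p ^ k) = 1
    rw [← zpow_natCast, ← zpow_mul, mul_comm, zpow_mul, zpow_natCast, hk, one_zpow]
  obtain ⟨y, hy⟩ := exists_conj_into_sylow S ((S.2.to_le hR.1).to_sup_of_normal_left' hz hnorm)
  set R' := R.map (MulAut.conj y).toMonoidHom
  have hconj : (groupFusionSystem (S : Subgroup G)).IsConj R R' :=
    ⟨conjHom R y, ⟨hR.1, fun x => hy x (Subgroup.mem_sup_left x.2), y, fun _ => rfl⟩, by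
      ext z
      constructor
      · rintro ⟨x, rfl⟩
        exact ⟨x, x.2, rfl⟩
      · rintro ⟨x, hx, rfl⟩
        exact ⟨⟨x, hx⟩, rfl⟩⟩
  have h1 : y * c * y⁻¹ ∈ R' := by
    apply hR.2 R' hconj
    rw [FusionSys.mem_centralizerIn]
    refine ⟨hy c (Subgroup.mem_sup_right (Subgroup.mem_zpowers c)), ?_⟩
    rintro _ ⟨r, hr, rfl⟩
    show y * r * y⁻¹ * (y * c * y⁻¹) = y * c * y⁻¹ * (y * r * y⁻¹)
    calc y * r * y⁻¹ * (y * c * y⁻¹) = y * (r * c) * y⁻¹ := by group
      _ = y * (c * r) * y⁻¹ := by rw [hc r hr]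
      _ = _ := by group
  obtain ⟨r, hr, hre⟩ := h1
  rwa [show r = c from (MulAut.conj y).injective hre] at hr

/-- One step: from a centric `R` to its normalizer in `S`. -/
theorem isMap_conj_normalizerIn (S : Sylow p G) {E : FusionSystem (S : Subgroup G)}
    (hE : E.IsSubsystemOf (groupFusionSystem (S : Subgroup G))) (hsat : E.IsSaturated p)
    {R : Subgroup G} (hR : (groupFusionSystem (S : Subgroup G)).IsCentric R) {g : G}
    (hgS : g ∈ Subgroup.normalizer ((S : Subgroup G) : Set G))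
    (hgR : g ∈ Subgroup.normalizer (R : Set G)) (hm : IsMap E R (conjMap g)) :
    IsMap E (Cfsg.FusionSystem.normalizerIn (S : Subgroup G) R) (conjMap g) := by
  set F := groupFusionSystem (S : Subgroup G)
  set N := Cfsg.FusionSystem.normalizerIn (S : Subgroup G) R with hN
  have hRE : E.IsCentric R :=
    ⟨hR.1, fun Q ⟨φ, hφ, hr⟩ => hR.2 Q ⟨φ, hE R hφ, hr⟩⟩
  have hiso : IsIso E R R (conjMap g) := ⟨hm, by
    ext z
    constructor
    · rintro ⟨r, hr, rfl⟩
      exact (Subgroup.mem_normalizer_iff.1 hgR r).1 hr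
    · intro hz
      refine ⟨g⁻¹ * z * g, (Subgroup.mem_normalizer_iff.1 hgR _).2 ?_, ?_⟩
      · rwa [show g * (g⁻¹ * z * g) * g⁻¹ = z by group]
      · simp only [conjMap_apply]
        group⟩
  obtain ⟨ψ, hψ, hψe⟩ := receptive_extend (receptive_of_centric S.2 E hsat hRE) hiso (N := N)
    fun x hx => by
    refine ⟨hx.1, hx.2, g * x * g⁻¹, (Subgroup.mem_normalizer_iff.1 hgS x).1 hx.1, fun y _ => ?_⟩
    simp only [conjMap_apply]
    group
  have hψ : IsMap E N ψ := hψ.mono le_sup_left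
  obtain ⟨-, a, ha⟩ := isMap_group_iff.1 (isSubsystemOf_iff_isMap.1 hE N ψ hψ)
  set c := g⁻¹ * a with hc
  have hRN : R ≤ N := le_normalizerIn_self hR.1
  have hcR : ∀ r ∈ R, r * c = c * r := by
    intro r hr
    have h1 : a * r * a⁻¹ = g * r * g⁻¹ := ((ha r (hRN hr)).2).symm.trans (hψe r hr)
    calc r * c = g⁻¹ * (g * r * g⁻¹) * a := by rw [hc]; group
      _ = g⁻¹ * (a * r * a⁻¹) * a := by rw [h1]
      _ = c * r := by rw [hc]; group
  have hcn : ∀ x ∈ N, c * x * c⁻¹ * x⁻¹ ∈ centralizerIn (S : Subgroup G) R := by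
    intro x hx
    rw [FusionSys.mem_centralizerIn]
    refine ⟨Subgroup.mul_mem _ ?_ (Subgroup.inv_mem _ hx.1), fun r hr => ?_⟩
    · apply (Subgroup.mem_normalizer_iff.1 hgS _).2
      have : g * (c * x * c⁻¹) * g⁻¹ = a * x * a⁻¹ := by rw [hc]; group
      rw [this]
      exact (ha x hx).1
    · have hr' : x⁻¹ * r * x ∈ R := conj_symm_mem_of_mem_normalizerIn hx hr
      have hi : ∀ r ∈ R, c⁻¹ * r = r * c⁻¹ := fun r hr => by
        calc c⁻¹ * r = c⁻¹ * (r * c) * c⁻¹ := by group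
          _ = c⁻¹ * (c * r) * c⁻¹ := by rw [hcR r hr]
          _ = r * c⁻¹ := by group
      calc r * (c * x * c⁻¹ * x⁻¹) = (r * c) * x * c⁻¹ * x⁻¹ := by group
        _ = c * x * ((x⁻¹ * r * x) * c⁻¹) * x⁻¹ := by rw [hcR r hr]; group
        _ = c * x * (c⁻¹ * (x⁻¹ * r * x)) * x⁻¹ := by rw [hi _ hr']
        _ = _ := by group
  have hkill : ∀ x ∈ N, ∀ n : ℕ, c ^ n * x * (c ^ n)⁻¹ = (c * x * c⁻¹ * x⁻¹) ^ n * x := by
    intro x hx n
    have hz : c * x * c⁻¹ * x⁻¹ ∈ R := hR.2 R (isConj_refl _ hR.1) (hcn x hx)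
    have hcom : Commute c (c * x * c⁻¹ * x⁻¹) := (hcR _ hz).symm
    induction n with
    | zero => simp
    | succ n ih =>
      calc c ^ (n + 1) * x * (c ^ (n + 1))⁻¹ = c * (c ^ n * x * (c ^ n)⁻¹) * c⁻¹ := by
            rw [pow_succ']; group
        _ = (c * (c * x * c⁻¹ * x⁻¹) ^ n) * x * c⁻¹ := by rw [ih]; group
        _ = ((c * x * c⁻¹ * x⁻¹) ^ n * c) * x * c⁻¹ := by rw [(hcom.pow_right n).eq]
        _ = _ := by rw [pow_succ]; group
  obtain ⟨e, he⟩ := IsPGroup.iff_card.1 (S.2.to_le hR.1)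
  have hcp : ∀ x ∈ N, c ^ (p ^ e) * x * (c ^ (p ^ e))⁻¹ = x := by
    intro x hx
    rw [hkill x hx, ← he]
    have hz : c * x * c⁻¹ * x⁻¹ ∈ R := hR.2 R (isConj_refl _ hR.1) (hcn x hx)
    have : (⟨_, hz⟩ : R) ^ Nat.card R = 1 := pow_card_eq_one'
    rw [show (c * x * c⁻¹ * x⁻¹) ^ Nat.card R = 1 from congrArg Subtype.val this, one_mul]
  -- pass to the p-part of c
  obtain ⟨b, m, hpm, hbm⟩ := Nat.exists_eq_pow_mul_and_not_dvd (orderOf_pos c).ne' p (Fact.out : p.Prime).ne_one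
  have hco : Nat.Coprime m (p ^ e) :=
    (((Fact.out : p.Prime).coprime_iff_not_dvd.2 hpm).symm).pow_right e
  obtain ⟨k, hk0, hk1⟩ := Nat.chineseRemainder hco 0 1
  have hkp : (c ^ k) ^ (p ^ b) = 1 := by
    rw [← pow_mul]
    refine orderOf_dvd_iff_pow_eq_one.1 ?_
    rw [hbm, mul_comm k]
    exact Nat.mul_dvd_mul_left _ (Nat.modEq_zero_iff_dvd.1 hk0)
  set z := c ^ k with hz_def
  have hzR : z ∈ R := mem_of_centralizes_centric S hR (fun r hr =>
    ((Commute.pow_right (show Commute r c from hcR r hr) k)).eq) hkp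
  have hzc : ∀ x ∈ N, z * x * z⁻¹ = c * x * c⁻¹ := by
    intro x hx
    have hmod : ∀ i : ℕ, ∀ x ∈ N, c ^ (p ^ e * i) * x * (c ^ (p ^ e * i))⁻¹ = x := by
      intro i
      induction i with
      | zero => simp
      | succ i ih =>
        intro x hx
        calc c ^ (p ^ e * (i + 1)) * x * (c ^ (p ^ e * (i + 1)))⁻¹
            = c ^ (p ^ e * i) * (c ^ (p ^ e) * x * (c ^ (p ^ e))⁻¹) * (c ^ (p ^ e * i))⁻¹ := by
              rw [Nat.mul_add, mul_one, pow_add]; group
          _ = x := by rw [hcp x hx, ih x hx]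
    by_cases hpe : p ^ e = 1
    · have h1 := hcp x hx
      rw [hpe, pow_one] at h1
      rw [h1]
      have h2 := hmod k x hx
      rw [hpe, one_mul] at h2
      exact h2
    · have hk1' : k % (p ^ e) = 1 := by
        have : 1 < p ^ e := lt_of_le_of_ne (pow_pos (Fact.out : p.Prime).pos e) (Ne.symm hpe)
        exact (Eq.trans hk1 (Nat.mod_eq_of_lt this) : k % (p ^ e) = 1)
      have hk' : k = 1 + p ^ e * (k / p ^ e) := by
        conv_lhs => rw [← Nat.mod_add_div k (p ^ e), hk1']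
      rw [hz_def, hk', pow_add, pow_one]
      calc c * c ^ (p ^ e * (k / p ^ e)) * x * (c * c ^ (p ^ e * (k / p ^ e)))⁻¹
          = c * (c ^ (p ^ e * (k / p ^ e)) * x * (c ^ (p ^ e * (k / p ^ e)))⁻¹) * c⁻¹ := by group
        _ = _ := by rw [hmod _ x hx]
  have hzN : z⁻¹ ∈ N := N.inv_mem (hRN hzR)
  refine ((isMap_conj E normalizerIn_le hzN.1).comp hψ fun x hx => ?_).congr fun x hx => ?_
  · exact N.mul_mem (N.mul_mem hzN hx) (N.inv_mem hzN)
  · have hx' : z⁻¹ * x * z⁻¹⁻¹ ∈ N := N.mul_mem (N.mul_mem hzN hx) (N.inv_mem hzN)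
    rw [Function.comp_apply, conjMap_apply, conjMap_apply, (ha _ hx').2,
      show a = g * c by rw [hc]; group]
    calc g * x * g⁻¹ = g * (z * (z⁻¹ * x * z⁻¹⁻¹) * z⁻¹) * g⁻¹ := by group
      _ = g * (c * (z⁻¹ * x * z⁻¹⁻¹) * c⁻¹) * g⁻¹ := by rw [hzc _ hx']
      _ = _ := by group

theorem isCentric_normalizerIn (S : Sylow p G) {R : Subgroup G}
    (hR : (groupFusionSystem (S : Subgroup G)).IsCentric R) :
    (groupFusionSystem (S : Subgroup G)).IsCentric
      (Cfsg.FusionSystem.normalizerIn (S : Subgroup G) R) := by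
  refine ⟨inf_le_left, fun Q hQ => ?_⟩
  obtain ⟨f, hf⟩ := isConj_iff.1 hQ
  have hRN := le_normalizerIn_self hR.1
  have hfR := (hf.isMap.mono hRN).isIso
  have hle : imgSub f R ≤ Q := fun y hy => by
    obtain ⟨x, hx, rfl⟩ := hfR.exists_preimage hy
    exact hf.mem (hRN hx)
  intro y hy
  exact hle (hR.2 _ hfR.isConj (FusionSys.mem_centralizerIn.2
    ⟨hy.1, fun z hz => (FusionSys.mem_centralizerIn.1 hy).2 z (hle hz)⟩))

theorem lt_normalizerIn {Ω : Type*} [Group Ω] {S R : Subgroup Ω} [Finite S] (hS : IsPGroup p S)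
    (hR : R < S) : R < Cfsg.FusionSystem.normalizerIn S R := by
  have hlt : R.subgroupOf S < ⊤ :=
    lt_top_iff_ne_top.2 fun h => hR.not_ge (Subgroup.subgroupOf_eq_top.1 h)
  haveI : Group.IsNilpotent S := hS.isNilpotent
  have hN := normalizerCondition_of_isNilpotent _ hlt
  refine lt_of_le_of_ne (le_inf hR.le Subgroup.le_normalizer) fun heq => hN.ne ?_
  refine le_antisymm Subgroup.le_normalizer fun x hx => ?_
  show (x : Ω) ∈ R
  rw [heq]
  refine ⟨x.2, ?_⟩
  haveI : Finite R := finite_of_le hR.le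
  refine mem_normalizer_of_maps fun y hy => ?_
  exact (Subgroup.mem_normalizer_iff.1 hx ⟨y, hR.le hy⟩).1 hy

/-- Extension up to `S`. -/
theorem isMap_conj_top (S : Sylow p G) {E : FusionSystem (S : Subgroup G)}
    (hE : E.IsSubsystemOf (groupFusionSystem (S : Subgroup G))) (hsat : E.IsSaturated p) {g : G}
    (hgS : g ∈ Subgroup.normalizer ((S : Subgroup G) : Set G)) :
    ∀ (n : ℕ) (R : Subgroup G), Nat.card G - Nat.card R ≤ n →
      (groupFusionSystem (S : Subgroup G)).IsCentric R → g ∈ Subgroup.normalizer (R : Set G) →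
      IsMap E R (conjMap g) → IsMap E S (conjMap g) := by
  intro n
  induction n using Nat.strong_induction_on with
  | _ n ih =>
    intro R hn hR hgR hm
    rcases hR.1.eq_or_lt with heq | hlt
    · rwa [heq] at hm
    · have hlt' := lt_normalizerIn S.2 hlt
      have hgN : g ∈ Subgroup.normalizer
          ((Cfsg.FusionSystem.normalizerIn (S : Subgroup G) R : Subgroup G) : Set G) := by
        refine mem_normalizer_of_maps fun x hx => ⟨(Subgroup.mem_normalizer_iff.1 hgS x).1 hx.1, ?_⟩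
        exact Subgroup.mul_mem _ (Subgroup.mul_mem _ hgR hx.2) (Subgroup.inv_mem _ hgR)
      have hcard : Nat.card R < Nat.card (Cfsg.FusionSystem.normalizerIn (S : Subgroup G) R) :=
        lt_of_not_ge fun h => hlt'.ne (Subgroup.eq_of_le_of_card_ge hlt'.le h)
      have htot := Nat.card_le_card_of_injective _
        (Cfsg.FusionSystem.normalizerIn (S : Subgroup G) R).subtype_injective
      exact ih (Nat.card G - Nat.card (Cfsg.FusionSystem.normalizerIn (S : Subgroup G) R)) (by omega)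
        _ le_rfl (isCentric_normalizerIn S hR) hgN (isMap_conj_normalizerIn S hE hsat hR hgS hgR hm)

/-- The generators allowed for the automorphisms of `S`: the automorphisms induced by elements
normalizing `S` which lie in the subgroup generated by the `p`-elements of `N_G(R)`. -/
def pElementsOfNormalizer (p : ℕ) (R : Subgroup G) : Subgroup G :=
  Subgroup.closure {g : G | g ∈ Subgroup.normalizer (R : Set G) ∧ ∃ k : ℕ, orderOf g = p ^ k}

theorem pElementsOfNormalizer_le (R : Subgroup G) :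
    pElementsOfNormalizer p R ≤ Subgroup.normalizer (R : Set G) :=
  (Subgroup.closure_le _).2 fun _ h => h.1

theorem autInducedBy_pElements_le (S : Sylow p G) {E : FusionSystem (S : Subgroup G)}
    (hE : E.IsInvariantIn (groupFusionSystem (S : Subgroup G))) (hsat : E.IsSaturated p)
    {R : Subgroup G} (hfn : (groupFusionSystem (S : Subgroup G)).IsFullyNormalized R)
    (hc : (groupFusionSystem (S : Subgroup G)).IsCentric R) :
    autInducedBy (pElementsOfNormalizer p R) (S : Subgroup G) ≤ E.autGroup S := by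
  intro α hα
  obtain ⟨g, hg, hgS, rfl⟩ := mem_autInducedBy.1 hα
  have hgR := pElementsOfNormalizer_le R hg
  have key : pElementsOfNormalizer p R ≤
      ((E.autGroup R).comap (conjAutHom R)).map (Subgroup.normalizer (R : Set G)).subtype := by
    refine (Subgroup.closure_le _).2 ?_
    rintro x ⟨hx, k, hk⟩
    obtain ⟨y, hy, hys⟩ := exists_conj_mem_of_normalizer S hfn hx hk
    refine ⟨⟨x, hx⟩, ?_, rfl⟩
    have hy' : y⁻¹ ∈ Subgroup.normalizer (R : Set G) := InvMemClass.inv_mem hy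
    have h1 : conjAut (mul_mem (mul_mem hy hx) hy') ∈ E.autGroup R :=
      conjAut_mem_autGroup E hfn.1 ⟨hys, mul_mem (mul_mem hy hx) hy'⟩
    have h2 : conjAut hy' ∈ (groupFusionSystem (S : Subgroup G)).autGroup R :=
      mem_autGroup_of_isMap (isMap_group_iff.2 ⟨hfn.1, y⁻¹, fun z hz =>
        ⟨hfn.1 ((Subgroup.mem_normalizer_iff.1 hy' z).1 hz), autMap_conjAut hy' hz⟩⟩)
    have h3 := conj_mem_autGroup_of_invariant hE hfn.1 h2 h1
    show conjAutHom R ⟨x, hx⟩ ∈ E.autGroup R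
    have : (⟨x, hx⟩ : Subgroup.normalizer (R : Set G)) =
        ⟨y⁻¹, hy'⟩ * ⟨y * x * y⁻¹, mul_mem (mul_mem hy hx) hy'⟩ * ⟨y⁻¹, hy'⟩⁻¹ := by
      apply Subtype.ext
      show x = y⁻¹ * (y * x * y⁻¹) * y⁻¹⁻¹
      group
    rw [this, map_mul, map_mul, map_inv]
    exact h3
  obtain ⟨x, hx, hxg⟩ := key hg
  have hm : IsMap E R (conjMap g) := by
    refine ((mem_autGroup_iff hfn.1).1 hx).congr fun z hz => ?_
    show conjMap g z = autMap (conjAut x.2) z
    rw [autMap_conjAut _ hz, ← hxg]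
    rfl
  exact mem_autGroup_of_isMap ((isMap_conj_top S hE.1 hsat hgS _ R le_rfl hc hgR hm).congr
    fun z hz => autMap_conjAut hgS hz)

/-- The simplicity criterion. -/
theorem isSimple_of_criterion (S : Sylow p G) (hsat : (groupFusionSystem (S : Subgroup G)).IsSaturated p)
    (hS1 : (S : Subgroup G) ≠ ⊥)
    (ha : ∀ T : Subgroup G, (groupFusionSystem (S : Subgroup G)).StronglyClosed T →
      T = ⊥ ∨ T = (S : Subgroup G))
    (hb : autInducedBy ⊤ (S : Subgroup G) ≤ ⨆ (R : Subgroup G)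
      (_ : (groupFusionSystem (S : Subgroup G)).IsFullyNormalized R ∧
        (groupFusionSystem (S : Subgroup G)).IsCentric R),
      autInducedBy (pElementsOfNormalizer p R) (S : Subgroup G)) :
    (groupFusionSystem (S : Subgroup G)).IsSimple p := by
  refine ⟨hsat, hS1, fun T E hE => ?_⟩
  obtain ⟨⟨hEsat, -, hinv⟩, -⟩ := hE
  rcases ha T hinv.2.1 with rfl | rfl
  · exact Or.inl rfl
  refine Or.inr ⟨rfl, fun P => Set.Subset.antisymm (hinv.1 P) fun φ hφ => ?_⟩
  have hP := ((groupFusionSystem (S : Subgroup G)).le_of_mem hφ).1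
  obtain ⟨α, hα, φ₀, hφ₀, hfac⟩ := hinv.2.2.2 P hP φ hφ
  have hαE : α ∈ E.autGroup S := by
    have h1 : α ∈ autInducedBy ⊤ (S : Subgroup G) := by
      obtain ⟨-, a, ha'⟩ := isMap_group_iff.1 ((mem_autGroup_iff le_rfl).1 hα)
      refine mem_autInducedBy.2 ⟨a, Subgroup.mem_top a,
        mem_normalizer_of_maps fun y hy => (ha' y hy).1, MulEquiv.ext fun y => Subtype.ext ?_⟩
      rw [← autMap_coe, (ha' y y.2).2]
      rfl
    exact iSup₂_le (fun R hR => autInducedBy_pElements_le S hinv hEsat hR.1 hR.2) (hb h1)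
  refine mem_hom_of_isMap (((isMap_of_mem hφ₀).comp ((mem_autGroup_iff le_rfl).1 hαE)
    fun x hx => (isMap_of_mem hφ₀).mem_S hx)) fun x => ?_
  have hx0 : φ₀ x ∈ (S : Subgroup G) := (E.le_of_mem hφ₀).2 x
  rw [hfac x hx0, Function.comp_apply, homFun_coe, autMap_apply α hx0]

end Cfsg.Agent.H89
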