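import Cfsg.Agent.H89.SimpleCriterion
import Cfsg.Agent.FusionSys.Group
import Cfsg.Agent.PGroups.Basic

/-!
Tools for applying the simplicity criterion: centric subgroups normal in the Sylow subgroup, a subgroup
collecting the elements allowed as generators, and fusion of elements.
-/

set_option autoImplicit false

namespace Cfsg.Agent.H89

open Cfsg Cfsg.FusionSystem Cfsg.Agent.FusionSys

variable {G : Type*} [Group G] [Finite G] {p : ℕ} [Fact p.Prime]

/-- A subgroup `R ⊴ S` containing its centralizer in `S` is centric. -/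
theorem isCentric_of_le_normalizer (S : Sylow p G) {R : Subgroup G} (hR : R ≤ S)
    (hn : (S : Subgroup G) ≤ Subgroup.normalizer (R : Set G))
    (hc : centralizerIn (S : Subgroup G) R ≤ R) :
    (groupFusionSystem (S : Subgroup G)).IsCentric R := by
  refine ⟨hR, fun Q hQ => ?_⟩
  have hfc := isFullyCentralized_of_isFullyNormalized S.2 (isSaturated_group S)
    (isFullyNormalized_of_le_normalizer S hR hn)
  obtain ⟨f, hf⟩ := isConj_iff.1 hQ
  set A := imgSub f (centralizerIn (S : Subgroup G) R)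
  have hm := hf.isMap.mono hc
  have hAle : A ≤ centralizerIn (S : Subgroup G) Q := fun y hy => by
    obtain ⟨x, hx, rfl⟩ := hm.mem_imgSub.1 hy
    refine FusionSys.mem_centralizerIn.2 ⟨hm.mem_S hx, fun z hz => ?_⟩
    obtain ⟨r, hr, rfl⟩ := hf.exists_preimage hz
    rw [← hf.isMap.map_mul hr (hc hx), (FusionSys.mem_centralizerIn.1 hx).2 r hr,
      hf.isMap.map_mul (hc hx) hr]
  have heq : A = centralizerIn (S : Subgroup G) Q :=
    Subgroup.eq_of_le_of_card_ge hAle ((hfc.2 Q hQ).trans hm.isIso.card_eq.le)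
  rw [← heq]
  intro y hy
  obtain ⟨x, hx, rfl⟩ := hm.mem_imgSub.1 hy
  exact hf.mem (hc hx)

/-- A strongly closed subgroup contains the conjugates in `S` of its elements. -/
theorem mem_of_conj_mem {S T : Subgroup G} (hT : (groupFusionSystem S).StronglyClosed T) {x g : G}
    (hx : x ∈ T) (hgx : g * x * g⁻¹ ∈ S) : g * x * g⁻¹ ∈ T := by
  have hval : ∀ y : Subgroup.zpowers x, g * (y : G) * g⁻¹ ∈ S := by
    rintro ⟨_, k, rfl⟩
    show g * x ^ k * g⁻¹ ∈ S
    rw [← conj_zpow]
    exact S.zpow_mem hgx k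
  have hle : Subgroup.zpowers x ≤ T := Subgroup.zpowers_le.2 hx
  exact hT.2 _ hle (conjHom _ g) ⟨hle.trans hT.1, hval, g, fun _ => rfl⟩ ⟨x, Subgroup.mem_zpowers x⟩

/-- A nontrivial strongly closed subgroup meets the centre of `S`. -/
theorem exists_central_mem (S : Sylow p G) {T : Subgroup G}
    (hT : (groupFusionSystem (S : Subgroup G)).StronglyClosed T) (hne : T ≠ ⊥) :
    ∃ z ∈ T, z ≠ 1 ∧ ∀ s ∈ (S : Subgroup G), s * z = z * s := by
  set T' := T.subgroupOf (S : Subgroup G)
  haveI : T'.Normal := ⟨fun b hb s => mem_of_conj_mem hT hb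
    ((S : Subgroup G).mul_mem ((S : Subgroup G).mul_mem s.2 b.2) ((S : Subgroup G).inv_mem s.2))⟩
  have hT' : T' ≠ ⊥ := by
    intro h
    refine hne ((Subgroup.eq_bot_iff_forall _).2 fun x hx => ?_)
    exact congrArg Subtype.val ((Subgroup.eq_bot_iff_forall _).1 h ⟨x, hT.1 hx⟩ hx)
  obtain ⟨z, hz, hz1⟩ : ∃ z ∈ T' ⊓ Subgroup.center (S : Subgroup G), z ≠ 1 := by
    by_contra h
    push Not at h
    exact Cfsg.Agent.PGroups.inf_center_ne_bot S.2 T' hT' ((Subgroup.eq_bot_iff_forall _).2 h)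
  exact ⟨z, hz.1, fun e => hz1 (Subtype.ext e),
    fun s hs => congrArg Subtype.val (Subgroup.mem_center_iff.1 hz.2 ⟨s, hs⟩)⟩

end Cfsg.Agent.H89
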