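import Cfsg.Agent.H89.AltSplit
import Cfsg.Agent.H89.SimpleCriterion

/-!
In the alternating group, a nontrivial subgroup of a Sylow `p`-subgroup closed under fusion is the whole
Sylow subgroup.
-/

set_option autoImplicit false

namespace Cfsg.Agent.H89.AltClosed

open Equiv Equiv.Perm

variable {α : Type*} [Fintype α] [DecidableEq α] {p : ℕ} [Fact p.Prime]

/-- In odd characteristic `p`-elements are even. -/
theorem sign_eq_one_of_odd (hp : p ≠ 2) {x : Perm α} {k : ℕ} (hx : x ^ (p ^ k) = 1) : sign x = 1 := by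
  have h1 : sign x ^ (p ^ k) = 1 := by rw [← map_pow, hx, map_one]
  have h2 : Odd (p ^ k) := ((Nat.Prime.odd_of_ne_two Fact.out hp)).pow
  rcases Int.units_eq_one_or (sign x) with h | h
  · exact h
  · rw [h, h2.neg_one_pow] at h1
    exact absurd h1 (by decide)

theorem cycleType_of_pow_eq_one {x : Perm α} (hx : x ^ p = 1) (hx1 : x ≠ 1) :
    ∃ k, x.cycleType = Multiset.replicate (k + 1) p := by
  have ho : orderOf x = p := orderOf_eq_prime hx hx1
  obtain ⟨k, hk⟩ := cycleType_prime_order (σ := x) (by rw [ho]; exact Fact.out)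
  exact ⟨k, by rw [hk, ho]⟩

/-- Elements of prime order with the same cycle type are conjugate by an even permutation. -/
theorem exists_even_conj (hn : p + 2 ≤ Fintype.card α) {x y : Perm α} (hx : x ^ p = 1) (hx1 : x ≠ 1)
    (h : x.cycleType = y.cycleType) : ∃ σ ∈ alternatingGroup α, σ * x * σ⁻¹ = y := by
  obtain ⟨τ, hτ⟩ := isConj_iff.1 (isConj_iff_cycleType_eq.2 h)
  by_cases hτe : τ ∈ alternatingGroup α
  · exact ⟨τ, hτe, hτ⟩
  obtain ⟨k, hk⟩ := cycleType_of_pow_eq_one hx hx1
  obtain ⟨σ, hσ, hσo⟩ : ∃ σ ∈ Subgroup.centralizer ({x} : Set (Perm α)), σ ∉ alternatingGroup α := by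
    by_contra hc
    push Not at hc
    obtain ⟨-, h2, h3⟩ := centralizer_le_alternating_iff.1 (fun σ hσ => hc σ hσ)
    rw [hk] at h2 h3
    have hk0 : k + 1 ≤ 1 := by simpa using h3 p
    rw [Multiset.sum_replicate, smul_eq_mul] at h2
    have : (k + 1) * p ≤ p := by
      calc (k + 1) * p ≤ 1 * p := Nat.mul_le_mul_right p hk0
        _ = p := one_mul p
    omega
  refine ⟨τ * σ, ?_, ?_⟩
  · rw [mem_alternatingGroup] at hτe hσo ⊢
    rw [map_mul]
    rcases Int.units_eq_one_or (sign τ) with h1 | h1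
    · exact absurd h1 hτe
    rcases Int.units_eq_one_or (sign σ) with h2 | h2
    · exact absurd h2 hσo
    rw [h1, h2]; decide
  · rw [Subgroup.mem_centralizer_singleton_iff] at hσ
    calc τ * σ * x * (τ * σ)⁻¹ = τ * (σ * x * σ⁻¹) * τ⁻¹ := by group
      _ = τ * x * τ⁻¹ := by rw [hσ, mul_inv_cancel_right]
      _ = y := hτ

variable {G : Type*} [Group G] [Finite G] (ι : G →* Perm α)

/-- A permutation all of whose conjugates in the Sylow subgroup lie in `T`. -/
def Good (S : Sylow p G) (T : Subgroup G) (y : Perm α) : Prop :=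
  ∀ g x : G, ι x = y → g * x * g⁻¹ ∈ (S : Subgroup G) → g * x * g⁻¹ ∈ T

variable {ι} (hι : Function.Injective ι) (hrange : ι.range = alternatingGroup α)
  {S : Sylow p G} {T : Subgroup G}
  (hcl : ∀ x ∈ T, ∀ g : G, g * x * g⁻¹ ∈ (S : Subgroup G) → g * x * g⁻¹ ∈ T)

include hι hcl in
theorem good_of_mem {x : G} (hx : x ∈ T) : Good ι S T (ι x) := fun g x' he hg => by
  rw [hι he] at hg ⊢
  exact hcl x hx g hg

include hι hrange hcl in
/-- Products inside a common `p`-group. -/
theorem good_mul {a b : Perm α} {W : Subgroup (Perm α)} (hW : IsPGroup p W) (ha : a ∈ W) (hb : b ∈ W)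
    (hae : a ∈ alternatingGroup α) (hbe : b ∈ alternatingGroup α)
    (ga : Good ι S T a) (gb : Good ι S T b) : Good ι S T (a * b) := by
  rw [← hrange] at hae hbe
  obtain ⟨a', rfl⟩ := hae
  obtain ⟨b', rfl⟩ := hbe
  intro g x hx hg
  have hx' : x = a' * b' := hι (by rw [hx, map_mul])
  subst hx'
  have hW' : IsPGroup p (W.comap ι : Subgroup G) := hW.comap_of_injective ι hι
  obtain ⟨h, hh⟩ := exists_conj_into_sylow S hW'
  have h1 : h * (a' * b') * h⁻¹ ∈ T := by
    rw [show h * (a' * b') * h⁻¹ = (h * a' * h⁻¹) * (h * b' * h⁻¹) by group]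
    exact mul_mem (ga h a' rfl (hh a' ha)) (gb h b' rfl (hh b' hb))
  have h2 := hcl _ h1 (g * h⁻¹) (by
    rwa [show g * h⁻¹ * (h * (a' * b') * h⁻¹) * (g * h⁻¹)⁻¹ = g * (a' * b') * g⁻¹ by group])
  rwa [show g * h⁻¹ * (h * (a' * b') * h⁻¹) * (g * h⁻¹)⁻¹ = g * (a' * b') * g⁻¹ by group] at h2

theorem good_inv {a : Perm α} (ga : Good ι S T a) : Good ι S T a⁻¹ := fun g x hx hg => by
  have h1 := ga g x⁻¹ (by rw [map_inv, hx, inv_inv]) (by
    rw [show g * x⁻¹ * g⁻¹ = (g * x * g⁻¹)⁻¹ by group]; exact inv_mem hg)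
  rw [show g * x⁻¹ * g⁻¹ = (g * x * g⁻¹)⁻¹ by group] at h1
  exact T.inv_mem_iff.1 h1

include hrange in
theorem good_conj {a σ : Perm α} (hσ : σ ∈ alternatingGroup α) (ga : Good ι S T a) :
    Good ι S T (σ * a * σ⁻¹) := fun g x hx hg => by
  rw [← hrange] at hσ
  obtain ⟨s, rfl⟩ := hσ
  have h := ga (g * s) (s⁻¹ * x * s) (by rw [map_mul, map_mul, map_inv, hx]; group)
    (by rwa [show g * s * (s⁻¹ * x * s) * (g * s)⁻¹ = g * x * g⁻¹ by group])
  rwa [show g * s * (s⁻¹ * x * s) * (g * s)⁻¹ = g * x * g⁻¹ by group] at h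

include hrange in
theorem good_of_cycleType (hn : p + 2 ≤ Fintype.card α) {x y : Perm α} (hx : x ^ p = 1) (hx1 : x ≠ 1)
    (gx : Good ι S T x) (h : x.cycleType = y.cycleType) : Good ι S T y := by
  obtain ⟨σ, hσ, rfl⟩ := exists_even_conj hn hx hx1 h
  exact good_conj hrange hσ gx

omit [DecidableEq α] in
theorem isPGroup_pair {a b : Perm α} (ha : a ^ p = 1) (hb : b ^ p = 1) (hab : Commute a b) :
    IsPGroup p (Subgroup.zpowers a ⊔ Subgroup.zpowers b : Subgroup (Perm α)) := by
  have hz : ∀ {c : Perm α}, c ^ p = 1 → IsPGroup p (Subgroup.zpowers c) := by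
    rintro c hc ⟨_, i, rfl⟩
    refine ⟨1, Subtype.ext ?_⟩
    show (c ^ i) ^ (p ^ 1) = 1
    rw [pow_one, ← zpow_natCast, ← zpow_mul, mul_comm, zpow_mul, zpow_natCast, hc, one_zpow]
  refine (hz ha).to_sup_of_normal_left' (hz hb) (Subgroup.zpowers_le.2 (Subgroup.mem_normalizer_iff.2 fun x => ?_))
  constructor
  · rintro ⟨i, rfl⟩
    refine ⟨i, ?_⟩
    show a ^ i = b * a ^ i * b⁻¹
    rw [← (hab.zpow_left i).eq, mul_inv_cancel_right]
  · rintro ⟨i, hi⟩
    refine ⟨i, ?_⟩
    show a ^ i = x
    have hi' : a ^ i = b * x * b⁻¹ := hi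
    calc a ^ i = b⁻¹ * (a ^ i * b) := by rw [(hab.zpow_left i).eq, inv_mul_cancel_left]
      _ = x := by rw [hi']; group

include hι hrange hcl in
/-- All elements of order `p` are good. -/
theorem good_of_pow_prime (hn : p + 2 ≤ Fintype.card α) {z : Perm α} (hz : z ^ p = 1) (hz1 : z ≠ 1)
    (hze : z ∈ alternatingGroup α) (gz : Good ι S T z) {y : Perm α} (hy : y ^ p = 1)
    (hye : y ∈ alternatingGroup α) (h1 : Good ι S T 1) : Good ι S T y := by
  by_cases hp : p = 2
  · subst hp
    have hpts : ∀ w : Perm α, w ^ 2 = 1 → w ≠ 1 → w ∈ alternatingGroup α → ∃ a b c d : α,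
        w a = b ∧ w b = a ∧ w c = d ∧ w d = c ∧ a ≠ b ∧ c ≠ d ∧ a ≠ c ∧ a ≠ d ∧ b ≠ c ∧ b ≠ d := by
      intro w hw hw1 hwe
      have hww : ∀ a, w (w a) = a := fun a => by rw [← Equiv.Perm.mul_apply, ← pow_two, hw]; rfl
      obtain ⟨a, ha⟩ : ∃ a, w a ≠ a := by
        by_contra hc
        push Not at hc
        exact hw1 (Equiv.ext hc)
      obtain ⟨c, hc, hca, hcb⟩ : ∃ c, w c ≠ c ∧ c ≠ a ∧ c ≠ w a := by
        by_contra hc
        push Not at hc
        have hs : w.support = {a, w a} := by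
          ext c
          simp only [mem_support, Finset.mem_insert, Finset.mem_singleton]
          constructor
          · intro h
            by_cases h' : c = a
            · exact Or.inl h'
            · exact Or.inr (hc c h h')
          · rintro (rfl | rfl)
            · exact ha
            · exact fun e => ha (w.injective e)
        have h2 : w.support.card = 2 := by rw [hs, Finset.card_pair (Ne.symm ha)]
        have h3 := (card_support_eq_two.1 h2).sign_eq
        rw [mem_alternatingGroup.1 hwe] at h3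
        exact absurd h3 (by decide)
      exact ⟨a, w a, c, w c, rfl, hww a, rfl, hww c, Ne.symm ha, Ne.symm hc, hca.symm,
        fun e => hcb (by rw [e, hww]), hcb.symm, fun e => hca (w.injective e).symm⟩
    -- double transpositions
    obtain ⟨a, b, c, d, hab', hba', hcd', hdc', hab, hcd, hac, had, hbc, hbd⟩ := hpts z hz hz1 hze
    have hdt : ∀ {a b c d : α}, a ≠ b → c ≠ d → a ≠ c → a ≠ d → b ≠ c → b ≠ d →
        (Equiv.swap a b * Equiv.swap c d).cycleType = {2, 2} := by
      intro a b c d h1 h2 h3 h4 h5 h6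
      have hd : Disjoint (Equiv.swap a b) (Equiv.swap c d) := by
        intro x
        by_cases hx : x = a ∨ x = b
        · right
          rcases hx with rfl | rfl
          · exact swap_apply_of_ne_of_ne h3 h4
          · exact swap_apply_of_ne_of_ne h5 h6
        · push Not at hx
          exact Or.inl (swap_apply_of_ne_of_ne hx.1 hx.2)
      rw [hd.cycleType_mul, (swap_isSwap_iff.2 h1 |> IsSwap.isCycle).cycleType,
        (swap_isSwap_iff.2 h2 |> IsSwap.isCycle).cycleType, card_support_swap h1, card_support_swap h2]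
      rfl
    have hdt2 : ∀ {a b c d : α}, a ≠ b → c ≠ d → a ≠ c → a ≠ d → b ≠ c → b ≠ d →
        (Equiv.swap a b * Equiv.swap c d) ^ 2 = 1 ∧
          Equiv.swap a b * Equiv.swap c d ∈ alternatingGroup α ∧
          Equiv.swap a b * Equiv.swap c d ≠ 1 := by
      intro a b c d h1 h2 h3 h4 h5 h6
      refine ⟨?_, ?_, fun e => ?_⟩
      · have hc : Commute (Equiv.swap a b) (Equiv.swap c d) := by
          refine Disjoint.commute fun x => ?_
          by_cases hx : x = a ∨ x = b
          · right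
            rcases hx with rfl | rfl
            · exact swap_apply_of_ne_of_ne h3 h4
            · exact swap_apply_of_ne_of_ne h5 h6
          · push Not at hx
            exact Or.inl (swap_apply_of_ne_of_ne hx.1 hx.2)
        rw [hc.mul_pow, pow_two, pow_two, swap_mul_self, swap_mul_self, one_mul]
      · rw [mem_alternatingGroup, map_mul, sign_swap h1, sign_swap h2]; decide
      · have := congrArg Multiset.card (hdt h1 h2 h3 h4 h5 h6)
        rw [e, cycleType_one] at this
        simp at this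
    set u := Equiv.swap a b * Equiv.swap c d with hu
    set w := u * z with hw
    have hwfix : w a = a ∧ w b = b ∧ w c = c ∧ w d = d := by
      simp only [hw, hu, Equiv.Perm.mul_apply, hab', hba', hcd', hdc']
      refine ⟨?_, ?_, ?_, ?_⟩
      · rw [swap_apply_of_ne_of_ne hbc hbd, swap_apply_right]
      · rw [swap_apply_of_ne_of_ne hac had, swap_apply_left]
      · rw [swap_apply_right, swap_apply_of_ne_of_ne hac.symm hbc.symm]
      · rw [swap_apply_left, swap_apply_of_ne_of_ne had.symm hbd.symm]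
    obtain ⟨hwa, hwb, hwc, hwd⟩ := hwfix
    have hdis : ∀ v : Perm α, (∀ x, x ≠ a → x ≠ b → x ≠ c → x ≠ d → v x = x) → Disjoint v w := by
      intro v hv x
      by_cases hx : x = a ∨ x = b ∨ x = c ∨ x = d
      · right
        rcases hx with rfl | rfl | rfl | rfl <;> assumption
      · push Not at hx
        exact Or.inl (hv x hx.1 hx.2.1 hx.2.2.1 hx.2.2.2)
    set u' := Equiv.swap a c * Equiv.swap b d with hu'
    have hvu : ∀ x, x ≠ a → x ≠ b → x ≠ c → x ≠ d → u x = x := fun x h1 h2 h3 h4 => by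
      rw [hu, Equiv.Perm.mul_apply, swap_apply_of_ne_of_ne h3 h4, swap_apply_of_ne_of_ne h1 h2]
    have hvu' : ∀ x, x ≠ a → x ≠ b → x ≠ c → x ≠ d → u' x = x := fun x h1 h2 h3 h4 => by
      rw [hu', Equiv.Perm.mul_apply, swap_apply_of_ne_of_ne h2 h4, swap_apply_of_ne_of_ne h1 h3]
    obtain ⟨hu2, hue, -⟩ := hdt2 hab hcd hac had hbc hbd
    obtain ⟨hu'2, hu'e, -⟩ := hdt2 hac hbd hab had hbc.symm hcd
    have huu : u * u = 1 := by rw [← pow_two]; exact hu2
    have hzu : z = u * w := by rw [hw, ← mul_assoc, huu, one_mul]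
    have hcuw := (hdis u hvu).commute
    have hcu'w := (hdis u' hvu').commute
    have hw2 : w ^ 2 = 1 := by
      have := hcuw.mul_pow 2
      rw [← hzu, hz, hu2, one_mul] at this
      exact this.symm
    have hwe : w ∈ alternatingGroup α := mul_mem hue hze
    have hz'2 : (u' * w) ^ 2 = 1 := by rw [hcu'w.mul_pow, hu'2, hw2, one_mul]
    have hcuu' : Commute u u' := by
      refine Equiv.ext fun x => ?_
      show u (u' x) = u' (u x)
      by_cases hx : x = a ∨ x = b ∨ x = c ∨ x = d
      · rcases hx with rfl | rfl | rfl | rfl <;>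
          simp [hu, hu', swap_apply_def, hab, hcd, hac, had, hbc, hbd, hab.symm, hcd.symm, hac.symm,
            had.symm, hbc.symm, hbd.symm]
      · push Not at hx
        rw [hvu x hx.1 hx.2.1 hx.2.2.1 hx.2.2.2, hvu' x hx.1 hx.2.1 hx.2.2.1 hx.2.2.2,
          hvu x hx.1 hx.2.1 hx.2.2.1 hx.2.2.2]
    have hprod : (u' * w) * z = Equiv.swap a d * Equiv.swap b c := by
      have hw' : w * w = 1 := by rw [← pow_two]; exact hw2
      rw [hzu, hcuw.eq, mul_assoc, ← mul_assoc w w, hw', one_mul]
      refine Equiv.ext fun x => ?_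
      by_cases hx : x = a ∨ x = b ∨ x = c ∨ x = d
      · rcases hx with rfl | rfl | rfl | rfl <;>
          simp [hu, hu', swap_apply_def, hab, hcd, hac, had, hbc, hbd, hab.symm, hcd.symm, hac.symm,
            had.symm, hbc.symm, hbd.symm]
      · push Not at hx
        rw [Equiv.Perm.mul_apply, hvu x hx.1 hx.2.1 hx.2.2.1 hx.2.2.2,
          hvu' x hx.1 hx.2.1 hx.2.2.1 hx.2.2.2, Equiv.Perm.mul_apply,
          swap_apply_of_ne_of_ne hx.2.1 hx.2.2.1, swap_apply_of_ne_of_ne hx.1 hx.2.2.2]
    have gz' : Good ι S T (u' * w) := by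
      refine good_of_cycleType hrange hn hz hz1 gz ?_
      rw [hzu, (hdis u hvu).cycleType_mul, (hdis u' hvu').cycleType_mul, hdt hab hcd hac had hbc hbd,
        hdt hac hbd hab had hbc.symm hcd]
    have hcomm : Commute (u' * w) z := by
      rw [hzu]
      exact (Commute.mul_right hcuu'.symm hcu'w).mul_left (Commute.mul_right hcuw.symm (Commute.refl w))
    have gd := good_mul hι hrange hcl (isPGroup_pair hz'2 hz hcomm)
      (Subgroup.mem_sup_left (Subgroup.mem_zpowers _)) (Subgroup.mem_sup_right (Subgroup.mem_zpowers _))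
      (mul_mem hu'e hwe) hze gz' gz
    rw [hprod] at gd
    obtain ⟨hv2, hve, hv1⟩ := hdt2 had hbc hab hac hbd.symm hcd.symm
    have gdt : ∀ {a b c d : α}, a ≠ b → c ≠ d → a ≠ c → a ≠ d → b ≠ c → b ≠ d →
        Good ι S T (Equiv.swap a b * Equiv.swap c d) := fun h1 h2 h3 h4 h5 h6 =>
      good_of_cycleType hrange hn hv2 hv1 gd
        ((hdt had hbc hab hac hbd.symm hcd.symm).trans (hdt h1 h2 h3 h4 h5 h6).symm)
    -- all even involutions
    clear hprod hcomm gz' gd
    suffices key : ∀ (n : ℕ) (y : Perm α), y.support.card = n → y ^ 2 = 1 → y ∈ alternatingGroup α →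
        Good ι S T y from key _ y rfl hy hye
    intro n
    induction n using Nat.strong_induction_on with
    | _ n ih =>
      intro y hn' hy hye
      by_cases hy1 : y = 1
      · exact hy1 ▸ h1
      obtain ⟨a, b, c, d, hab', hba', hcd', hdc', hab, hcd, hac, had, hbc, hbd⟩ := hpts y hy hy1 hye
      obtain ⟨hv2, hve, -⟩ := hdt2 hab hcd hac had hbc hbd
      set v := Equiv.swap a b * Equiv.swap c d with hv
      have hyy : ∀ x, y (y x) = x := fun x => by rw [← Equiv.Perm.mul_apply, ← pow_two, hy]; rfl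
      have hvy : ∀ x, x ≠ a → x ≠ b → x ≠ c → x ≠ d → v x = x := fun x h1 h2 h3 h4 => by
        rw [hv, Equiv.Perm.mul_apply, swap_apply_of_ne_of_ne h3 h4, swap_apply_of_ne_of_ne h1 h2]
      have hyout : ∀ x, x ≠ a → x ≠ b → x ≠ c → x ≠ d → y x ≠ a ∧ y x ≠ b ∧ y x ≠ c ∧ y x ≠ d :=
        fun x h1 h2 h3 h4 => ⟨fun e => h2 (by rw [← hyy x, e, hab']), fun e => h1 (by rw [← hyy x, e, hba']),
          fun e => h4 (by rw [← hyy x, e, hcd']), fun e => h3 (by rw [← hyy x, e, hdc'])⟩
      have hcom : Commute v y := by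
        refine Equiv.ext fun x => ?_
        show v (y x) = y (v x)
        by_cases hx : x = a ∨ x = b ∨ x = c ∨ x = d
        · rcases hx with rfl | rfl | rfl | rfl <;>
            simp [hv, swap_apply_def, hab', hba', hcd', hdc', hab, hcd, hac, had, hbc, hbd, hab.symm,
              hcd.symm, hac.symm, had.symm, hbc.symm, hbd.symm]
        · push Not at hx
          obtain ⟨e1, e2, e3, e4⟩ := hyout x hx.1 hx.2.1 hx.2.2.1 hx.2.2.2
          rw [hvy _ e1 e2 e3 e4, hvy x hx.1 hx.2.1 hx.2.2.1 hx.2.2.2]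
      have hw2 : (v * y) ^ 2 = 1 := by rw [hcom.mul_pow, hv2, hy, one_mul]
      have hva : (v * y) a = a := by
        rw [Equiv.Perm.mul_apply, hab', hv, Equiv.Perm.mul_apply, swap_apply_of_ne_of_ne hbc hbd,
          swap_apply_right]
      have hlt : (v * y).support.card < n := by
        rw [← hn']
        refine Finset.card_lt_card ((Finset.ssubset_iff_of_subset fun x hx => ?_).2
          ⟨a, mem_support.2 (by rw [hab']; exact hab.symm), fun h => (mem_support.1 h) hva⟩)
        rw [mem_support] at hx ⊢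
        intro e
        apply hx
        have h1 : x ≠ a := fun h => hab (by rw [h] at e; exact e.symm.trans hab')
        have h2 : x ≠ b := fun h => hab.symm (by rw [h] at e; exact e.symm.trans hba')
        have h3 : x ≠ c := fun h => hcd (by rw [h] at e; exact e.symm.trans hcd')
        have h4 : x ≠ d := fun h => hcd.symm (by rw [h] at e; exact e.symm.trans hdc')
        rw [Equiv.Perm.mul_apply, e, hvy x h1 h2 h3 h4]
      have gw := ih _ hlt (v * y) rfl hw2 (mul_mem hve hye)
      have := good_mul hι hrange hcl (isPGroup_pair hv2 hw2 ((Commute.refl v).mul_right hcom))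
        (Subgroup.mem_sup_left (Subgroup.mem_zpowers _)) (Subgroup.mem_sup_right (Subgroup.mem_zpowers _))
        hve (mul_mem hve hye) (gdt hab hcd hac had hbc hbd) gw
      rwa [← mul_assoc, ← pow_two, hv2, one_mul] at this
  · have hev : ∀ {g : Perm α}, g ^ p = 1 → g ∈ alternatingGroup α := fun hg =>
      mem_alternatingGroup.2 (sign_eq_one_of_odd hp (k := 1) (by rwa [pow_one]))
    obtain ⟨c, hc⟩ : z.cycleFactorsFinset.Nonempty := by
      rw [Finset.nonempty_iff_ne_empty, Ne, cycleFactorsFinset_eq_empty_iff]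
      exact hz1
    set w := z * c⁻¹ with hw
    have hdis : Disjoint w c := disjoint_mul_inv_of_mem_cycleFactorsFinset hc
    have hzcw : z = c * w := by
      rw [← hdis.commute.eq, hw, inv_mul_cancel_right]
    obtain ⟨hcyc, -⟩ := mem_cycleFactorsFinset_iff.1 hc
    have hcp : c ^ p = 1 ∧ w ^ p = 1 := by
      have h2 := hz
      rw [hzcw, hdis.commute.symm.mul_pow] at h2
      have h3 : Disjoint (c ^ p) (w ^ p) := (hdis.symm.pow_disjoint_pow p p)
      obtain ⟨e1, e2⟩ := h3.mul_eq_one_iff.1 h2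
      exact ⟨e1, e2⟩
    have hc1 : c ≠ 1 := hcyc.ne_one
    have hp2 : ¬ p ∣ 2 := fun h => hp ((Nat.prime_dvd_prime_iff_eq Fact.out Nat.prime_two).1 h)
    have hc2 : (c ^ 2).cycleType = c.cycleType := by
      have hcc : c.cycleType = {p} := by
        rw [hcyc.cycleType, ← hcyc.orderOf, orderOf_eq_prime hcp.1 hc1]
      have h2p : (c ^ 2) ^ p = 1 := by rw [← pow_mul, mul_comm, pow_mul, hcp.1, one_pow]
      have h21 : c ^ 2 ≠ 1 := fun e => hp2 (by
        have := orderOf_dvd_of_pow_eq_one e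
        rwa [orderOf_eq_prime hcp.1 hc1] at this)
      obtain ⟨k, hk⟩ := cycleType_of_pow_eq_one h2p h21
      have hle : (c ^ 2).cycleType.sum ≤ c.cycleType.sum := by
        rw [sum_cycleType, sum_cycleType]
        exact Finset.card_le_card (support_pow_le c 2)
      rw [hk, hcc, Multiset.sum_replicate, Multiset.sum_singleton, smul_eq_mul] at hle
      have hk0 : k = 0 := by
        by_contra h0
        have h2k : 2 * p ≤ (k + 1) * p := Nat.mul_le_mul_right p (by omega)
        have := (Fact.out : p.Prime).pos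
        omega
      rw [hk, hcc, hk0]
      rfl
    have hcomm : Commute c w := hdis.symm.commute
    have gz' : Good ι S T (c ^ 2 * w) := by
      refine good_of_cycleType hrange hn hz hz1 gz ?_
      rw [hzcw, hdis.symm.cycleType_mul, (hdis.symm.mono (support_pow_le c 2) le_rfl).cycleType_mul, hc2]
    have hz'p : (c ^ 2 * w) ^ p = 1 := by
      rw [(hcomm.pow_left 2).mul_pow, ← pow_mul, mul_comm 2, pow_mul, hcp.1, hcp.2, one_pow, one_mul]
    have hzi : z⁻¹ ^ p = 1 := by rw [inv_pow, hz, inv_one]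
    have hci : Commute (c ^ 2 * w) z⁻¹ := by
      rw [hzcw]
      exact (((Commute.refl c).pow_left 2).mul_right (hcomm.pow_left 2) |>.mul_left
        (hcomm.symm.mul_right (Commute.refl w))).inv_right
    have gc := good_mul hι hrange hcl (isPGroup_pair hz'p hzi hci)
      (Subgroup.mem_sup_left (Subgroup.mem_zpowers _)) (Subgroup.mem_sup_right (Subgroup.mem_zpowers _))
      (hev hz'p) (hev hzi) gz' (good_inv gz)
    rw [show c ^ 2 * w * z⁻¹ = c by rw [hzcw]; group] at gc
    revert hy
    clear hye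
    refine cycle_induction_on (P := fun y => y ^ p = 1 → Good ι S T y) y (fun _ => h1) ?_ ?_
    · intro σ hσ hσp
      refine good_of_cycleType hrange hn hcp.1 hc1 gc ?_
      rw [hcyc.cycleType, hσ.cycleType, ← hcyc.orderOf, ← hσ.orderOf, orderOf_eq_prime hcp.1 hc1,
        orderOf_eq_prime hσp hσ.ne_one]
    · intro σ τ hd _ ihσ ihτ hστ
      rw [hd.commute.mul_pow] at hστ
      obtain ⟨e1, e2⟩ := (hd.pow_disjoint_pow p p).mul_eq_one_iff.1 hστ
      exact good_mul hι hrange hcl (isPGroup_pair e1 e2 hd.commute)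
        (Subgroup.mem_sup_left (Subgroup.mem_zpowers _)) (Subgroup.mem_sup_right (Subgroup.mem_zpowers _))
        (hev e1) (hev e2) (ihσ e1) (ihτ e2)

include hι hrange hcl in
/-- A nontrivial fusion-closed subgroup is the whole Sylow subgroup. -/
theorem eq_sylow (hn : p + 2 ≤ Fintype.card α) (hT : T ≤ (S : Subgroup G)) (hne : T ≠ ⊥) :
    T = (S : Subgroup G) := by
  have h1 : Good ι S T 1 := fun g x hx _ => by
    rw [hι (hx.trans (map_one ι).symm)]
    simp
  obtain ⟨z, hzT, hz⟩ : ∃ z ∈ T, orderOf z = p := by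
    have hTp := S.2.to_le hT
    haveI : Nontrivial T := (Subgroup.nontrivial_iff_ne_bot T).2 hne
    obtain ⟨k, hk⟩ := IsPGroup.iff_card.1 hTp
    obtain ⟨k', rfl⟩ : ∃ k', k = k' + 1 := ⟨k - 1, by
      have := Finite.one_lt_card (α := T)
      rcases k with _ | k
      · rw [hk, pow_zero] at this; omega
      · omega⟩
    obtain ⟨z, hz⟩ := exists_prime_orderOf_dvd_card' (G := T) p (hk ▸ dvd_pow_self p (Nat.succ_ne_zero k'))
    exact ⟨z, z.2, (Subgroup.orderOf_coe z).trans hz⟩
  have heven : ∀ g, ι g ∈ alternatingGroup α := fun g => hrange ▸ ⟨g, rfl⟩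
  have hzp : ι z ^ p = 1 := by rw [← map_pow, ← hz, pow_orderOf_eq_one, map_one]
  have hz1 : ι z ≠ 1 := fun e => by
    rw [show z = 1 from hι (e.trans (map_one ι).symm), orderOf_one] at hz
    exact (Fact.out : p.Prime).ne_one hz.symm
  have gz := good_of_mem hι hcl hzT
  suffices key : ∀ (r : ℕ) (y : Perm α), y ^ (p ^ r) = 1 → y ∈ alternatingGroup α → Good ι S T y by
    refine le_antisymm hT fun x hx => ?_
    obtain ⟨r, hr⟩ := S.2 ⟨x, hx⟩
    have := key r (ι x) (by
      rw [← map_pow, show x ^ p ^ r = 1 from congrArg Subtype.val hr, map_one]) (heven x) 1 x rfl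
      (by simpa using hx)
    simpa using this
  intro r
  induction r with
  | zero =>
    intro y hy _
    rw [pow_zero, pow_one] at hy
    exact hy ▸ h1
  | succ r ih =>
    intro y hy hye
    rcases eq_or_ne r 0 with rfl | hr
    · rw [zero_add, pow_one] at hy
      exact good_of_pow_prime hι hrange hcl hn hzp hz1 (heven z) gz hy hye h1
    obtain ⟨W, s, hW, hyW, hsW, hs, hys, hsign⟩ := AltSplit.exists_split hr hy
    have hse : s ∈ alternatingGroup α := by
      rw [mem_alternatingGroup]
      by_cases hp : p = 2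
      · exact hsign hp
      · exact sign_eq_one_of_odd hp hs
    have h2 : y * s⁻¹ ∈ alternatingGroup α := mul_mem hye (inv_mem hse)
    have := good_mul hι hrange hcl hW (mul_mem hyW (inv_mem hsW)) hsW h2 hse (ih _ hys h2) (ih _ hs hse)
    rwa [inv_mul_cancel_right] at this

end Cfsg.Agent.H89.AltClosed
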