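import Cfsg.Agent.H89.SimpleCriterion
import Cfsg.Agent.H89.SimpleTools

/-!
Simplicity from automorphisms: a variant of the criterion in which the automorphisms of `S` may be
produced by any argument inside an invariant saturated subsystem.
-/

set_option autoImplicit false

namespace Cfsg.Agent.H89

open Cfsg Cfsg.FusionSystem Cfsg.Agent.FusionSys

variable {G : Type*} [Group G] [Finite G] {p : ℕ} [Fact p.Prime]

/-- Simplicity when every invariant saturated subsystem over `S` contains all automorphisms of `S`. -/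
theorem isSimple_of_auts (S : Sylow p G) (hS1 : (S : Subgroup G) ≠ ⊥)
    (ha : ∀ T : Subgroup G, (groupFusionSystem (S : Subgroup G)).StronglyClosed T →
      T = ⊥ ∨ T = (S : Subgroup G))
    (hb : ∀ E : FusionSystem (S : Subgroup G), E.IsInvariantIn (groupFusionSystem (S : Subgroup G)) →
      E.IsSaturated p → ∀ g ∈ Subgroup.normalizer ((S : Subgroup G) : Set G),
        IsMap E (S : Subgroup G) (conjMap g)) :
    (groupFusionSystem (S : Subgroup G)).IsSimple p := by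
  refine ⟨isSaturated_group S, hS1, fun T E hE => ?_⟩
  obtain ⟨⟨hEsat, -, hinv⟩, -⟩ := hE
  rcases ha T hinv.2.1 with rfl | rfl
  · exact Or.inl rfl
  refine Or.inr ⟨rfl, fun P => Set.Subset.antisymm (hinv.1 P) fun φ hφ => ?_⟩
  have hP := ((groupFusionSystem (S : Subgroup G)).le_of_mem hφ).1
  obtain ⟨α, hα, φ₀, hφ₀, hfac⟩ := hinv.2.2.2 P hP φ hφ
  obtain ⟨-, a, ha'⟩ := isMap_group_iff.1 ((mem_autGroup_iff le_rfl).1 hα)
  have hαE : α ∈ E.autGroup (S : Subgroup G) :=
    mem_autGroup_of_isMap ((hb E hinv hEsat a (mem_normalizer_of_maps fun y hy => (ha' y hy).1)).congr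
      fun y hy => (ha' y hy).2)
  refine mem_hom_of_isMap (((isMap_of_mem hφ₀).comp ((mem_autGroup_iff le_rfl).1 hαE)
    fun x hx => (isMap_of_mem hφ₀).mem_S hx)) fun x => ?_
  have hx0 : φ₀ x ∈ (S : Subgroup G) := (E.le_of_mem hφ₀).2 x
  rw [hfac x hx0, Function.comp_apply, homFun_coe, autMap_apply α hx0]

/-- The elements of `N_G(R)` inducing automorphisms in `E`. -/
def autPre {S : Subgroup G} (E : FusionSystem S) (R : Subgroup G) : Subgroup G :=
  ((E.autGroup R).comap (conjAutHom R)).map (Subgroup.normalizer (R : Set G)).subtype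

omit [Finite G] in
theorem mem_autPre {S : Subgroup G} {E : FusionSystem S} {R : Subgroup G} (hR : R ≤ S) {g : G} :
    g ∈ autPre E R ↔ g ∈ Subgroup.normalizer (R : Set G) ∧ IsMap E R (conjMap g) := by
  constructor
  · rintro ⟨⟨x, hx⟩, h, rfl⟩
    exact ⟨hx, ((mem_autGroup_iff hR).1 h).congr fun y hy => (autMap_conjAut hx hy).symm⟩
  · rintro ⟨hg, h⟩
    exact ⟨⟨g, hg⟩, mem_autGroup_of_isMap (h.congr fun y hy => autMap_conjAut hg hy), rfl⟩

/-- Elements of `N_G(R)` conjugate there into `S` induce automorphisms in an invariant subsystem. -/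
theorem mem_autPre_of_conj (S : Sylow p G) {E : FusionSystem (S : Subgroup G)}
    (hE : E.IsInvariantIn (groupFusionSystem (S : Subgroup G))) {R : Subgroup G}
    (hR : R ≤ (S : Subgroup G)) {x y : G} (hx : x ∈ Subgroup.normalizer (R : Set G))
    (hy : y ∈ Subgroup.normalizer (R : Set G)) (hys : y * x * y⁻¹ ∈ (S : Subgroup G)) :
    x ∈ autPre E R := by
  refine ⟨⟨x, hx⟩, ?_, rfl⟩
  have hy' : y⁻¹ ∈ Subgroup.normalizer (R : Set G) := InvMemClass.inv_mem hy
  have h1 : conjAut (mul_mem (mul_mem hy hx) hy') ∈ E.autGroup R :=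
    conjAut_mem_autGroup E hR ⟨hys, mul_mem (mul_mem hy hx) hy'⟩
  have h2 : conjAut hy' ∈ (groupFusionSystem (S : Subgroup G)).autGroup R :=
    mem_autGroup_of_isMap (isMap_group_iff.2 ⟨hR, y⁻¹, fun z hz =>
      ⟨hR ((Subgroup.mem_normalizer_iff.1 hy' z).1 hz), autMap_conjAut hy' hz⟩⟩)
  have h3 := conj_mem_autGroup_of_invariant hE hR h2 h1
  show conjAutHom R ⟨x, hx⟩ ∈ E.autGroup R
  have : (⟨x, hx⟩ : Subgroup.normalizer (R : Set G)) =
      ⟨y⁻¹, hy'⟩ * ⟨y * x * y⁻¹, mul_mem (mul_mem hy hx) hy'⟩ * ⟨y⁻¹, hy'⟩⁻¹ := by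
    apply Subtype.ext
    show x = y⁻¹ * (y * x * y⁻¹) * y⁻¹⁻¹
    group
  rw [this, map_mul, map_mul, map_inv]
  exact h3

/-- A subgroup containing its centralizer is centric. -/
theorem isCentric_of_centralizer_le (S : Sylow p G) {R : Subgroup G} (hR : R ≤ (S : Subgroup G))
    (hc : ∀ c : G, (∀ r ∈ R, r * c = c * r) → c ∈ R) :
    (groupFusionSystem (S : Subgroup G)).IsCentric R := by
  refine ⟨hR, fun Q hQ y hy => ?_⟩
  obtain ⟨f, hf⟩ := isConj_iff.1 hQ
  obtain ⟨-, a, ha⟩ := isMap_group_iff.1 hf.isMap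
  obtain ⟨-, hyc⟩ := FusionSys.mem_centralizerIn.1 hy
  have h1 : a⁻¹ * y * a ∈ R := hc _ fun r hr => by
    have h := hyc (f r) (hf.mem hr)
    rw [(ha r hr).2] at h
    calc r * (a⁻¹ * y * a) = a⁻¹ * (a * r * a⁻¹ * y) * a := by group
      _ = a⁻¹ * (y * (a * r * a⁻¹)) * a := by rw [h]
      _ = _ := by group
  have h2 := hf.mem h1
  rwa [(ha _ h1).2, show a * (a⁻¹ * y * a) * a⁻¹ = y by group] at h2

/-- Extension of a conjugation inside a subsystem over a receptive subgroup. -/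
theorem exists_extend_conj (S : Sylow p G) {E : FusionSystem (S : Subgroup G)}
    (hE : E.IsSubsystemOf (groupFusionSystem (S : Subgroup G))) {Q N : Subgroup G}
    (hQ : E.IsReceptive Q) {g : G} (hg : g ∈ Subgroup.normalizer (Q : Set G))
    (hm : IsMap E Q (conjMap g))
    (hN : ∀ x ∈ N, x ∈ (S : Subgroup G) ∧ x ∈ Subgroup.normalizer (Q : Set G) ∧
      ∃ w ∈ (S : Subgroup G),
        ∀ q ∈ Q, g * (x * q * x⁻¹) * g⁻¹ = w * (g * q * g⁻¹) * w⁻¹) :
    ∃ a : G, IsMap E (N ⊔ Q) (conjMap a) ∧ ∀ q ∈ Q, a * q * a⁻¹ = g * q * g⁻¹ := by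
  have hiso : IsIso E Q Q (conjMap g) := ⟨hm, by
    ext z
    constructor
    · rintro ⟨r, hr, rfl⟩
      exact (Subgroup.mem_normalizer_iff.1 hg r).1 hr
    · intro hz
      refine ⟨g⁻¹ * z * g, (Subgroup.mem_normalizer_iff.1 hg _).2 ?_, ?_⟩
      · rwa [show g * (g⁻¹ * z * g) * g⁻¹ = z by group]
      · simp only [conjMap_apply]
        group⟩
  obtain ⟨ψ, hψ, hψe⟩ := receptive_extend hQ hiso (N := N) fun x hx => by
    obtain ⟨hxS, hxn, w, hwS, hw⟩ := hN x hx
    refine ⟨hxS, hxn, w, hwS, fun y hy => ?_⟩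
    simp only [conjMap_apply]
    exact hw y hy
  obtain ⟨-, a, ha⟩ := isMap_group_iff.1 (isSubsystemOf_iff_isMap.1 hE _ ψ hψ)
  refine ⟨a, hψ.congr fun x hx => ?_, fun q hq => ?_⟩
  · exact (ha x hx).2.symm
  · rw [← (ha q (Subgroup.mem_sup_right hq)).2]
    exact hψe q hq

end Cfsg.Agent.H89
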