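import Cfsg.Agent.H89.AltSquare
import Cfsg.Agent.H89.AltClosed
import Cfsg.Agent.H89.SimpleAuts

/-!
Fusion systems of alternating groups in odd characteristic: the automorphisms of the Sylow subgroup
lie in every invariant saturated subsystem.
-/

set_option autoImplicit false

namespace Cfsg.Agent.H89.AltMain

open Equiv Equiv.Perm
open Cfsg Cfsg.FusionSystem Cfsg.Agent.FusionSys
open Cfsg.Agent.H89 Cfsg.Agent.H89.AltModel Cfsg.Agent.H89.AltSquare

variable {p : ℕ} [Fact p.Prime] {κ γ : Type*} [Fintype κ] [DecidableEq κ] [Fintype γ] [DecidableEq γ]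
  [Subsingleton γ]

local notation "PP" => Perm (((ZMod p ⊕ κ) × ZMod p) ⊕ γ)

variable {G : Type*} [Group G] [Finite G]

theorem isMap_conj_sylow (hp : p ≠ 2) (ι : G →* PP) (hι : Function.Injective ι)
    (hrange : ι.range = alternatingGroup (((ZMod p ⊕ κ) × ZMod p) ⊕ γ)) (S : Sylow p G)
    (hSN : ∀ g ∈ (S : Subgroup G),
      ι g ∈ Subgroup.normalizer (base p (ZMod p ⊕ κ) γ : Set PP))
    (hbS : ∀ g, ι g ∈ base p (ZMod p ⊕ κ) γ → g ∈ (S : Subgroup G))
    (hqS : ∀ g, ι g ∈ sqSub p κ γ → g ∈ (S : Subgroup G))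
    {E : FusionSystem (S : Subgroup G)}
    (hE : E.IsInvariantIn (groupFusionSystem (S : Subgroup G))) (hsat : E.IsSaturated p)
    {g : G} (hg : g ∈ Subgroup.normalizer ((S : Subgroup G) : Set G)) :
    IsMap E (S : Subgroup G) (conjMap g) := by
  classical
  have lift : ∀ σ : PP, σ ^ p = 1 → ∃ x : G, ι x = σ := fun σ hσ => by
    have h : sign σ = 1 := AltClosed.sign_eq_one_of_odd hp (k := 1) (by rw [pow_one]; exact hσ)
    exact MonoidHom.mem_range.1 (show σ ∈ ι.range by rw [hrange]; exact h)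
  have hev : ∀ x : G, ι x ∈ alternatingGroup (((ZMod p ⊕ κ) × ZMod p) ⊕ γ) := fun x => by
    rw [← hrange]; exact ⟨x, rfl⟩
  -- the three subgroups
  set B := (base p (ZMod p ⊕ κ) γ).comap ι with hB
  set Q := (sqSub p κ γ).comap ι with hQ
  set A := (affSub p κ γ).comap ι with hA
  have hAB : A ≤ B := fun x hx => affSub_le_base (Subgroup.mem_comap.1 hx)
  have hBS : B ≤ (S : Subgroup G) := fun x hx => hbS x hx
  have hQS : Q ≤ (S : Subgroup G) := fun x hx => hqS x hx
  have hnorm : ∀ (H : Subgroup PP) (x : G), (∀ h ∈ H, ι x * h * (ι x)⁻¹ ∈ H) →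
      x ∈ Subgroup.normalizer ((H.comap ι : Subgroup G) : Set G) := fun H x h =>
    mem_normalizer_of_maps fun y hy => by
      rw [Subgroup.mem_comap, map_mul, map_mul, map_inv]
      exact h _ hy
  have hcentG : ∀ (H : Subgroup PP) (c : G), (∀ h ∈ H, h ^ p = 1) → (∀ r ∈ H.comap ι, r * c = c * r) →
      ∀ h ∈ H, h * ι c = ι c * h := fun H c hH hc h hh => by
    obtain ⟨r, rfl⟩ := lift h (hH h hh)
    rw [← map_mul, ← map_mul, hc r hh]
  -- centralisers
  have hQc : ∀ c : G, (∀ r ∈ Q, r * c = c * r) → c ∈ Q := fun c hc => by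
    refine Subgroup.mem_comap.2 (mem_sqSub_of_commute (hcentG _ c (fun h hh => ?_) hc))
    obtain ⟨s, t, c', rfl⟩ := hh
    have : ∀ k : ℕ, (q s t c' : PP) ^ k = q ((k : ZMod p) * s) ((k : ZMod p) * t) (k • c') := by
      intro k
      induction k with
      | zero => rw [pow_zero, Nat.cast_zero, zero_mul, zero_mul, zero_smul, q_zero]
      | succ k ih =>
        rw [pow_succ, ih, ← q_add, succ_nsmul, Nat.cast_succ]
        congr 1 <;> ring
    rw [this, ZMod.natCast_self, zero_mul, zero_mul,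
      show p • c' = 0 from funext fun i => by simp, q_zero]
  have hAc : ∀ c : G, (∀ r ∈ A, r * c = c * r) → c ∈ B := fun c hc => by
    refine Subgroup.mem_comap.2 (mem_base_of_commute (hcentG _ c (fun h hh => ?_) hc))
    obtain ⟨b, rfl⟩ := mem_base.1 (affSub_le_base hh)
    exact tr_pow_p b
  have hBcomm : ∀ x ∈ B, ∀ y ∈ B, x * y = y * x := fun x hx y hy =>
    hι (by rw [map_mul, map_mul]; exact base_commute hx hy)
  have hBcen : (groupFusionSystem (S : Subgroup G)).IsCentric B :=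
    isCentric_of_centralizer_le S hBS fun c hc => hAc c fun r hr => hc r (hAB hr)
  have hQcen : (groupFusionSystem (S : Subgroup G)).IsCentric Q := isCentric_of_centralizer_le S hQS hQc
  have hSB : (S : Subgroup G) ≤ Subgroup.normalizer (B : Set G) := fun x hx =>
    hnorm _ x fun h hh => (Subgroup.mem_normalizer_iff.1 (hSN x hx) h).1 hh
  have hBfn := isFullyNormalized_of_le_normalizer S hBS hSB
  have hQrec : E.IsReceptive Q := receptive_of_centric S.2 E hsat
    ⟨hQS, fun R ⟨φ, hφ, hr⟩ => hQcen.2 R ⟨φ, hE.1 Q hφ, hr⟩⟩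
  have hArec : E.IsReceptive A := by
    refine receptive_of_isFullyCentralized S.2 hsat ⟨hAB.trans hBS, fun R hR => ?_⟩
    obtain ⟨f, hf⟩ := isConj_iff.1 hR
    obtain ⟨-, a, ha⟩ := isMap_group_iff.1 (isSubsystemOf_iff_isMap.1 hE.1 _ f hf.isMap)
    refine Nat.card_le_card_of_injective
      (fun x : centralizerIn (S : Subgroup G) R => (⟨a⁻¹ * x * a, ?_⟩ :
        centralizerIn (S : Subgroup G) A)) fun x y h => ?_
    · have h1 : a⁻¹ * x * a ∈ B := hAc _ fun r hr => by
        have h := (FusionSys.mem_centralizerIn.1 x.2).2 (f r) (hf.mem hr)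
        rw [(ha r hr).2] at h
        calc r * (a⁻¹ * x * a) = a⁻¹ * (a * r * a⁻¹ * x) * a := by group
          _ = a⁻¹ * (x * (a * r * a⁻¹)) * a := by rw [h]
          _ = _ := by group
      exact FusionSys.mem_centralizerIn.2 ⟨hBS h1, fun r hr => hBcomm r (hAB hr) _ h1⟩
    · have h1 : a⁻¹ * (x : G) * a = a⁻¹ * (y : G) * a := congrArg Subtype.val h
      exact Subtype.ext (mul_left_cancel (mul_right_cancel h1))
  -- transvections
  have hupQ : ∀ c x, ι x = (upper c : PP) → x ∈ autPre E Q := fun c x hx => by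
    have hxn : x ∈ Subgroup.normalizer (Q : Set G) :=
      hnorm _ x fun h hh => by rw [hx]; exact upper_normalizes_sqSub c hh
    refine mem_autPre_of_conj S hE hQS hxn (one_mem _) ?_
    rw [one_mul, inv_one, mul_one]
    exact hbS x (by rw [hx]; exact upper_mem_base c)
  obtain ⟨x1, hx1⟩ := lift _ (upper_pow_p (p := p) (κ := κ) (γ := γ) 1)
  obtain ⟨y1, hy1⟩ := lift _ (lower_pow_p (p := p) (κ := κ) (γ := γ) (-1))
  set W := x1 * y1 * x1 with hW
  have hιW : ι W = weyl := by rw [hW, map_mul, map_mul, hx1, hy1]; rfl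
  have hWn : W ∈ Subgroup.normalizer (Q : Set G) := by
    have hy1n : y1 ∈ Subgroup.normalizer (Q : Set G) :=
      hnorm _ y1 fun h hh => by rw [hy1]; exact lower_normalizes_sqSub _ hh
    have hx1n := ((mem_autPre hQS).1 (hupQ 1 x1 hx1)).1
    exact mul_mem (mul_mem hx1n hy1n) hx1n
  have hlowQ : ∀ c x, ι x = (lower c : PP) → x ∈ autPre E Q := fun c x hx => by
    have hxn : x ∈ Subgroup.normalizer (Q : Set G) :=
      hnorm _ x fun h hh => by rw [hx]; exact lower_normalizes_sqSub c hh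
    refine mem_autPre_of_conj S hE hQS hxn (inv_mem hWn) (hbS _ ?_)
    simp only [map_mul, map_inv, inv_inv, hιW, hx, lower_conj]
    exact upper_mem_base _
  -- the diagonal element
  have hdiag : ∀ ω : (ZMod p)ˣ, ∃ D, ι D = (diag ω : PP) ∧ D ∈ autPre E B := by
    intro ω
    obtain ⟨u, hu⟩ := lift _ (upper_pow_p (p := p) (κ := κ) (γ := γ) (ω : ZMod p))
    obtain ⟨l, hl⟩ := lift _ (lower_pow_p (p := p) (κ := κ) (γ := γ) (-(ω⁻¹ : (ZMod p)ˣ).val))
    obtain ⟨u', hu'⟩ := lift _ (upper_pow_p (p := p) (κ := κ) (γ := γ) (-1))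
    obtain ⟨l', hl'⟩ := lift _ (lower_pow_p (p := p) (κ := κ) (γ := γ) 1)
    set D := u * l * u * (u' * l' * u') with hD
    have hιD : ι D = diag ω := by
      simp only [hD, map_mul, hu, hl, hu', hl']
      exact (diag_eq ω).symm
    have hDQ : D ∈ autPre E Q :=
      mul_mem (mul_mem (mul_mem (hupQ _ _ hu) (hlowQ _ _ hl)) (hupQ _ _ hu))
        (mul_mem (mul_mem (hupQ _ _ hu') (hlowQ _ _ hl')) (hupQ _ _ hu'))
    obtain ⟨hDnQ, hDm⟩ := (mem_autPre hQS).1 hDQ
    have hDA : D ∈ Subgroup.normalizer (A : Set G) :=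
      hnorm _ D fun h hh => by rw [hιD]; exact diag_normalizes_affSub ω hh
    have hDB : D ∈ Subgroup.normalizer (B : Set G) :=
      hnorm _ D fun h hh => by rw [hιD]; exact diag_normalizes_base ω hh
    refine ⟨D, hιD, (mem_autPre hBS).2 ⟨hDB, ?_⟩⟩
    obtain ⟨a, ha, hae⟩ := exists_extend_conj S hE.1 hQrec hDnQ hDm (N := A) fun x hx =>
      ⟨hBS (hAB hx), hnorm _ x fun h hh => affSub_normalizes_sqSub hx hh, D * x * D⁻¹,
        hBS (hAB ((Subgroup.mem_normalizer_iff.1 hDA x).1 hx)), fun r _ => by group⟩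
    have hcQ : D⁻¹ * a ∈ Q := hQc _ fun r hr => by
      calc r * (D⁻¹ * a) = D⁻¹ * (D * r * D⁻¹) * a := by group
        _ = D⁻¹ * (a * r * a⁻¹) * a := by rw [hae r hr]
        _ = _ := by group
    have hcA : (D⁻¹ * a)⁻¹ ∈ Subgroup.normalizer (A : Set G) :=
      hnorm _ _ fun h hh => by
        rw [map_inv]
        exact sqSub_normalizes_affSub (inv_mem (Subgroup.mem_comap.1 hcQ)) hh
    have hDA' : IsMap E A (conjMap D) := by
      refine ((isMap_conj E (hAB.trans hBS) (hQS (inv_mem hcQ))).comp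
        (ha.mono le_sup_left) fun x hx => (Subgroup.mem_normalizer_iff.1 hcA x).1 hx).congr
        fun x _ => ?_
      simp only [Function.comp_apply, conjMap_apply]
      group
    obtain ⟨a', ha', hae'⟩ := exists_extend_conj S hE.1 hArec hDA hDA' (N := B) fun x hx =>
      ⟨hBS hx, mem_normalizer_of_maps fun y hy => by
          rw [hBcomm x hx y (hAB hy), mul_inv_cancel_right]; exact hy,
        D * x * D⁻¹, hBS ((Subgroup.mem_normalizer_iff.1 hDB x).1 hx), fun r _ => by group⟩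
    have hcB : D⁻¹ * a' ∈ B := hAc _ fun r hr => by
      calc r * (D⁻¹ * a') = D⁻¹ * (D * r * D⁻¹) * a' := by group
        _ = D⁻¹ * (a' * r * a'⁻¹) * a' := by rw [hae' r hr]
        _ = _ := by group
    refine (ha'.mono le_sup_left).congr fun x hx => ?_
    simp only [conjMap_apply]
    calc D * x * D⁻¹ = D * (x * (D⁻¹ * a') * (D⁻¹ * a')⁻¹) * D⁻¹ := by group
      _ = D * ((D⁻¹ * a') * x * (D⁻¹ * a')⁻¹) * D⁻¹ := by rw [hBcomm x hx _ hcB]
      _ = _ := by group
  -- the elements of order p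
  have hH : ∀ π a b, (mono π a b : PP) ^ p = 1 → mono π a b ∈ (autPre E B).map ι := by
    intro π a b h
    obtain ⟨x, hx⟩ := lift _ h
    have hxn : x ∈ Subgroup.normalizer (B : Set G) := hnorm _ x fun h hh => by
      rw [hx]
      exact (Subgroup.mem_normalizer_iff.1 (mono_mem_normalizer π a b) h).1 hh
    have hord : orderOf x ∣ p ^ 1 := by
      rw [pow_one]
      exact orderOf_dvd_of_pow_eq_one (hι (by rw [map_pow, hx, h, map_one]))
    obtain ⟨k, -, hk⟩ := (Nat.dvd_prime_pow (Fact.out : p.Prime)).1 hord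
    obtain ⟨y, hy, hys⟩ := exists_conj_mem_of_normalizer S hBfn hxn hk
    exact ⟨x, mem_autPre_of_conj S hE hBS hxn hy hys, hx⟩
  -- the element g
  have hgN : ι g ∈ Subgroup.normalizer (base p (ZMod p ⊕ κ) γ : Set PP) := by
    have key : base p (ZMod p ⊕ κ) γ ≤
        (base p (ZMod p ⊕ κ) γ).comap (MulAut.conj (ι g)).toMonoidHom := by
      refine eq_tr_of_single fun i c => ?_
      obtain ⟨x, hx⟩ := lift _ (tr_pow_p (Pi.single i c : ZMod p ⊕ κ → ZMod p))
      have hx' := hSN _ ((Subgroup.mem_normalizer_iff.1 hg x).1 (hbS x (by rw [hx]; exact tr_mem _)))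
      rw [map_mul, map_mul, map_inv, hx] at hx'
      rw [Subgroup.mem_comap]
      show ι g * tr (Pi.single i c) * (ι g)⁻¹ ∈ base p (ZMod p ⊕ κ) γ
      obtain ⟨π, a, b, hm⟩ := exists_mono hx'
      rw [hm]
      refine mem_base_of_small_support ?_ ?_
      · rw [← hm, card_support_conj]
        exact card_support_tr_single i c
      · rw [← hm, conj_pow, tr_pow_p]
        group
    exact Subgroup.mem_normalizer_fintype fun h hh => key hh
  obtain ⟨π, a, b, hm⟩ := exists_mono hgN
  set ω := (∏ i, a i)⁻¹ with hω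
  obtain ⟨D, hD, hDm⟩ := hdiag ω
  have hmem : ι (g * D) ∈ (autPre E B).map ι := by
    rw [map_mul, hm, hD, diag, mono_mul]
    refine mono_mem_of_generators hp ?_ hH _ ?_ ?_ ?_
    · rw [Fintype.card_sum, ZMod.card]
      exact Nat.le_add_right _ _
    · rintro _ ⟨x, -, rfl⟩
      exact hev x
    · rw [← mono_mul, ← hm]
      show ι g * diag ω ∈ _
      rw [← hD, ← map_mul]
      exact hev _
    · rw [Finset.prod_mul_distrib, Equiv.prod_comp _ a,
        Fintype.prod_sum_type (Sum.elim (fun _ : ZMod p => ω) (1 : κ → (ZMod p)ˣ))]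
      simp only [Sum.elim_inl, Sum.elim_inr, Pi.one_apply, Finset.prod_const, Finset.card_univ,
        ZMod.card, one_pow, mul_one]
      rw [show ω ^ p = ω from Units.ext (by rw [Units.val_pow_eq_pow_val, ZMod.pow_card]), hω,
        mul_inv_cancel]
  obtain ⟨z, hz, hzg⟩ := hmem
  rw [hι hzg] at hz
  have hgB : g ∈ autPre E B := by simpa using mul_mem hz (inv_mem hDm)
  obtain ⟨hgn, hgm⟩ := (mem_autPre hBS).1 hgB
  exact isMap_conj_top S hE.1 hsat hg _ B le_rfl hBcen hgn hgm

/-- A Sylow subgroup in the position required. -/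
theorem exists_sylow_model (hp : p ≠ 2) (ι : G →* PP) (hι : Function.Injective ι)
    (hrange : ι.range = alternatingGroup (((ZMod p ⊕ κ) × ZMod p) ⊕ γ)) :
    ∃ S : Sylow p G,
      (∀ g ∈ (S : Subgroup G), ι g ∈ Subgroup.normalizer (base p (ZMod p ⊕ κ) γ : Set PP)) ∧
      (∀ g, ι g ∈ base p (ZMod p ⊕ κ) γ → g ∈ (S : Subgroup G)) ∧
      (∀ g, ι g ∈ sqSub p κ γ → g ∈ (S : Subgroup G)) := by
  classical
  set N := Subgroup.normalizer (base p (ZMod p ⊕ κ) γ : Set PP) with hN
  have hbN : base p (ZMod p ⊕ κ) γ ≤ N := Subgroup.le_normalizer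
  have hqN : sqSub p κ γ ≤ N := fun x hx => sqSub_mem_normalizer_base hx
  have h0 : IsPGroup p ↥((base p (ZMod p ⊕ κ) γ ⊔ sqSub p κ γ).subgroupOf N) :=
    (isPGroup_base.to_sup_of_normal_left' isPGroup_sqSub hqN).comap_subtype
  obtain ⟨P, hP⟩ := h0.exists_le_sylow
  set W := (P : Subgroup N).map N.subtype with hW
  have hWle : base p (ZMod p ⊕ κ) γ ⊔ sqSub p κ γ ≤ W := fun x hx =>
    ⟨⟨x, sup_le hbN hqN hx⟩, hP hx, rfl⟩
  have hWp : IsPGroup p W := P.2.map _
  have hWev : W ≤ ι.range := fun x hx => by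
    rw [hrange]
    obtain ⟨k, hk⟩ := hWp ⟨x, hx⟩
    exact AltClosed.sign_eq_one_of_odd hp (congrArg Subtype.val hk)
  have hcardW : Nat.card W = p ^ (Nat.card N).factorization p := by
    rw [hW, Subgroup.card_map_of_injective N.subtype_injective]
    exact P.card_eq_multiplicity
  -- the p-part of the order
  have hcG : 2 * Nat.card G = (Fintype.card (((ZMod p ⊕ κ) × ZMod p) ⊕ γ)).factorial := by
    haveI : Nontrivial (((ZMod p ⊕ κ) × ZMod p) ⊕ γ) :=
      ⟨Sum.inl (Sum.inl 0, 0), Sum.inl (Sum.inl 0, 1), by simp⟩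
    have e : G ≃ alternatingGroup (((ZMod p ⊕ κ) × ZMod p) ⊕ γ) :=
      ((MonoidHom.ofInjective hι).trans (MulEquiv.subgroupCongr hrange)).toEquiv
    rw [Nat.card_congr e, two_mul_nat_card_alternatingGroup, Nat.card_perm,
      Nat.card_eq_fintype_card]
  have hfac : (Nat.card G).factorization p = (Nat.card N).factorization p := by
    have hpp : p.Prime := Fact.out
    have h2 : (2 * Nat.card G).factorization p = (Nat.card G).factorization p := by
      rw [Nat.factorization_mul two_ne_zero Nat.card_pos.ne', Finsupp.add_apply,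
        Nat.Prime.factorization Nat.prime_two, Finsupp.single_eq_of_ne hp, zero_add]
    rw [← h2, hcG, card_normalizer_base, Nat.factorization_def _ hpp, Nat.factorization_def _ hpp,
      padicValNat.mul (Nat.factorial_ne_zero _) (pow_ne_zero _ (Nat.mul_ne_zero
        (Nat.sub_ne_zero_of_lt hpp.one_lt) hpp.ne_zero)),
      padicValNat.pow,
      padicValNat.mul (Nat.sub_ne_zero_of_lt hpp.one_lt) hpp.ne_zero,
      padicValNat.self hpp.one_lt,
      padicValNat.eq_zero_of_not_dvd (Nat.not_dvd_of_pos_of_lt (Nat.sub_pos_of_lt hpp.one_lt)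
        (Nat.sub_lt hpp.pos one_pos)), zero_add, mul_one, Fintype.card_sum, Fintype.card_prod,
      ZMod.card, mul_comm (Fintype.card (ZMod p ⊕ κ)) p]
    have hγ : Fintype.card γ < p := lt_of_le_of_lt (Fintype.card_le_one_iff_subsingleton.2 inferInstance) hpp.one_lt
    rw [padicValNat_factorial_mul_add _ hγ, padicValNat_factorial_mul]
  have hcard : Nat.card (W.comap ι) = p ^ (Nat.card G).factorization p := by
    rw [hfac, ← hcardW]
    have : (W.comap ι).map ι = W := Subgroup.map_comap_eq_self hWev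
    conv_rhs => rw [← this]
    exact (Subgroup.card_map_of_injective hι).symm
  refine ⟨Sylow.ofCard (W.comap ι) hcard, fun g hg => ?_, fun g hg => ?_, fun g hg => ?_⟩
  · obtain ⟨x, -, hx⟩ := (hg : ι g ∈ W)
    rw [← hx]
    exact x.2
  · exact hWle (Subgroup.mem_sup_left hg)
  · exact hWle (Subgroup.mem_sup_right hg)

/-- Automorphisms of every Sylow subgroup. -/
theorem isMap_conj_sylow_all (hp : p ≠ 2) (ι : G →* PP) (hι : Function.Injective ι)
    (hrange : ι.range = alternatingGroup (((ZMod p ⊕ κ) × ZMod p) ⊕ γ)) (S : Sylow p G)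
    {E : FusionSystem (S : Subgroup G)}
    (hE : E.IsInvariantIn (groupFusionSystem (S : Subgroup G))) (hsat : E.IsSaturated p)
    {g : G} (hg : g ∈ Subgroup.normalizer ((S : Subgroup G) : Set G)) :
    IsMap E (S : Subgroup G) (conjMap g) := by
  obtain ⟨S0, h1, h2, h3⟩ := exists_sylow_model hp ι hι hrange
  obtain ⟨c, hc⟩ := MulAction.exists_smul_eq G S0 S
  have hmem : ∀ x, x ∈ (S : Subgroup G) ↔ c⁻¹ * x * c ∈ (S0 : Subgroup G) := fun x => by
    rw [← hc, Sylow.coe_subgroup_smul, Subgroup.mem_pointwise_smul_iff_inv_smul_mem]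
    simp [MulAut.smul_def, MulAut.inv_apply, MulAut.conj_symm_apply]
  set φ : G →* G := (MulAut.conj c⁻¹).toMonoidHom with hφ
  have hφx : ∀ x, φ x = c⁻¹ * x * c := fun x => by simp [hφ]
  refine isMap_conj_sylow hp (ι.comp φ) (hι.comp (MulAut.conj c⁻¹).injective) ?_ S
    (fun x hx => ?_) (fun x hx => ?_) (fun x hx => ?_) hE hsat hg
  · rw [MonoidHom.range_comp, MonoidHom.range_eq_top.2 (MulAut.conj c⁻¹).surjective,
      ← MonoidHom.range_eq_map, hrange]
  · rw [MonoidHom.comp_apply, hφx]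
    exact h1 _ ((hmem x).1 hx)
  · rw [hmem, ← hφx]
    exact h2 _ hx
  · rw [hmem, ← hφx]
    exact h3 _ hx

end Cfsg.Agent.H89.AltMain
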