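import Mathlib

/-!
Monomial permutations of `(ι × ZMod p) ⊕ γ`, the normaliser of the base group, and the affine square.
-/

set_option autoImplicit false

namespace Cfsg.Agent.H89.AltModel

open Equiv Equiv.Perm

variable {p : ℕ} [Fact p.Prime] {ι γ : Type*}

/-- `(i, x) ↦ (π i, a i * x + b i)`, fixing `γ`. -/
def mono (π : Perm ι) (a : ι → (ZMod p)ˣ) (b : ι → ZMod p) : Perm ((ι × ZMod p) ⊕ γ) where
  toFun := Sum.elim (fun x => Sum.inl (π x.1, a x.1 * x.2 + b x.1)) Sum.inr
  invFun := Sum.elim (fun x => Sum.inl (π.symm x.1, (a (π.symm x.1))⁻¹.val * (x.2 - b (π.symm x.1)))) Sum.inr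
  left_inv := by
    rintro (⟨i, x⟩ | u)
    · simp only [Sum.elim_inl, Equiv.symm_apply_apply, add_sub_cancel_right, Units.inv_mul_cancel_left]
    · rfl
  right_inv := by
    rintro (⟨i, x⟩ | u)
    · simp only [Sum.elim_inl, Equiv.apply_symm_apply, Units.mul_inv_cancel_left, sub_add_cancel]
    · rfl

@[simp] theorem mono_inl (π : Perm ι) (a : ι → (ZMod p)ˣ) (b : ι → ZMod p) (i : ι) (x : ZMod p) :
    (mono π a b : Perm ((ι × ZMod p) ⊕ γ)) (Sum.inl (i, x)) = Sum.inl (π i, a i * x + b i) := rfl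

@[simp] theorem mono_inr (π : Perm ι) (a : ι → (ZMod p)ˣ) (b : ι → ZMod p) (u : γ) :
    (mono π a b : Perm ((ι × ZMod p) ⊕ γ)) (Sum.inr u) = Sum.inr u := rfl

theorem mono_mul (π π' : Perm ι) (a a' : ι → (ZMod p)ˣ) (b b' : ι → ZMod p) :
    (mono π a b : Perm ((ι × ZMod p) ⊕ γ)) * mono π' a' b' =
      mono (π * π') (fun i => a (π' i) * a' i) (fun i => a (π' i) * b' i + b (π' i)) := by
  ext (⟨i, x⟩ | u)
  · simp; ring
  · rfl

theorem mono_one : (mono 1 1 0 : Perm ((ι × ZMod p) ⊕ γ)) = 1 := by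
  ext (⟨i, x⟩ | u)
  · simp
  · rfl

theorem mono_injective {π π' : Perm ι} {a a' : ι → (ZMod p)ˣ} {b b' : ι → ZMod p}
    (h : (mono π a b : Perm ((ι × ZMod p) ⊕ γ)) = mono π' a' b') : π = π' ∧ a = a' ∧ b = b' := by
  have h0 : ∀ i x, π i = π' i ∧ (a i : ZMod p) * x + b i = a' i * x + b' i := fun i x => by
    have := congrArg (fun g : Perm ((ι × ZMod p) ⊕ γ) => g (Sum.inl (i, x))) h
    simpa using this
  have hb : b = b' := funext fun i => by simpa using (h0 i 0).2
  refine ⟨Equiv.ext fun i => (h0 i 0).1, funext fun i => Units.ext ?_, hb⟩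
  have := (h0 i 1).2
  rw [hb] at this
  simpa using this

/-- Translations. -/
def tr (b : ι → ZMod p) : Perm ((ι × ZMod p) ⊕ γ) := mono 1 1 b

theorem tr_add (b b' : ι → ZMod p) : (tr (b + b') : Perm ((ι × ZMod p) ⊕ γ)) = tr b * tr b' := by
  rw [tr, tr, tr, mono_mul, one_mul]
  congr 1 <;> funext i <;> simp [add_comm]

theorem tr_zero : (tr 0 : Perm ((ι × ZMod p) ⊕ γ)) = 1 := mono_one

variable (p ι γ)

/-- The base group. -/
def base : Subgroup (Perm ((ι × ZMod p) ⊕ γ)) where
  carrier := Set.range tr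
  one_mem' := ⟨0, tr_zero⟩
  mul_mem' := by rintro _ _ ⟨b, rfl⟩ ⟨b', rfl⟩; exact ⟨b + b', tr_add b b'⟩
  inv_mem' := by
    rintro _ ⟨b, rfl⟩
    exact ⟨-b, eq_inv_of_mul_eq_one_left (by rw [← tr_add, neg_add_cancel, tr_zero])⟩

variable {p ι γ}

theorem mem_base {g : Perm ((ι × ZMod p) ⊕ γ)} : g ∈ base p ι γ ↔ ∃ b, tr b = g := Iff.rfl

theorem tr_mem (b : ι → ZMod p) : (tr b : Perm ((ι × ZMod p) ⊕ γ)) ∈ base p ι γ := ⟨b, rfl⟩

theorem mono_conj_tr (π : Perm ι) (a : ι → (ZMod p)ˣ) (b c : ι → ZMod p) :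
    (mono π a b : Perm ((ι × ZMod p) ⊕ γ)) * tr c * (mono π a b)⁻¹ =
      tr (fun i => (a (π.symm i) : ZMod p) * c (π.symm i)) := by
  rw [mul_inv_eq_iff_eq_mul, tr, tr, mono_mul, mono_mul]
  simp [mul_one, one_mul, add_comm]

theorem tr_pow (b : ι → ZMod p) (k : ℕ) : (tr b : Perm ((ι × ZMod p) ⊕ γ)) ^ k = tr (k • b) := by
  induction k with
  | zero => rw [pow_zero, zero_smul, tr_zero]
  | succ k ih => rw [pow_succ, ih, ← tr_add, succ_nsmul]

theorem tr_pow_p (b : ι → ZMod p) : (tr b : Perm ((ι × ZMod p) ⊕ γ)) ^ p = 1 := by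
  rw [tr_pow, show p • b = 0 from funext fun i => by simp, tr_zero]

theorem isPGroup_base : IsPGroup p (base p ι γ) := by
  rintro ⟨_, b, rfl⟩
  exact ⟨1, Subtype.ext (by rw [pow_one]; exact tr_pow_p b)⟩

theorem mono_mem_normalizer [Finite ι] [Finite γ] (π : Perm ι) (a : ι → (ZMod p)ˣ) (b : ι → ZMod p) :
    (mono π a b : Perm ((ι × ZMod p) ⊕ γ)) ∈ Subgroup.normalizer (base p ι γ : Set (Perm ((ι × ZMod p) ⊕ γ))) := by
  refine Subgroup.mem_normalizer_fintype fun x hx => ?_
  obtain ⟨c, rfl⟩ := mem_base.1 hx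
  exact ⟨_, (mono_conj_tr π a b c).symm⟩

/-- Elements normalising the base are monomial. -/
theorem exists_mono [Finite ι] [Finite γ] [Subsingleton γ] [DecidableEq ι] {g : Perm ((ι × ZMod p) ⊕ γ)}
    (hg : g ∈ Subgroup.normalizer (base p ι γ : Set (Perm ((ι × ZMod p) ⊕ γ)))) :
    ∃ π a b, g = mono π a b := by
  have hconj : ∀ c, ∃ c', g * tr c * g⁻¹ = tr c' := fun c => by
    obtain ⟨c', hc⟩ := mem_base.1 ((Subgroup.mem_normalizer_iff.1 hg _).1 (tr_mem c))
    exact ⟨c', hc.symm⟩
  have hinr : ∀ u, g (Sum.inr u) = Sum.inr u := by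
    intro u
    rcases hgu : g (Sum.inr u) with ⟨i, x⟩ | v
    · exfalso
      obtain ⟨c, hc⟩ := mem_base.1 ((Subgroup.mem_normalizer_iff.1 (Subgroup.inv_mem _ hg) _).1
        (tr_mem (1 : ι → ZMod p)))
      have h2 : (tr (1 : ι → ZMod p) : Perm ((ι × ZMod p) ⊕ γ)) * g = g * tr c := by rw [hc]; group
      have := congrArg (fun h : Perm ((ι × ZMod p) ⊕ γ) => h (Sum.inr u)) h2
      simp [tr, hgu] at this
    · rw [Subsingleton.elim v u]
  have hinl : ∀ i x, ∃ j y, g (Sum.inl (i, x)) = Sum.inl (j, y) := by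
    intro i x
    rcases hgi : g (Sum.inl (i, x)) with ⟨j, y⟩ | u
    · exact ⟨j, y, rfl⟩
    · exact absurd (g.injective (hgi.trans (hinr u).symm)) Sum.inl_ne_inr
  choose J Y hJY using hinl
  choose C hC using fun i : ι => hconj (Pi.single i 1)
  have hrec : ∀ i x, g (Sum.inl (i, x + 1)) = Sum.inl (J i x, Y i x + C i (J i x)) := by
    intro i x
    have h2 : g * tr (Pi.single i 1) = tr (C i) * g := by rw [← hC i]; group
    have := congrArg (fun h : Perm ((ι × ZMod p) ⊕ γ) => h (Sum.inl (i, x))) h2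
    simpa [tr, hJY, add_comm] using this
  have hJ : ∀ i, ∀ k : ℕ, g (Sum.inl (i, (k : ZMod p))) = Sum.inl (J i 0, Y i 0 + k * C i (J i 0)) := by
    intro i k
    induction k with
    | zero => simp [hJY]
    | succ k ih =>
      have h1 := hrec i k
      rw [hJY, Sum.inl.injEq, Prod.mk.injEq] at ih
      obtain ⟨e1, e2⟩ := ih
      rw [Nat.cast_succ, h1, e1, e2]
      congr 2
      ring
  have hgen : ∀ i x, g (Sum.inl (i, x)) = Sum.inl (J i 0, Y i 0 + x * C i (J i 0)) := by
    intro i x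
    have := hJ i x.val
    rwa [ZMod.natCast_rightInverse x] at this
  have hCne : ∀ i, C i (J i 0) ≠ 0 := fun i h => by
    have h1 := hgen i 1
    rw [h, mul_zero, add_zero, ← hJY i 0] at h1
    simpa using g.injective h1
  have hJinj : Function.Injective fun i => J i 0 := by
    intro i i' hii
    have h1 : g (Sum.inl (i', (Y i 0 - Y i' 0) / C i' (J i' 0))) = g (Sum.inl (i, 0)) := by
      rw [hgen, hgen, ← show J i 0 = J i' 0 from hii, zero_mul, add_zero,
        div_mul_cancel₀ _ (by rw [show J i 0 = J i' 0 from hii]; exact hCne i'), add_sub_cancel]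
    exact (Prod.ext_iff.1 (Sum.inl.inj (g.injective h1))).1.symm
  refine ⟨Equiv.ofBijective _ ⟨hJinj, Finite.surjective_of_injective hJinj⟩,
    fun i => Units.mk0 _ (hCne i), fun i => Y i 0, Equiv.ext ?_⟩
  rintro (⟨i, x⟩ | u)
  · rw [hgen, mono_inl]
    show Sum.inl (J i 0, _) = Sum.inl (J i 0, _)
    simp [add_comm, mul_comm]
  · rw [hinr, mono_inr]

theorem sign_mono_perm [Fintype ι] [DecidableEq ι] [Fintype γ] [DecidableEq γ] (π : Perm ι) :
    sign (mono π 1 0 : Perm ((ι × ZMod p) ⊕ γ)) = sign π ^ p := by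
  have : (mono π 1 0 : Perm ((ι × ZMod p) ⊕ γ)) =
      Perm.sumCongr (Equiv.prodCongrLeft fun _ : ZMod p => π) 1 := by
    ext (⟨i, x⟩ | u)
    · simp
    · rfl
  rw [this, sign_sumCongr, sign_prodCongrLeft, map_one, mul_one, Finset.prod_const, Finset.card_univ,
    ZMod.card]

theorem card_normalizer_base [Fintype ι] [DecidableEq ι] [Finite γ] [Subsingleton γ] :
    Nat.card (Subgroup.normalizer (base p ι γ : Set (Perm ((ι × ZMod p) ⊕ γ)))) =
      (Fintype.card ι).factorial * ((p - 1) * p) ^ Fintype.card ι := by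
  have e : Perm ι × (ι → (ZMod p)ˣ) × (ι → ZMod p) ≃
      Subgroup.normalizer (base p ι γ : Set (Perm ((ι × ZMod p) ⊕ γ))) := by
    refine Equiv.ofBijective (fun x => ⟨mono x.1 x.2.1 x.2.2, mono_mem_normalizer _ _ _⟩) ⟨?_, ?_⟩
    · rintro ⟨π, a, b⟩ ⟨π', a', b'⟩ h
      obtain ⟨rfl, rfl, rfl⟩ := mono_injective (congrArg Subtype.val h)
      rfl
    · rintro ⟨g, hg⟩
      obtain ⟨π, a, b, rfl⟩ := exists_mono hg
      exact ⟨(π, a, b), rfl⟩
  rw [← Nat.card_congr e, Nat.card_prod, Nat.card_prod, Nat.card_perm, Nat.card_fun, Nat.card_fun,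
    Nat.card_eq_fintype_card (α := ι), Nat.card_units, Nat.card_zmod, mul_pow]

/-- An element of the normaliser of the base with support of at most `p` points fixing it. -/
theorem mem_base_of_small_support [Fintype ι] [DecidableEq ι] [Fintype γ] [DecidableEq γ]
    {π : Perm ι} {a : ι → (ZMod p)ˣ} {b : ι → ZMod p}
    (hsupp : (mono π a b : Perm ((ι × ZMod p) ⊕ γ)).support.card ≤ p)
    (hord : (mono π a b : Perm ((ι × ZMod p) ⊕ γ)) ^ p = 1) :
    (mono π a b : Perm ((ι × ZMod p) ⊕ γ)) ∈ base p ι γ := by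
  have hπ : π = 1 := by
    by_contra hne
    obtain ⟨i, hi⟩ : ∃ i, π i ≠ i := by
      by_contra hc
      push Not at hc
      exact hne (Equiv.ext hc)
    let f : Bool × ZMod p → (ι × ZMod p) ⊕ γ := fun x => Sum.inl (if x.1 then i else π i, x.2)
    have hf : Function.Injective f := by
      rintro ⟨b1, x⟩ ⟨b2, y⟩ h
      simp only [f, Sum.inl.injEq, Prod.mk.injEq] at h
      obtain ⟨h1, rfl⟩ := h
      cases b1 <;> cases b2 <;> first | rfl | exact absurd h1 hi | exact absurd h1.symm hi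
    have hsub : Finset.univ.image f ⊆ (mono π a b : Perm ((ι × ZMod p) ⊕ γ)).support := by
      intro z hz
      obtain ⟨⟨b1, x⟩, -, rfl⟩ := Finset.mem_image.1 hz
      rw [mem_support]
      intro e
      simp only [f, mono_inl, Sum.inl.injEq, Prod.mk.injEq] at e
      cases b1
      · exact hi (π.injective e.1)
      · exact hi e.1
    have := Finset.card_le_card hsub
    rw [Finset.card_image_of_injective _ hf, Finset.card_univ, Fintype.card_prod, Fintype.card_bool,
      ZMod.card] at this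
    have := (Fact.out : p.Prime).pos
    omega
  subst hπ
  have hpow : ∀ k : ℕ, ∃ c, (mono 1 a b : Perm ((ι × ZMod p) ⊕ γ)) ^ k = mono 1 (a ^ k) c := by
    intro k
    induction k with
    | zero => exact ⟨0, by rw [pow_zero, pow_zero, mono_one]⟩
    | succ k ih =>
      obtain ⟨c, hc⟩ := ih
      refine ⟨fun i => ((a ^ k) i : ZMod p) * b i + c i, ?_⟩
      rw [pow_succ, hc, mono_mul, one_mul, pow_succ]
      rfl
  obtain ⟨c, hc⟩ := hpow p
  rw [hord, ← mono_one] at hc
  obtain ⟨-, ha, -⟩ := mono_injective hc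
  have ha1 : a = 1 := funext fun i => Units.ext <| by
    have := congrArg Units.val (congrFun ha i)
    rw [Pi.pow_apply, Units.val_pow_eq_pow_val, ZMod.pow_card] at this
    exact this.symm
  subst ha1
  exact tr_mem b

theorem card_support_tr_single [Fintype ι] [DecidableEq ι] [Fintype γ] [DecidableEq γ] (i : ι) (c : ZMod p) :
    (tr (Pi.single i c) : Perm ((ι × ZMod p) ⊕ γ)).support.card ≤ p := by
  have hsub : (tr (Pi.single i c) : Perm ((ι × ZMod p) ⊕ γ)).support ⊆
      Finset.univ.image fun x : ZMod p => Sum.inl (i, x) := by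
    rintro (⟨j, x⟩ | u) h
    · rw [mem_support] at h
      rw [Finset.mem_image]
      refine ⟨x, Finset.mem_univ _, ?_⟩
      by_cases hj : j = i
      · rw [hj]
      · exact absurd (by simp [tr, hj]) h
    · rw [mem_support] at h
      exact absurd rfl h
  exact (Finset.card_le_card hsub).trans (Finset.card_image_le.trans (by simp [Finset.card_univ, ZMod.card]))

theorem eq_tr_of_single {H : Subgroup (Perm ((ι × ZMod p) ⊕ γ))} [Fintype ι] [DecidableEq ι]
    (h : ∀ i c, (tr (Pi.single i c) : Perm ((ι × ZMod p) ⊕ γ)) ∈ H) : base p ι γ ≤ H := by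
  rintro _ ⟨b, rfl⟩
  suffices key : ∀ s : Finset ι, (tr (∑ i ∈ s, Pi.single i (b i)) : Perm ((ι × ZMod p) ⊕ γ)) ∈ H by
    have := key Finset.univ
    rwa [Finset.univ_sum_single] at this
  intro s
  induction s using Finset.induction_on with
  | empty => rw [Finset.sum_empty, tr_zero]; exact one_mem H
  | insert i s hi ih => rw [Finset.sum_insert hi, tr_add]; exact mul_mem (h i _) ih

theorem closure_pow_p_perm [Fintype ι] [DecidableEq ι] (hp : p ≠ 2) (hm : p ≤ Fintype.card ι) :
    alternatingGroup ι ≤ Subgroup.closure {π : Perm ι | π ^ p = 1} := by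
  set C := Subgroup.closure {π : Perm ι | π ^ p = 1}
  have hp3 : 3 ≤ p := by
    have := (Fact.out : p.Prime).two_le
    omega
  have hnorm : ∀ σ : Perm ι, ∀ x ∈ C, σ * x * σ⁻¹ ∈ C := by
    intro σ x hx
    have : C ≤ C.comap (MulAut.conj σ).toMonoidHom :=
      (Subgroup.closure_le _).2 fun π hπ => Subgroup.subset_closure (show (σ * π * σ⁻¹) ^ p = 1 by
        rw [conj_pow, show π ^ p = 1 from hπ]; group)
    exact this hx
  obtain ⟨s, -, hs⟩ := Finset.exists_subset_card_eq (n := p) (s := (Finset.univ : Finset ι)) (by rwa [Finset.card_univ])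
  obtain ⟨a, b, c, r, hl⟩ : ∃ a b c r, s.toList = a :: b :: c :: r := by
    have hl : s.toList.length = p := by rw [Finset.length_toList, hs]
    match h : s.toList with
    | [] => rw [h, List.length_nil] at hl; omega
    | [_] => rw [h, List.length_singleton] at hl; omega
    | [_, _] => rw [h, List.length_cons, List.length_singleton] at hl; omega
    | a :: b :: c :: r => exact ⟨a, b, c, r, rfl⟩
  have hnd : (a :: b :: c :: r).Nodup := hl ▸ Finset.nodup_toList s
  have hlen : (a :: b :: c :: r).length = p := by rw [← hl, Finset.length_toList, hs]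
  set σ := List.formPerm (a :: b :: c :: r) with hσ
  have hσp : σ ^ p = 1 := by rw [← hlen]; exact List.formPerm_pow_length_eq_one_of_nodup _ hnd
  have hσa : σ a = b := List.formPerm_apply_head _ _ _ hnd
  have hσb : σ b = c := by
    have := List.formPerm_apply_lt_getElem (a :: b :: c :: r) hnd 1 (by simp)
    simp only [List.getElem_cons_succ, List.getElem_cons_zero] at this
    exact this
  have hne : a ≠ b ∧ a ≠ c ∧ b ≠ c := by
    simp only [List.nodup_cons, List.mem_cons, not_or] at hnd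
    exact ⟨hnd.1.1, hnd.1.2.1, hnd.2.1.1⟩
  have h3 : Equiv.swap b c * Equiv.swap a b ∈ C := by
    have h1 : σ * (Equiv.swap a b * σ⁻¹ * (Equiv.swap a b)⁻¹) ∈ C :=
      mul_mem (Subgroup.subset_closure hσp) (hnorm _ _ (inv_mem (Subgroup.subset_closure hσp)))
    rwa [show σ * (Equiv.swap a b * σ⁻¹ * (Equiv.swap a b)⁻¹) = σ * Equiv.swap a b * σ⁻¹ * Equiv.swap a b by
      rw [Equiv.swap_inv]; group, show σ * Equiv.swap a b * σ⁻¹ = Equiv.swap b c by
      rw [mul_inv_eq_iff_eq_mul, mul_swap_eq_swap_mul, hσa, hσb]] at h1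
  have hthree : (Equiv.swap b c * Equiv.swap a b).IsThreeCycle := by
    rw [Equiv.swap_comm a b]
    exact isThreeCycle_swap_mul_swap_same hne.2.2 hne.1.symm hne.2.1.symm
  rw [← closure_three_cycles_eq_alternating, Subgroup.closure_le]
  intro t ht
  obtain ⟨σ', hσ'⟩ := isConj_iff.1 (isConj_iff_cycleType_eq.2 (hthree.cycleType.trans ht.cycleType.symm))
  rw [← hσ']
  exact hnorm _ _ h3

/-- Generation: even monomial elements with multiplier product `1`. -/
theorem mono_mem_of_generators [Fintype ι] [DecidableEq ι] [Fintype γ] [DecidableEq γ] (hp : p ≠ 2)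
    (hm : p ≤ Fintype.card ι) {H : Subgroup (Perm ((ι × ZMod p) ⊕ γ))}
    (hH : ∀ π a b, (mono π a b : Perm ((ι × ZMod p) ⊕ γ)) ^ p = 1 → mono π a b ∈ H)
    {π : Perm ι} {a : ι → (ZMod p)ˣ} (b : ι → ZMod p)
    (hHe : H ≤ alternatingGroup ((ι × ZMod p) ⊕ γ))
    (hg : (mono π a b : Perm ((ι × ZMod p) ⊕ γ)) ∈ alternatingGroup ((ι × ZMod p) ⊕ γ))
    (ha : ∏ i, a i = 1) : mono π a b ∈ H := by
  have hperm : ∀ σ ∈ alternatingGroup ι, (mono σ 1 0 : Perm ((ι × ZMod p) ⊕ γ)) ∈ H := by
    let h : Perm ι →* Perm ((ι × ZMod p) ⊕ γ) :=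
      { toFun := fun σ => mono σ 1 0
        map_one' := mono_one
        map_mul' := fun σ τ => by
          rw [mono_mul]
          congr 1 <;> funext i <;> simp }
    intro σ hσ
    have : Subgroup.closure {π : Perm ι | π ^ p = 1} ≤ H.comap h :=
      (Subgroup.closure_le _).2 fun τ hτ => hH _ _ _ (show (h τ) ^ p = 1 by
        rw [← map_pow, show τ ^ p = 1 from hτ, map_one])
    exact this (closure_pow_p_perm hp hm hσ)
  have htr : ∀ c, (tr c : Perm ((ι × ZMod p) ⊕ γ)) ∈ H := fun c => hH _ _ _ (tr_pow_p c)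
  -- the commutator of a permutation with a multiplier
  have hcomm : ∀ σ ∈ alternatingGroup ι, ∀ d : ι → (ZMod p)ˣ,
      (mono 1 (fun i => (d (σ i))⁻¹ * d i) 0 : Perm ((ι × ZMod p) ⊕ γ)) ∈ H := by
    intro σ hσ d
    have hconj : ∀ (τ : Perm ι) , τ ^ p = 1 →
        (mono 1 d 0 * mono τ 1 0 * (mono 1 d 0)⁻¹ : Perm ((ι × ZMod p) ⊕ γ)) ∈ H := by
      intro τ hτ
      have hp1 : ((mono τ 1 0 : Perm ((ι × ZMod p) ⊕ γ))) ^ p = 1 := by
        have : ∀ k : ℕ, ((mono τ 1 0 : Perm ((ι × ZMod p) ⊕ γ))) ^ k = mono (τ ^ k) 1 0 := by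
          intro k
          induction k with
          | zero => rw [pow_zero, pow_zero, mono_one]
          | succ k ih =>
            rw [pow_succ, ih, mono_mul, pow_succ]
            congr 1 <;> funext i <;> simp only [Pi.one_apply, Pi.zero_apply, mul_one, one_mul, mul_zero, add_zero]
        rw [this, hτ, mono_one]
      have hx : (mono 1 d 0 * mono τ 1 0 * (mono 1 d 0)⁻¹ : Perm ((ι × ZMod p) ⊕ γ)) =
          mono τ (fun i => d (τ i) * (d i)⁻¹) 0 := by
        rw [mul_inv_eq_iff_eq_mul, mono_mul, mono_mul, one_mul, mul_one]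
        congr 1 <;> funext i <;>
          simp only [Pi.one_apply, Pi.zero_apply, mul_one, one_mul, mul_zero, add_zero, zero_add, Perm.one_apply, inv_mul_cancel_right]
      rw [hx]
      refine hH _ _ _ ?_
      rw [← hx, conj_pow, hp1]
      group
    let φ : Perm ι →* Perm ((ι × ZMod p) ⊕ γ) :=
      { toFun := fun σ => mono 1 d 0 * mono σ 1 0 * (mono 1 d 0)⁻¹
        map_one' := by rw [mono_one]; group
        map_mul' := fun σ τ => by
          rw [show (mono (σ * τ) 1 0 : Perm ((ι × ZMod p) ⊕ γ)) = mono σ 1 0 * mono τ 1 0 by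
            rw [mono_mul]; congr 1 <;> funext i <;> simp]
          group }
    have hφ : Subgroup.closure {π : Perm ι | π ^ p = 1} ≤ H.comap φ :=
      (Subgroup.closure_le _).2 fun τ hτ => hconj τ hτ
    have h1 := mul_mem (inv_mem (Subgroup.mem_comap.1 (hφ (closure_pow_p_perm hp hm hσ)))) (hperm σ hσ)
    have e : (φ σ)⁻¹ * mono σ 1 0 = (mono 1 (fun i => (d (σ i))⁻¹ * d i) 0 : Perm ((ι × ZMod p) ⊕ γ)) := by
      show (mono 1 d 0 * mono σ 1 0 * (mono 1 d 0)⁻¹)⁻¹ * mono σ 1 0 = _
      rw [inv_mul_eq_iff_eq_mul]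
      have hx : (mono 1 d 0 * mono σ 1 0 * (mono 1 d 0)⁻¹ : Perm ((ι × ZMod p) ⊕ γ)) =
          mono σ (fun i => d (σ i) * (d i)⁻¹) 0 := by
        rw [mul_inv_eq_iff_eq_mul, mono_mul, mono_mul, one_mul, mul_one]
        congr 1 <;> funext i <;>
          simp only [Pi.one_apply, Pi.zero_apply, mul_one, one_mul, mul_zero, add_zero, zero_add, Perm.one_apply, inv_mul_cancel_right]
      rw [hx, mono_mul, mul_one]
      congr 1 <;> funext i <;>
        simp only [Pi.one_apply, Pi.zero_apply, mul_one, one_mul, mul_zero, add_zero, zero_add, Perm.one_apply]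
      rw [← mul_assoc, mul_right_comm (d (σ i)) (d i)⁻¹, mul_inv_cancel, one_mul, inv_mul_cancel]
    rw [← e]
    exact h1
  -- multipliers of product one
  have hmult : (mono 1 a 0 : Perm ((ι × ZMod p) ⊕ γ)) ∈ H := by
    obtain ⟨o⟩ : Nonempty ι := Fintype.card_pos_iff.1 (lt_of_lt_of_le (Fact.out : p.Prime).pos hm)
    let h1 : (ι → (ZMod p)ˣ) →* Perm ((ι × ZMod p) ⊕ γ) :=
      { toFun := fun d => mono 1 d 0
        map_one' := mono_one
        map_mul' := fun d e => by rw [mono_mul, one_mul]; congr 1 <;> funext i <;> simp }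
    have hdec : a = ∏ j, (Pi.mulSingle j (a j) * Pi.mulSingle o (a j)⁻¹ : ι → (ZMod p)ˣ) := by
      funext i
      rw [Finset.prod_apply]
      simp only [Pi.mul_apply, Finset.prod_mul_distrib, Finset.prod_pi_mulSingle]
      by_cases hi : i = o
      · subst hi
        simp [Finset.prod_inv_distrib, ha]
      · simp [hi]
    show a ∈ H.comap h1
    rw [hdec]
    refine Subgroup.prod_mem _ fun j _ => ?_
    by_cases hj : j = o
    · subst hj
      rw [← Pi.mulSingle_mul, mul_inv_cancel, Pi.mulSingle_one]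
      exact one_mem _
    · obtain ⟨k, hko, hkj⟩ : ∃ k, k ≠ o ∧ k ≠ j := by
        by_contra hc
        push Not at hc
        have h2 : (Finset.univ : Finset ι) ⊆ {o, j} := fun k _ => by
          by_cases h : k = o
          · simp [h]
          · simp [hc k h]
        have h3 : Fintype.card ι ≤ 2 := (Finset.card_le_card h2).trans Finset.card_le_two
        have h4 := (Fact.out : p.Prime).two_le
        omega
      set σ := Equiv.swap o k * Equiv.swap o j with hσ
      have hσe : σ ∈ alternatingGroup ι := by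
        rw [mem_alternatingGroup, hσ, map_mul, sign_swap hko.symm, sign_swap (Ne.symm hj)]; decide
      have := hcomm σ hσe (Pi.mulSingle j (a j))
      rw [Subgroup.mem_comap]
      show mono 1 _ 0 ∈ H
      convert this using 2
      funext i
      simp only [hσ, Equiv.Perm.mul_apply, Pi.mul_apply, Pi.mulSingle_apply]
      by_cases hio : i = o
      · subst hio
        simp [Ne.symm hj, Equiv.swap_apply_of_ne_of_ne hj (Ne.symm hkj)]
      · by_cases hij : i = j
        · subst hij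
          simp [hio, hkj]
        · by_cases hik : i = k
          · subst hik
            simp [hio, hij, Equiv.swap_apply_of_ne_of_ne hio hij, Ne.symm hj]
          · simp [hio, hij, Equiv.swap_apply_of_ne_of_ne hio hij, Equiv.swap_apply_of_ne_of_ne hio hik]
  have hdecg : (mono π a b : Perm ((ι × ZMod p) ⊕ γ)) = tr (fun i => b (π.symm i)) * mono π 1 0 * mono 1 a 0 := by
    rw [tr, mono_mul, mono_mul, one_mul, mul_one]
    congr 1 <;> funext i <;> simp
  have hπe : π ∈ alternatingGroup ι := by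
    have h1 := hg
    rw [hdecg] at h1
    have h2 : (mono π 1 0 : Perm ((ι × ZMod p) ⊕ γ)) ∈ alternatingGroup ((ι × ZMod p) ⊕ γ) := by
      have := mul_mem (mul_mem (inv_mem (hHe (htr fun i => b (π.symm i)))) h1) (inv_mem (hHe hmult))
      simpa [mul_assoc] using this
    rw [mem_alternatingGroup, sign_mono_perm] at h2
    rw [mem_alternatingGroup]
    rcases Int.units_eq_one_or (sign π) with h | h
    · exact h
    · rw [h, ((Nat.Prime.odd_of_ne_two Fact.out hp)).neg_one_pow] at h2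
      exact absurd h2 (by decide)
  rw [hdecg]
  exact mul_mem (mul_mem (htr _) (hperm π hπe)) hmult

end Cfsg.Agent.H89.AltModel
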