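import Mathlib

/-!
A permutation of order dividing `p ^ (r + 1)` is the product of two elements of a common `p`-group of
order dividing `p ^ r` (`r ≥ 1`); for `p = 2` even permutations split into even ones.
-/

set_option autoImplicit false

namespace Cfsg.Agent.H89.AltSplit

open Equiv Equiv.Perm

variable {α : Type*} [Fintype α] [DecidableEq α]

/-- A power of an element of prime order fixing a moved point is trivial. -/
theorem zpow_eq_one_of_fix {p : ℕ} [Fact p.Prime] {z : Perm α} (hz : z ^ p = 1) {a : α} (ha : z a ≠ a)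
    {k : ℤ} (hk : (z ^ k) a = a) : z ^ k = 1 := by
  by_cases hd : (p : ℤ) ∣ k
  · obtain ⟨l, rfl⟩ := hd
    rw [zpow_mul, zpow_natCast, hz, one_zpow]
  · exfalso
    apply ha
    obtain ⟨u, v, huv⟩ : IsCoprime (p : ℤ) k :=
      (Nat.prime_iff_prime_int.1 Fact.out).coprime_iff_not_dvd.2 hd
    have h1 : z = (z ^ k) ^ v := by
      rw [← zpow_mul, show k * v = 1 - u * p by linarith, zpow_sub, zpow_one, mul_comm u, zpow_mul,
        zpow_natCast, hz, one_zpow, inv_one, mul_one]
    conv_lhs => rw [h1]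
    exact zpow_apply_eq_self_of_apply_eq_self hk v

section

variable (z : Perm α)

/-- A chosen representative of the cycle of a point. -/
noncomputable def rep (a : α) : α := (Quotient.mk (SameCycle.setoid z) a).out

theorem sameCycle_rep (a : α) : z.SameCycle (rep z a) a :=
  Quotient.eq (r := SameCycle.setoid z).1 (Quotient.out_eq _)

theorem rep_eq_iff {a b : α} : rep z a = rep z b ↔ z.SameCycle a b := by
  constructor
  · intro h
    have h1 := sameCycle_rep z b
    rw [← h] at h1
    exact (sameCycle_rep z a).symm.trans h1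
  · intro h
    exact congrArg Quotient.out (Quotient.sound (s := SameCycle.setoid z) h)

theorem rep_rep (a : α) : rep z (rep z a) = rep z a := (rep_eq_iff z).2 (sameCycle_rep z a)

variable {z}

theorem moved_of_sameCycle {a b : α} (h : z.SameCycle a b) (ha : z a ≠ a) : z b ≠ b := fun hb => by
  obtain ⟨i, hi⟩ := h.symm
  rw [zpow_apply_eq_self_of_apply_eq_self hb] at hi
  exact ha (hi ▸ hb)

theorem moved_rep {a : α} (ha : z a ≠ a) : z (rep z a) ≠ rep z a :=
  moved_of_sameCycle (sameCycle_rep z a).symm ha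

theorem moved_comm {g : Perm α} (hg : g * z = z * g) {a : α} : z (g a) ≠ g a ↔ z a ≠ a := by
  rw [← Equiv.Perm.mul_apply, ← hg, Equiv.Perm.mul_apply, Ne, Ne, g.apply_eq_iff_eq]

theorem sameCycle_comm {g : Perm α} (hg : g * z = z * g) {a b : α} (h : z.SameCycle a b) :
    z.SameCycle (g a) (g b) := by
  obtain ⟨i, rfl⟩ := h
  refine ⟨i, ?_⟩
  rw [← Equiv.Perm.mul_apply, ← Equiv.Perm.mul_apply, ((show Commute g z from hg).zpow_right i).eq]

end

/-- The splitting. -/
theorem exists_split {p : ℕ} [Fact p.Prime] {r : ℕ} (hr : r ≠ 0) {x : Perm α}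
    (hx : x ^ (p ^ (r + 1)) = 1) :
    ∃ (W : Subgroup (Perm α)) (s : Perm α), IsPGroup p W ∧ x ∈ W ∧ s ∈ W ∧ s ^ (p ^ r) = 1 ∧
      (x * s⁻¹) ^ (p ^ r) = 1 ∧ (p = 2 → sign s = 1) := by
  classical
  set z := x ^ (p ^ r) with hzdef
  have hz : z ^ p = 1 := by rw [hzdef, ← pow_mul, ← pow_succ, hx]
  have hxz : x * z = z * x := (Commute.self_pow x _).eq
  have hxpz : ∀ j : ℕ, x ^ j * z = z * x ^ j := fun j => ((Commute.self_pow x _).pow_left j).eq
  let e : α → ℤ := fun a => (sameCycle_rep z a).choose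
  have he : ∀ a, (z ^ e a) (rep z a) = a := fun a => (sameCycle_rep z a).choose_spec
  have huniq : ∀ {a : α}, z a ≠ a → ∀ k : ℤ, (z ^ k) (rep z a) = a → z ^ k = z ^ e a := by
    intro a ha k hk
    have h1 : (z ^ (k - e a)) (rep z a) = rep z a := by
      rw [show k - e a = -(e a) + k by ring, zpow_add, Equiv.Perm.mul_apply, hk, zpow_neg]
      exact (Equiv.symm_apply_eq _).2 (he a).symm
    have h2 := zpow_eq_one_of_fix hz (moved_rep ha) h1
    rwa [zpow_sub, mul_inv_eq_one] at h2
  let f : α → α := fun a => if z a = a then a else (z ^ e a) (rep z (x (rep z a)))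
  have hf_fix : ∀ {a}, z a = a → f a = a := fun h => if_pos h
  have hf_mov : ∀ {a}, z a ≠ a → f a = (z ^ e a) (rep z (x (rep z a))) := fun h => if_neg h
  have hfpow : ∀ (j : ℕ) {a}, z a ≠ a → f^[j] a = (z ^ e a) (rep z ((x ^ j) (rep z a))) := by
    intro j
    induction j with
    | zero =>
      intro a _
      rw [Function.iterate_zero_apply, pow_zero, Equiv.Perm.one_apply, rep_rep, he]
    | succ j ih =>
      intro a ha
      rw [Function.iterate_succ_apply', ih ha]
      set c := (x ^ j) (rep z a) with hc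
      set b := (z ^ e a) (rep z c) with hb
      have hcm : z c ≠ c := (moved_comm (hxpz j)).2 (moved_rep ha)
      have hbc : z.SameCycle (rep z c) b := ⟨e a, rfl⟩
      have hbm : z b ≠ b := moved_of_sameCycle hbc (moved_rep hcm)
      have hrb : rep z b = rep z c := by rw [(rep_eq_iff z).2 hbc.symm, rep_rep]
      rw [hf_mov hbm, hrb, ← huniq hbm (e a) (by rw [hrb])]
      congr 1
      rw [rep_eq_iff, pow_succ', Equiv.Perm.mul_apply]
      exact sameCycle_comm hxz (sameCycle_rep z c)
  have hfN : ∀ a, f^[p ^ r] a = a := by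
    intro a
    by_cases ha : z a = a
    · exact Function.iterate_fixed (hf_fix ha) _
    · rw [hfpow _ ha, ← hzdef]
      have h1 : rep z (z (rep z a)) = rep z a := by
        rw [rep_eq_iff, sameCycle_apply_left]
        exact sameCycle_rep z a
      rw [h1, he]
  have hN : p ^ r = (p ^ r - 1) + 1 := (Nat.sub_add_cancel (pow_pos (Fact.out : p.Prime).pos r)).symm
  let s : Perm α :=
    { toFun := f
      invFun := f^[p ^ r - 1]
      left_inv := fun a => by rw [← Function.iterate_succ_apply, Nat.succ_eq_add_one, ← hN, hfN]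
      right_inv := fun a => by rw [← Function.iterate_succ_apply' f, Nat.succ_eq_add_one, ← hN, hfN] }
  have hs : ∀ a, s a = f a := fun _ => rfl
  have hspow : s ^ (p ^ r) = 1 := by
    ext a
    rw [← Equiv.Perm.iterate_eq_pow, Equiv.Perm.one_apply]
    exact hfN a
  have hsz : s * z = z * s := by
    ext a
    rw [Equiv.Perm.mul_apply, Equiv.Perm.mul_apply, hs, hs]
    by_cases ha : z a = a
    · rw [ha, hf_fix ha, ha]
    · have hza : z (z a) ≠ z a := fun h => ha (z.injective h)
      have hr' : rep z (z a) = rep z a := by rw [rep_eq_iff, sameCycle_apply_left]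
      have hk : z ^ (1 + e a) = z ^ e (z a) := huniq hza (1 + e a) (by
        rw [hr', zpow_add, zpow_one, Equiv.Perm.mul_apply, he])
      rw [hf_mov hza, hf_mov ha, hr', ← hk, zpow_add, zpow_one, Equiv.Perm.mul_apply]
  have hxL : ∀ j : ℕ, x ^ (j + j * (p ^ (r + 1) - 1)) = 1 := fun j => by
    rw [show j + j * (p ^ (r + 1) - 1) = p ^ (r + 1) * j by
      obtain ⟨L, hL⟩ : ∃ L, p ^ (r + 1) = L + 1 :=
        ⟨_, (Nat.sub_add_cancel (pow_pos (Fact.out : p.Prime).pos _)).symm⟩
      rw [hL, Nat.add_sub_cancel]; ring, pow_mul, hx, one_pow]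
  -- the common p-group
  let W : Subgroup (Perm α) :=
    { carrier := {g | g * z = z * g ∧ (∃ i : ℕ, ∀ a, z a ≠ a → z.SameCycle (g a) ((x ^ i) a)) ∧
        ∃ j : ℕ, ∀ a, z a = a → g a = (x ^ j) a}
      one_mem' := ⟨by simp, ⟨0, fun a _ => by simp [SameCycle.refl]⟩, ⟨0, fun a _ => by simp⟩⟩
      mul_mem' := by
        rintro g h ⟨hg, ⟨i, hi⟩, j, hj⟩ ⟨hh, ⟨i', hi'⟩, j', hj'⟩
        refine ⟨by rw [mul_assoc, hh, ← mul_assoc, hg, mul_assoc], ⟨i + i', fun a ha => ?_⟩,
          ⟨j + j', fun a ha => ?_⟩⟩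
        · rw [Equiv.Perm.mul_apply, pow_add, Equiv.Perm.mul_apply]
          exact (sameCycle_comm hg (hi' a ha)).trans (hi _ ((moved_comm (hxpz i')).2 ha))
        · rw [Equiv.Perm.mul_apply, pow_add, Equiv.Perm.mul_apply, hj' a ha, hj]
          rw [← Equiv.Perm.mul_apply, ← hxpz j', Equiv.Perm.mul_apply, ha]
      inv_mem' := by
        rintro g ⟨hg, ⟨i, hi⟩, j, hj⟩
        have hg' : g⁻¹ * z = z * g⁻¹ := ((show Commute g z from hg).inv_left).eq
        refine ⟨hg', ⟨i * (p ^ (r + 1) - 1), fun a ha => ?_⟩, ⟨j * (p ^ (r + 1) - 1), fun a ha => ?_⟩⟩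
        · have hb : z (g⁻¹ a) ≠ g⁻¹ a := (moved_comm hg').2 ha
          have h1 := hi _ hb
          rw [Equiv.Perm.coe_inv, Equiv.apply_symm_apply] at h1
          have h2 := sameCycle_comm (hxpz (i * (p ^ (r + 1) - 1))) h1
          rw [← Equiv.Perm.mul_apply, ← pow_add, add_comm (i * (p ^ (r + 1) - 1)) i, hxL,
            Equiv.Perm.one_apply] at h2
          exact h2.symm
        · have hb : z (g⁻¹ a) = g⁻¹ a := by
            rw [← Equiv.Perm.mul_apply, ← hg', Equiv.Perm.mul_apply, ha]
          have h1 := hj _ hb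
          rw [Equiv.Perm.coe_inv, Equiv.apply_symm_apply] at h1
          calc g⁻¹ a = (x ^ (j * (p ^ (r + 1) - 1) + j)) (g⁻¹ a) := by
                rw [add_comm (j * (p ^ (r + 1) - 1)) j, hxL, Equiv.Perm.one_apply]
            _ = _ := by rw [pow_add, Equiv.Perm.mul_apply, Equiv.Perm.coe_inv, ← h1] }
  have hxW : x ∈ W := ⟨hxz, ⟨1, fun a _ => by rw [pow_one]⟩, ⟨1, fun a _ => by rw [pow_one]⟩⟩
  have hsmov : ∀ a, z a ≠ a → z.SameCycle (s a) (x a) := by
    intro a ha
    rw [hs, hf_mov ha]
    refine sameCycle_zpow_left.2 ?_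
    exact (sameCycle_rep z _).trans (sameCycle_comm hxz (sameCycle_rep z a))
  have hsW : s ∈ W :=
    ⟨hsz, ⟨1, fun a ha => by rw [pow_one]; exact hsmov a ha⟩, ⟨0, fun a ha => by
      rw [pow_zero, Equiv.Perm.one_apply, hs, hf_fix ha]⟩⟩
  -- elements preserving every cycle of z have order p
  have hkill : ∀ g : Perm α, g * z = z * g → ∀ a, z a ≠ a → z.SameCycle (g a) a →
      (g ^ p) a = a := by
    intro g hg a _ ⟨k, hk⟩
    have hga : g a = (z ^ (-k)) a := by
      rw [zpow_neg, Equiv.Perm.coe_inv, Equiv.eq_symm_apply, hk]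
    have : ∀ l : ℕ, (g ^ l) a = (z ^ (-k * l)) a := by
      intro l
      induction l with
      | zero => simp
      | succ l ih =>
        rw [pow_succ', Equiv.Perm.mul_apply, ih, ← Equiv.Perm.mul_apply,
          ((show Commute g z from hg).zpow_right _).eq, Equiv.Perm.mul_apply, hga, ← Equiv.Perm.mul_apply,
          ← zpow_add]
        push_cast
        ring_nf
    rw [this, mul_comm, zpow_mul, zpow_natCast, hz, one_zpow, Equiv.Perm.one_apply]
  have hW : IsPGroup p W := by
    rintro ⟨g, hg⟩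
    refine ⟨r + 1 + 1, Subtype.ext ?_⟩
    show g ^ (p ^ (r + 1 + 1)) = 1
    obtain ⟨hgz, ⟨i, hi⟩, j, hj⟩ := hg
    have hgl : ∀ l : ℕ, (∀ a, z a ≠ a → z.SameCycle ((g ^ l) a) ((x ^ (i * l)) a)) ∧
        ∀ a, z a = a → (g ^ l) a = (x ^ (j * l)) a := by
      intro l
      induction l with
      | zero => exact ⟨fun a _ => by simp [SameCycle.refl], fun a _ => by simp⟩
      | succ l ih =>
        refine ⟨fun a ha => ?_, fun a ha => ?_⟩
        · rw [pow_succ', Equiv.Perm.mul_apply, mul_add, mul_one, add_comm, pow_add, Equiv.Perm.mul_apply]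
          exact (sameCycle_comm hgz (ih.1 a ha)).trans (hi _ ((moved_comm (hxpz _)).2 ha))
        · rw [pow_succ', Equiv.Perm.mul_apply, mul_add, mul_one, add_comm, pow_add, Equiv.Perm.mul_apply,
            ih.2 a ha, hj]
          rw [← Equiv.Perm.mul_apply, ← hxpz, Equiv.Perm.mul_apply, ha]
    ext a
    rw [pow_succ, pow_mul, Equiv.Perm.one_apply]
    by_cases ha : z a = a
    · have h1 : (g ^ p ^ (r + 1)) a = a := by
        rw [(hgl _).2 a ha, mul_comm, pow_mul, hx, one_pow, Equiv.Perm.one_apply]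
      exact pow_apply_eq_self_of_apply_eq_self h1 p
    · refine hkill _ ((show Commute g z from hgz).pow_left _).eq a ha ?_
      have h1 := (hgl (p ^ (r + 1))).1 a ha
      rwa [mul_comm, pow_mul, hx, one_pow, Equiv.Perm.one_apply] at h1
  refine ⟨W, s, hW, hxW, hsW, hspow, ?_, fun hp2 => ?_⟩
  · have hH : x * s⁻¹ * z = z * (x * s⁻¹) :=
      ((show Commute x z from hxz).mul_left (show Commute s z from hsz).inv_left).eq
    have hsinv : ∀ {a}, z a = a → s⁻¹ a = a := fun {a} ha =>
      (Equiv.symm_apply_eq s).2 (by rw [hs, hf_fix ha])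
    have hfixed : ∀ (l : ℕ) {a}, z a = a → ((x * s⁻¹) ^ l) a = (x ^ l) a := by
      intro l
      induction l with
      | zero => simp
      | succ l ih =>
        intro a ha
        rw [pow_succ', Equiv.Perm.mul_apply, ih ha, Equiv.Perm.mul_apply, pow_succ', Equiv.Perm.mul_apply,
          hsinv]
        rw [← Equiv.Perm.mul_apply, ← hxpz, Equiv.Perm.mul_apply, ha]
    ext a
    rw [Equiv.Perm.one_apply]
    by_cases ha : z a = a
    · rw [hfixed _ ha, ← hzdef, ha]
    · obtain ⟨r', rfl⟩ := Nat.exists_eq_succ_of_ne_zero hr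
      rw [pow_succ', pow_mul]
      refine pow_apply_eq_self_of_apply_eq_self (hkill _ hH a ha ?_) _
      rw [Equiv.Perm.mul_apply]
      have hb : z (s⁻¹ a) ≠ s⁻¹ a :=
        (moved_comm ((show Commute s z from hsz).inv_left).eq).2 ha
      have h1 := hsmov _ hb
      rw [Equiv.Perm.coe_inv, Equiv.apply_symm_apply] at h1
      exact h1.symm
  · subst hp2
    let uf : α → α := fun a => if z a ≠ a ∧ rep z a = a then rep z (x a) else a
    have huinj : Function.Injective uf := by
      intro a b hab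
      have himg : ∀ a, z a ≠ a → rep z a = a → z (rep z (x a)) ≠ rep z (x a) ∧
          rep z (rep z (x a)) = rep z (x a) :=
        fun a h1 _ => ⟨moved_rep ((moved_comm hxz).2 h1), rep_rep z _⟩
      simp only [uf] at hab
      split_ifs at hab with ha hb hb
      · rw [rep_eq_iff] at hab
        have h1 := sameCycle_comm ((show Commute x z from hxz).inv_left).eq hab
        simp only [Equiv.Perm.coe_inv, Equiv.symm_apply_apply] at h1
        rw [← ha.2, ← hb.2]
        exact (rep_eq_iff z).2 h1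
      · exact absurd ((hab ▸ himg a ha.1 ha.2 : z b ≠ b ∧ rep z b = b)) hb
      · exact absurd ((hab ▸ himg b hb.1 hb.2 : z a ≠ a ∧ rep z a = a)) ha
      · exact hab
    let u : Perm α := Equiv.ofBijective uf ⟨huinj, Finite.surjective_of_injective huinj⟩
    have hu : ∀ a, u a = uf a := fun _ => rfl
    have hzz : ∀ a, z (z a) = a := fun a => by rw [← Equiv.Perm.mul_apply, ← pow_two, hz]; rfl
    have hprod : s = u * (z * u * z) := by
      ext a
      simp only [Equiv.Perm.mul_apply, hs, hu, uf]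
      by_cases ha : z a = a
      · rw [hf_fix ha]
        simp [ha]
      · have hza : z (z a) ≠ z a := fun h => ha (z.injective h)
        have hr1 : rep z (z a) = rep z a := by rw [rep_eq_iff, sameCycle_apply_left]
        rw [hf_mov ha]
        by_cases hra : rep z a = a
        · have hne : ¬ (z (z a) ≠ z a ∧ rep z (z a) = z a) := fun h => ha (by rw [← h.2, hr1, hra])
          rw [if_neg hne, hzz a, if_pos (show z a ≠ a ∧ rep z a = a from ⟨ha, hra⟩), hra, ← huniq ha 0 (by rw [zpow_zero, hra]; rfl),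
            zpow_zero, Equiv.Perm.one_apply]
        · have hr2 : rep z a = z a := by
            obtain ⟨k, hk⟩ := sameCycle_rep z a
            rcases Int.even_or_odd' k with ⟨l, rfl | rfl⟩
            · exact absurd (by rw [zpow_mul, show z ^ (2 : ℤ) = 1 from hz, one_zpow] at hk; exact hk) hra
            · rw [zpow_add, zpow_mul, show z ^ (2 : ℤ) = 1 from hz, one_zpow, one_mul, zpow_one] at hk
              conv_rhs => rw [← hk]
              rw [hzz]
          rw [if_pos (show z (z a) ≠ z a ∧ rep z (z a) = z a from ⟨hza, by rw [hr1, hr2]⟩)]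
          set c := rep z (x (z a)) with hc
          have hcm : z c ≠ c := moved_rep ((moved_comm hxz).2 hza)
          have hne : ¬ (z (z c) ≠ z c ∧ rep z (z c) = z c) := fun h => hcm (by
            rw [← h.2, rep_eq_iff z |>.2 (show z.SameCycle (z c) c by rw [sameCycle_apply_left]), hc, rep_rep])
          rw [if_neg hne, hr2, ← huniq ha 1 (by rw [zpow_one, hr2, hzz]), zpow_one]
    rw [hprod]
    simp only [map_mul]
    rcases Int.units_eq_one_or (sign u) with h1 | h1 <;>
      rcases Int.units_eq_one_or (sign z) with h2 | h2 <;> rw [h1, h2] <;> decide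

end Cfsg.Agent.H89.AltSplit
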