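import Cfsg.Agent.H89.AltModel

/-!
The affine square inside the monomial model: `ι = ZMod p ⊕ κ`, the first `p` blocks form a square
with coordinates `(x, y)` at the point `inl (inl y, x)`.
-/

set_option autoImplicit false

namespace Cfsg.Agent.H89.AltSquare

open Equiv Equiv.Perm Cfsg.Agent.H89.AltModel

variable {p : ℕ} [Fact p.Prime] {κ γ : Type*}

local notation "PP" => Perm (((ZMod p ⊕ κ) × ZMod p) ⊕ γ)

/-- Translation of the square by `(t, s)` and of the remaining blocks by `c`. -/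
def q (s t : ZMod p) (c : κ → ZMod p) : PP :=
  mono (Perm.sumCongr (Equiv.addRight s) 1) 1 (Sum.elim (fun _ => t) c)

@[simp] theorem q_sq (s t : ZMod p) (c : κ → ZMod p) (y x : ZMod p) :
    (q s t c : PP) (Sum.inl (Sum.inl y, x)) = Sum.inl (Sum.inl (y + s), x + t) := by
  simp [q]

@[simp] theorem q_rest (s t : ZMod p) (c : κ → ZMod p) (j : κ) (x : ZMod p) :
    (q s t c : PP) (Sum.inl (Sum.inr j, x)) = Sum.inl (Sum.inr j, x + c j) := by
  simp [q]

@[simp] theorem q_inr (s t : ZMod p) (c : κ → ZMod p) (u : γ) :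
    (q s t c : PP) (Sum.inr u) = Sum.inr u := rfl

theorem q_add (s t : ZMod p) (c : κ → ZMod p) (s' t' : ZMod p) (c' : κ → ZMod p) :
    (q (s + s') (t + t') (c + c') : PP) = q s t c * q s' t' c' := by
  ext (⟨y | j, x⟩ | u)
  · simp only [Perm.mul_apply, q_sq, Sum.inl.injEq, Prod.mk.injEq]; constructor <;> ring
  · simp only [Perm.mul_apply, q_rest, Pi.add_apply, Sum.inl.injEq, Prod.mk.injEq, true_and]; ring
  · simp

theorem q_zero : (q 0 0 0 : PP) = 1 := by
  ext (⟨y | j, x⟩ | u) <;> simp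

/-- The upper transvections. -/
def upper (c : ZMod p) : PP := tr (Sum.elim (fun y => c * y) 0)

@[simp] theorem upper_sq (c y x : ZMod p) :
    (upper c : PP) (Sum.inl (Sum.inl y, x)) = Sum.inl (Sum.inl y, x + c * y) := by
  simp [upper, tr]

@[simp] theorem upper_rest (c : ZMod p) (j : κ) (x : ZMod p) :
    (upper c : PP) (Sum.inl (Sum.inr j, x)) = Sum.inl (Sum.inr j, x) := by
  simp [upper, tr]

@[simp] theorem upper_inr (c : ZMod p) (u : γ) : (upper c : PP) (Sum.inr u) = Sum.inr u := rfl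

/-- The map underlying a lower transvection. -/
def lowerFun (c : ZMod p) : ((ZMod p ⊕ κ) × ZMod p) ⊕ γ → ((ZMod p ⊕ κ) × ZMod p) ⊕ γ
  | Sum.inl (Sum.inl y, x) => Sum.inl (Sum.inl (y + c * x), x)
  | Sum.inl (Sum.inr j, x) => Sum.inl (Sum.inr j, x)
  | Sum.inr u => Sum.inr u

/-- The lower transvections. -/
def lower (c : ZMod p) : PP where
  toFun := lowerFun c
  invFun := lowerFun (-c)
  left_inv := by rintro (⟨y | j, x⟩ | u) <;> simp [lowerFun]
  right_inv := by rintro (⟨y | j, x⟩ | u) <;> simp [lowerFun]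

@[simp] theorem lower_sq (c y x : ZMod p) :
    (lower c : PP) (Sum.inl (Sum.inl y, x)) = Sum.inl (Sum.inl (y + c * x), x) := rfl

@[simp] theorem lower_rest (c : ZMod p) (j : κ) (x : ZMod p) :
    (lower c : PP) (Sum.inl (Sum.inr j, x)) = Sum.inl (Sum.inr j, x) := rfl

@[simp] theorem lower_inr (c : ZMod p) (u : γ) : (lower c : PP) (Sum.inr u) = Sum.inr u := rfl

theorem lower_pow (c : ZMod p) (k : ℕ) : (lower c : PP) ^ k = lower ((k : ZMod p) * c) := by
  induction k with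
  | zero => ext (⟨y | j, x⟩ | u) <;> simp
  | succ k ih =>
    rw [pow_succ, ih]
    ext (⟨y | j, x⟩ | u)
    · simp; ring
    · simp
    · simp

theorem lower_pow_p (c : ZMod p) : (lower c : PP) ^ p = 1 := by
  rw [lower_pow, ZMod.natCast_self, zero_mul]
  ext (⟨y | j, x⟩ | u) <;> simp

theorem upper_pow_p (c : ZMod p) : (upper c : PP) ^ p = 1 := tr_pow_p _

/-- The Weyl element. -/
def weyl : PP := upper 1 * lower (-1) * upper 1

theorem weyl_upper (c : ZMod p) : (weyl * upper c : PP) = lower (-c) * weyl := by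
  ext (⟨y | j, x⟩ | u)
  · simp only [weyl, Perm.mul_apply, upper_sq, lower_sq, Sum.inl.injEq, Prod.mk.injEq]; constructor <;> ring
  · simp [weyl]
  · simp [weyl]

theorem lower_conj (c : ZMod p) : ((weyl : PP))⁻¹ * lower c * weyl = upper (-c) := by
  have := weyl_upper (κ := κ) (γ := γ) (-c)
  rw [neg_neg] at this
  rw [mul_assoc, ← this, inv_mul_cancel_left]

/-- The diagonal element. -/
def diag (ω : (ZMod p)ˣ) : PP :=
  mono (Perm.sumCongr (Units.mulLeft ω⁻¹) 1)
    (Sum.elim (fun _ => ω) 1) 0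

theorem diag_eq (ω : (ZMod p)ˣ) : (diag ω : PP) =
    upper (ω : ZMod p) * lower (-(ω⁻¹ : (ZMod p)ˣ).val) * upper (ω : ZMod p) *
      (upper (-1) * lower 1 * upper (-1)) := by
  have hω : ((ω⁻¹ : (ZMod p)ˣ) : ZMod p) * ω = 1 := Units.inv_mul ω
  ext (⟨y | j, x⟩ | u)
  · simp only [diag, Perm.mul_apply, upper_sq, lower_sq, mono_inl, Perm.sumCongr_apply, Sum.map_inl,
      Sum.elim_inl, Pi.zero_apply, Units.mulLeft_apply, Sum.inl.injEq, Prod.mk.injEq]
    constructor
    · linear_combination (x : ZMod p) * hω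
    · linear_combination ((ω : ZMod p) * x - y) * hω
  · simp [diag, -Units.val_inv_eq_inv_val]
  · simp [diag, -Units.val_inv_eq_inv_val]

section Subgroups

variable (p κ γ)

/-- Translations of the square and of the remaining blocks. -/
def sqSub : Subgroup PP where
  carrier := {g | ∃ s t c, q s t c = g}
  one_mem' := ⟨0, 0, 0, q_zero⟩
  mul_mem' := by
    rintro _ _ ⟨s, t, c, rfl⟩ ⟨s', t', c', rfl⟩
    exact ⟨_, _, _, q_add s t c s' t' c'⟩
  inv_mem' := by
    rintro _ ⟨s, t, c, rfl⟩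
    exact ⟨-s, -t, -c, eq_inv_of_mul_eq_one_left (by
      rw [← q_add, neg_add_cancel, neg_add_cancel, neg_add_cancel, q_zero])⟩

/-- Translations by functions affine on the square. -/
def affSub : Subgroup PP where
  carrier := {g | ∃ (s t : ZMod p) (c : κ → ZMod p), tr (Sum.elim (fun y => s + t * y) c) = g}
  one_mem' := ⟨0, 0, 0, by
    rw [show (Sum.elim (fun y => (0 : ZMod p) + 0 * y) 0 : ZMod p ⊕ κ → ZMod p) = 0 from
      funext fun i => by cases i <;> simp, tr_zero]⟩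
  mul_mem' := by
    rintro _ _ ⟨s, t, c, rfl⟩ ⟨s', t', c', rfl⟩
    refine ⟨s + s', t + t', c + c', ?_⟩
    rw [← tr_add]
    congr 1
    funext i
    cases i <;> simp
    ring
  inv_mem' := by
    rintro _ ⟨s, t, c, rfl⟩
    refine ⟨-s, -t, -c, eq_inv_of_mul_eq_one_left ?_⟩
    rw [← tr_add, show (Sum.elim (fun y => -s + -t * y) (-c) + Sum.elim (fun y => s + t * y) c :
      ZMod p ⊕ κ → ZMod p) = 0 from funext fun i => by cases i <;> simp <;> ring, tr_zero]

variable {p κ γ}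

theorem affSub_le_base : affSub p κ γ ≤ base p (ZMod p ⊕ κ) γ := by
  rintro _ ⟨s, t, c, rfl⟩
  exact tr_mem _

theorem upper_mem_base (c : ZMod p) : (upper c : PP) ∈ base p (ZMod p ⊕ κ) γ := tr_mem _

theorem upper_mem_affSub (c : ZMod p) : (upper c : PP) ∈ affSub p κ γ := by
  refine ⟨0, c, 0, ?_⟩
  rw [upper]
  congr 1
  funext i
  cases i <;> simp

theorem mul_inv_mem_of_eq {H : Subgroup PP} {g h h' : PP} (e : g * h = h' * g) (hh : h' ∈ H) :
    g * h * g⁻¹ ∈ H := by
  rwa [mul_inv_eq_iff_eq_mul.2 e]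

theorem affSub_normalizes_sqSub {g : PP} (hg : g ∈ affSub p κ γ) {h : PP} (hh : h ∈ sqSub p κ γ) :
    g * h * g⁻¹ ∈ sqSub p κ γ := by
  obtain ⟨s, t, c, rfl⟩ := hg
  obtain ⟨s', t', c', rfl⟩ := hh
  refine mul_inv_mem_of_eq (h' := q s' (t' + t * s') c') ?_ ⟨_, _, _, rfl⟩
  ext (⟨y | j, x⟩ | u)
  · simp only [tr, Perm.mul_apply, q_sq, mono_inl, Perm.one_apply, Sum.elim_inl, Pi.one_apply,
      Units.val_one, one_mul, Sum.inl.injEq, Prod.mk.injEq, true_and]
    ring
  · simp [tr]; ring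
  · simp [tr]

theorem upper_normalizes_sqSub (c : ZMod p) {h : PP} (hh : h ∈ sqSub p κ γ) :
    upper c * h * (upper c)⁻¹ ∈ sqSub p κ γ :=
  affSub_normalizes_sqSub (upper_mem_affSub c) hh

theorem lower_normalizes_sqSub (c : ZMod p) {h : PP} (hh : h ∈ sqSub p κ γ) :
    lower c * h * (lower c)⁻¹ ∈ sqSub p κ γ := by
  obtain ⟨s, t, c', rfl⟩ := hh
  refine mul_inv_mem_of_eq (h' := q (s + c * t) t c') ?_ ⟨_, _, _, rfl⟩
  ext (⟨y | j, x⟩ | u)
  · simp only [Perm.mul_apply, q_sq, lower_sq, Sum.inl.injEq, Prod.mk.injEq, and_true]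
    ring
  · simp
  · simp

theorem sqSub_normalizes_affSub {g : PP} (hg : g ∈ sqSub p κ γ) {h : PP} (hh : h ∈ affSub p κ γ) :
    g * h * g⁻¹ ∈ affSub p κ γ := by
  obtain ⟨s', t', c', rfl⟩ := hg
  obtain ⟨s, t, c, rfl⟩ := hh
  refine mul_inv_mem_of_eq (h' := tr (Sum.elim (fun y => (s - t * s') + t * y) c)) ?_ ⟨_, _, _, rfl⟩
  ext (⟨y | j, x⟩ | u)
  · simp only [tr, Perm.mul_apply, q_sq, mono_inl, Perm.one_apply, Sum.elim_inl, Pi.one_apply,
      Units.val_one, one_mul, Sum.inl.injEq, Prod.mk.injEq, true_and]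
    ring
  · simp [tr]; ring
  · simp [tr]

theorem diag_normalizes_affSub (ω : (ZMod p)ˣ) {h : PP} (hh : h ∈ affSub p κ γ) :
    diag ω * h * (diag ω)⁻¹ ∈ affSub p κ γ := by
  obtain ⟨s, t, c, rfl⟩ := hh
  have hω : ((ω⁻¹ : (ZMod p)ˣ) : ZMod p) * ω = 1 := Units.inv_mul ω
  refine mul_inv_mem_of_eq
    (h' := tr (Sum.elim (fun y => (ω : ZMod p) * s + (ω : ZMod p) * (ω : ZMod p) * t * y) c)) ?_
    ⟨_, _, _, rfl⟩
  ext (⟨y | j, x⟩ | u)
  · simp only [tr, diag, Perm.mul_apply, mono_inl, Perm.one_apply, Sum.elim_inl, Pi.one_apply,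
      Units.val_one, one_mul, Perm.sumCongr_apply, Sum.map_inl, Pi.zero_apply, add_zero,
      Units.mulLeft_apply, Sum.inl.injEq, Prod.mk.injEq, true_and]
    linear_combination (-(ω : ZMod p) * t * y) * hω
  · simp [tr, diag, -Units.val_inv_eq_inv_val]
  · simp [tr, diag, -Units.val_inv_eq_inv_val]

theorem diag_normalizes_base (ω : (ZMod p)ˣ) {h : PP} (hh : h ∈ base p (ZMod p ⊕ κ) γ) :
    diag ω * h * (diag ω)⁻¹ ∈ base p (ZMod p ⊕ κ) γ := by
  obtain ⟨c, rfl⟩ := mem_base.1 hh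
  exact ⟨_, (mono_conj_tr _ _ _ _).symm⟩

theorem base_commute {g h : PP} (hg : g ∈ base p (ZMod p ⊕ κ) γ) (hh : h ∈ base p (ZMod p ⊕ κ) γ) :
    g * h = h * g := by
  obtain ⟨b, rfl⟩ := mem_base.1 hg
  obtain ⟨b', rfl⟩ := mem_base.1 hh
  rw [← tr_add, ← tr_add, add_comm]

theorem sqSub_mem_normalizer_base [Finite κ] [Finite γ] {g : PP} (hg : g ∈ sqSub p κ γ) :
    g ∈ Subgroup.normalizer (base p (ZMod p ⊕ κ) γ : Set PP) := by
  obtain ⟨s, t, c, rfl⟩ := hg
  exact mono_mem_normalizer _ _ _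

theorem isPGroup_sqSub : IsPGroup p (sqSub p κ γ) := by
  have : ∀ (s t : ZMod p) (c : κ → ZMod p) (k : ℕ), (q s t c : PP) ^ k = q ((k : ZMod p) * s) ((k : ZMod p) * t) (k • c) := by
    intro s t c k
    induction k with
    | zero => rw [pow_zero, Nat.cast_zero, zero_mul, zero_mul, zero_smul, q_zero]
    | succ k ih =>
      rw [pow_succ, ih, ← q_add, succ_nsmul, Nat.cast_succ]
      congr 1 <;> ring
  rintro ⟨_, s, t, c, rfl⟩
  refine ⟨1, Subtype.ext ?_⟩
  show (q s t c : PP) ^ (p ^ 1) = 1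
  rw [pow_one, this, ZMod.natCast_self, zero_mul, zero_mul,
    show p • c = 0 from funext fun i => by simp, q_zero]

variable [Subsingleton γ]

theorem mem_sqSub_of_commute {σ : PP} (h : ∀ r ∈ sqSub p κ γ, r * σ = σ * r) : σ ∈ sqSub p κ γ := by
  classical
  have hc : ∀ s t c z, (q s t c : PP) (σ z) = σ ((q s t c : PP) z) := fun s t c z =>
    congrArg (fun f : PP => f z) (h _ ⟨s, t, c, rfl⟩)
  have hinr : ∀ u, σ (Sum.inr u) = Sum.inr u := by
    intro u
    rcases e : σ (Sum.inr u) with ⟨y | j, x⟩ | v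
    · have := hc 1 0 0 (Sum.inr u)
      simp [e] at this
    · have := hc 0 0 1 (Sum.inr u)
      simp [e] at this
    · rw [Subsingleton.elim v u]
  obtain ⟨y0, x0, h0⟩ : ∃ y0 x0, σ (Sum.inl (Sum.inl 0, 0)) = Sum.inl (Sum.inl y0, x0) := by
    rcases e : σ (Sum.inl (Sum.inl 0, 0)) with ⟨y | j, x⟩ | v
    · exact ⟨y, x, rfl⟩
    · have := hc 0 0 1 (Sum.inl (Sum.inl 0, 0))
      simp [e] at this
    · rw [← hinr v] at e
      exact absurd (σ.injective e) (by simp)
  have hsq : ∀ y x, σ (Sum.inl (Sum.inl y, x)) = Sum.inl (Sum.inl (y0 + y), x0 + x) := by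
    intro y x
    have := hc y x 0 (Sum.inl (Sum.inl 0, 0))
    simp [h0] at this
    exact this.symm
  have hrest : ∀ j, ∃ c, σ (Sum.inl (Sum.inr j, 0)) = Sum.inl (Sum.inr j, c) := by
    intro j
    rcases e : σ (Sum.inl (Sum.inr j, 0)) with ⟨y | j', x⟩ | v
    · have h1 := hsq (y - y0) (x - x0)
      rw [add_sub_cancel, add_sub_cancel, ← e] at h1
      exact absurd (σ.injective h1) (by simp)
    · by_cases hj : j' = j
      · exact ⟨x, by rw [hj]⟩
      · have := hc 0 0 (Pi.single j' 1) (Sum.inl (Sum.inr j, 0))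
        simp [e, Ne.symm hj] at this
    · rw [← hinr v] at e
      exact absurd (σ.injective e) (by simp)
  choose c0 hc0 using hrest
  refine ⟨y0, x0, c0, Equiv.ext ?_⟩
  rintro (⟨y | j, x⟩ | u)
  · rw [hsq, q_sq, add_comm y0, add_comm x0]
  · have := hc 0 0 (fun _ => x) (Sum.inl (Sum.inr j, 0))
    simp [hc0] at this
    rw [q_rest, add_comm x, this]
  · rw [q_inr, hinr]

theorem mem_base_of_commute {σ : PP} (h : ∀ r ∈ affSub p κ γ, r * σ = σ * r) :
    σ ∈ base p (ZMod p ⊕ κ) γ := by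
  classical
  have hc : ∀ (s t : ZMod p) (c : κ → ZMod p) z,
      (tr (Sum.elim (fun y => s + t * y) c) : PP) (σ z) =
        σ ((tr (Sum.elim (fun y => s + t * y) c) : PP) z) := fun s t c z =>
    congrArg (fun f : PP => f z) (h _ ⟨s, t, c, rfl⟩)
  have hone : ∀ z, (tr 1 : PP) (σ z) = σ ((tr 1 : PP) z) := by
    have : (Sum.elim (fun y => (1 : ZMod p) + 0 * y) 1 : ZMod p ⊕ κ → ZMod p) = 1 :=
      funext fun i => by cases i <;> simp
    intro z
    have := hc 1 0 1 z
    rwa [‹(Sum.elim _ _ : ZMod p ⊕ κ → ZMod p) = 1›] at this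
  have hinr : ∀ u, σ (Sum.inr u) = Sum.inr u := by
    intro u
    rcases e : σ (Sum.inr u) with ⟨i, x⟩ | v
    · have := hone (Sum.inr u)
      simp [e, tr] at this
    · rw [Subsingleton.elim v u]
  have hrest : ∀ i, ∃ c, σ (Sum.inl (i, 0)) = Sum.inl (i, c) := by
    intro i
    rcases e : σ (Sum.inl (i, 0)) with ⟨i', x⟩ | v
    · refine ⟨x, ?_⟩
      by_contra hne
      have hne : i' ≠ i := fun hh => hne (by rw [hh])
      obtain ⟨s, t, c, h0, h1⟩ : ∃ (s t : ZMod p) (c : κ → ZMod p),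
          Sum.elim (fun y => s + t * y) c i = 0 ∧ Sum.elim (fun y => s + t * y) c i' ≠ 0 := by
        rcases i with y | j <;> rcases i' with y' | j'
        · refine ⟨-y, 1, 0, by simp, ?_⟩
          simp only [Sum.elim_inl, one_mul, ne_eq, neg_add_eq_sub, sub_eq_zero]
          exact fun hh => hne (by rw [hh])
        · exact ⟨0, 0, 1, by simp, by simp⟩
        · exact ⟨1, 0, 0, by simp, by simp⟩
        · refine ⟨0, 0, Pi.single j' 1, ?_, by simp⟩
          simp only [Sum.elim_inr]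
          exact Pi.single_eq_of_ne (fun hh => hne (by rw [hh])) _
      have := hc s t c (Sum.inl (i, 0))
      rw [e] at this
      simp only [tr, mono_inl, Perm.one_apply, Pi.one_apply, Units.val_one, one_mul, h0, add_zero, e,
        Sum.inl.injEq, Prod.mk.injEq, true_and, add_eq_left] at this
      exact h1 this
    · rw [← hinr v] at e
      exact absurd (σ.injective e) (by simp)
  choose b hb using hrest
  refine ⟨b, Equiv.ext ?_⟩
  rintro (⟨i, x⟩ | u)
  · have key : ∀ k : ℕ, σ (Sum.inl (i, (k : ZMod p))) = Sum.inl (i, (k : ZMod p) + b i) := by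
      intro k
      induction k with
      | zero => simp [hb]
      | succ k ih =>
        have := hone (Sum.inl (i, (k : ZMod p)))
        rw [ih] at this
        simp [tr] at this
        rw [Nat.cast_succ, ← this, add_right_comm]
    have := key x.val
    rw [ZMod.natCast_rightInverse x] at this
    simp [tr, this]
  · simp [tr, hinr]

end Subgroups

end Cfsg.Agent.H89.AltSquare
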