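import Cfsg.Agent.H89.Extend
import Cfsg.Agent.H89.Join
import Cfsg.Agent.FusionSys.Centric
import Cfsg.Agent.FusionSys.Group

/-!
A central quotient of a constrained group fusion system is constrained.
-/

set_option autoImplicit false

namespace Cfsg.Agent.H89

open Cfsg Cfsg.FusionSystem Cfsg.Agent.FusionSys

section

variable {Ω : Type*} [Group Ω] {S : Subgroup Ω} {F : FusionSystem S} [Finite S] {p : ℕ} [Fact p.Prime]

/-- The elements moving a normal centric `Q` only modulo a `Z` they centralize lie in every centric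
radical subgroup. -/
theorem le_of_stabilizes_normal (hS : IsPGroup p S) (hF : F.IsSaturated p) {Q Z C : Subgroup Ω}
    (hQ : F.IsNormal Q) (hQc : F.IsCentric Q) (hZ : F.StronglyClosed Z) (hC : F.StronglyClosed C)
    (hCQ : ∀ c ∈ C, ∀ q ∈ Q, c * q * c⁻¹ * q⁻¹ ∈ Z) (hCZ : ∀ c ∈ C, ∀ z ∈ Z, c * z = z * c)
    {P : Subgroup Ω} (hPc : F.IsCentric P) (hPr : F.IsRadical p P) : C ≤ P := by
  have hPS := hPc.1
  haveI := finite_of_le hPS
  have hQP := le_of_isNormal hS hQ hPc hPr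
  have hQsc := stronglyClosed_of_isNormal hQ
  have h1 := stronglyClosed_bot F
  let K : Subgroup (MulAut P) := stab F P hPS (B := Z) hQsc ⊓ stab F P hPS (B := ⊥) hZ
  have hKle : K ≤ F.autGroup P := fun _ h => h.1.1
  haveI hKn : (K.subgroupOf (F.autGroup P)).Normal := ⟨fun k hk a =>
    ⟨stab_conj hPS hQsc hZ a.2 hk.1, stab_conj hPS hZ h1 a.2 hk.2⟩⟩
  have hKp : IsPGroup p (K.subgroupOf (F.autGroup P)) := by
    rintro ⟨⟨k, hk0⟩, hk⟩
    obtain ⟨e, he⟩ := IsPGroup.iff_card.1 hS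
    refine ⟨e + e, Subtype.ext (Subtype.ext ?_)⟩
    show k ^ (p ^ (e + e)) = 1
    rw [pow_add, ← he, pow_mul]
    have hfix : k ^ Nat.card S ∈ stab F P hPS (B := ⊥) hQsc :=
      pow_card_mem_stab hPS hQsc hZ h1 hk.1 hk.2
    obtain ⟨z, hz, -, hze⟩ := exists_center_twist hS hF hQP hQc (isMap_id F hPS)
      (isIso_autMap hPS hfix.1).isMap (fun x hx => inv_mul_eq_one.1
        (Subgroup.mem_bot.1 (hfix.2 x (hQP hx) hx)))
    have hzP : z ∈ Subgroup.normalizer (P : Set Ω) := Subgroup.le_normalizer (hQP hz)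
    have hkz : k ^ Nat.card S = conjAutHom P ⟨z, hzP⟩ := aut_ext fun x hx => by
      rw [hze x hx]
      exact (autMap_conjAut hzP hx).symm
    have hz1 : z ^ Nat.card S = 1 := congrArg Subtype.val
      (pow_card_eq_one' : (⟨z, hQsc.1 hz⟩ : S) ^ Nat.card S = 1)
    rw [hkz, ← map_pow, show (⟨z, hzP⟩ : Subgroup.normalizer (P : Set Ω)) ^ Nat.card S = 1 from
      Subtype.ext hz1, map_one]
  have hKinn : K ≤ Inn P := fun k hk => by
    rw [← hPr.2]
    exact ⟨⟨k, hKle hk⟩, le_sSup (show K.subgroupOf (F.autGroup P) ∈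
      {M : Subgroup (F.autGroup P) | M.Normal ∧ IsPGroup p M} from ⟨hKn, hKp⟩)
      (Subgroup.mem_subgroupOf.2 hk), rfl⟩
  by_contra hCP
  refine (lt_inf_normalizer_sup hS hC hPS hCP).ne (le_antisymm le_sup_right (sup_le ?_ le_rfl))
  rintro c ⟨hcC, hcn⟩
  have hcK : conjAut hcn ∈ K := by
    have hA := conjAut_mem_autGroup F hPS ⟨hC.1 hcC, hcn⟩
    refine ⟨⟨hA, fun x hx hxQ => ?_⟩, hA, fun x hx hxZ => ?_⟩
    · rw [autMap_conjAut _ hx, conjMap_apply]
      have h := Z.inv_mem (hCQ c hcC x⁻¹ (Q.inv_mem hxQ))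
      rwa [show (c * x⁻¹ * c⁻¹ * x⁻¹⁻¹)⁻¹ = x⁻¹ * (c * x * c⁻¹) by group] at h
    · rw [autMap_conjAut _ hx, conjMap_apply, hCZ c hcC x hxZ, Subgroup.mem_bot]
      group
  exact mem_of_conjAut_mem_inn (centralizerIn_le_of_isCentric hPc) hPS (hC.1 hcC) hcn (hKinn hcK)

end

/-- A central quotient of a constrained group fusion system is constrained. -/
theorem isConstrained_central_quotient {K : Type*} [Group K] [Finite K] {p : ℕ} [Fact p.Prime]
    (T : Sylow p K) (Z : Subgroup K) [Z.Normal] (hZ : Z ≤ Subgroup.center K)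
    (h : (groupFusionSystem (T : Subgroup K)).IsConstrained p) :
    (groupFusionSystem ((T : Subgroup K).map (QuotientGroup.mk' Z))).IsConstrained p := by
  set F := groupFusionSystem (T : Subgroup K) with hFdef
  set θ := QuotientGroup.mk' Z with hθ
  obtain ⟨hsat, Q, hQn, hQc⟩ := h
  have hsat' : (groupFusionSystem ((T : Subgroup K).map θ)).IsSaturated p :=
    isSaturated_group (T.mapSurjective (QuotientGroup.mk'_surjective Z))
  have hθ1 : ∀ x : K, θ x = 1 ↔ x ∈ Z := fun x => QuotientGroup.eq_one_iff x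
  have hcomm : ∀ z ∈ Z, ∀ x : K, x * z = z * x := fun z hz x =>
    Subgroup.mem_center_iff.1 (hZ hz) x
  have hZ2 : F.StronglyClosed ((T : Subgroup K) ⊓ Z) := stronglyClosed_iff.2
    ⟨inf_le_left, fun R f hR hf x hx => by
      obtain ⟨-, a, ha⟩ := isMap_group_iff.1 hf
      rw [(ha x hx).2, hcomm x (hR hx).2 a, mul_inv_cancel_right]
      exact hR hx⟩
  obtain ⟨hQS, hext⟩ := isNormal_iff.1 hQn
  have hTn : (T : Subgroup K) ≤ Subgroup.normalizer (Q : Set K) := le_normalizer_of_isNormal hQn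
  let C : Subgroup K :=
    { carrier := {t | t ∈ (T : Subgroup K) ∧ ∀ q ∈ Q, θ t * θ q = θ q * θ t}
      one_mem' := ⟨one_mem _, fun q _ => by rw [map_one, one_mul, mul_one]⟩
      mul_mem' := fun {a b} ha hb => ⟨mul_mem ha.1 hb.1, fun q hq => by
        rw [map_mul, mul_assoc, hb.2 q hq, ← mul_assoc, ha.2 q hq, mul_assoc]⟩
      inv_mem' := fun {a} ha => ⟨inv_mem ha.1, fun q hq => by
        rw [map_inv]; exact ((show Commute (θ a) (θ q) from ha.2 q hq).inv_left).eq⟩ }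
  have hCsc : F.StronglyClosed C := by
    refine stronglyClosed_iff.2 ⟨fun t ht => ht.1, fun R f hR hf x hx => ⟨hf.mem_S hx, fun q hq => ?_⟩⟩
    obtain ⟨g, hg, hge, hgQ⟩ := hext R f hf
    obtain ⟨-, a, ha⟩ := isMap_group_iff.1 hg
    obtain ⟨q', hq', rfl⟩ := hgQ.ge hq
    rw [← hge x hx, (ha x (Subgroup.mem_sup_left hx)).2, (ha q' (Subgroup.mem_sup_right hq')).2,
      ← map_mul, ← map_mul, show a * x * a⁻¹ * (a * q' * a⁻¹) = a * (x * q') * a⁻¹ by group,
      show a * q' * a⁻¹ * (a * x * a⁻¹) = a * (q' * x) * a⁻¹ by group]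
    simp only [map_mul]
    rw [(hR hx).2 q' hq']
  have hCn : F.IsNormal C := isNormal_of_stronglyClosed_of_le T.2 hsat hCsc fun P _ hPc hPr =>
    le_of_stabilizes_normal T.2 hsat hQn hQc hZ2 hCsc (fun c hc q hq =>
      ⟨(T : Subgroup K).mul_mem (hQS ((Subgroup.mem_normalizer_iff.1 (hTn hc.1) q).1 hq))
          ((T : Subgroup K).inv_mem (hQS hq)), by
        show c * q * c⁻¹ * q⁻¹ ∈ Z
        rw [← hθ1, map_mul, map_mul, map_mul, map_inv, map_inv, hc.2 q hq]
        group⟩)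
      (fun c _ z hz => hcomm z hz.2 c) hPc hPr
  set R := Q ⊔ C with hR
  have hRn : F.IsNormal R := isNormal_sup F hQn hCn
  obtain ⟨hRS, hRext⟩ := isNormal_iff.1 hRn
  have hnorm : ∀ y : K, θ y ∈ (T : Subgroup K).map θ → ∀ k : ℕ, y ^ (p ^ k) = 1 → y ∈ (T : Subgroup K) := by
    intro y hy k hk
    obtain ⟨t, ht, hte⟩ := hy
    have hz : t⁻¹ * y ∈ Z := by rw [← hθ1, map_mul, map_inv, hte, inv_mul_cancel]
    have hyN : y ∈ Subgroup.normalizer ((T : Subgroup K) : Set K) := by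
      rw [show y = t * (t⁻¹ * y) by group]
      refine mul_mem (Subgroup.le_normalizer ht) (Subgroup.mem_normalizer_iff.2 fun x => ?_)
      rw [← hcomm _ hz x, mul_inv_cancel_right]
    have hzp : IsPGroup p (Subgroup.zpowers y) := by
      rintro ⟨_, i, rfl⟩
      refine ⟨k, Subtype.ext ?_⟩
      show (y ^ i) ^ (p ^ k) = 1
      rw [← zpow_natCast, ← zpow_mul, mul_comm, zpow_mul, zpow_natCast, hk, one_zpow]
    have h := hzp.inf_normalizer_sylow T
    have hy' : y ∈ Subgroup.zpowers y ⊓ (T : Subgroup K) := by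
      rw [← h]; exact ⟨Subgroup.mem_zpowers y, hyN⟩
    exact hy'.2
  have hnormal : (groupFusionSystem ((T : Subgroup K).map θ)).IsNormal (R.map θ) := by
    refine isNormal_iff.2 ⟨Subgroup.map_mono hRS, fun P' f hf => ?_⟩
    obtain ⟨hP', a', ha'⟩ := isMap_group_iff.1 hf
    obtain ⟨g, rfl⟩ := QuotientGroup.mk'_surjective Z a'
    set P := P'.comap θ ⊓ (T : Subgroup K)
    have hPP : P.map θ = P' := by
      refine le_antisymm ?_ fun y hy => ?_
      · rintro _ ⟨x, hx, rfl⟩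
        exact hx.1
      · obtain ⟨t, ht, rfl⟩ := hP' hy
        exact ⟨t, ⟨hy, ht⟩, rfl⟩
    have hgP : IsMap F P (conjMap g) := isMap_group_iff.2 ⟨inf_le_right, g, fun x hx => ⟨by
      obtain ⟨k, hk⟩ := T.2 ⟨x, hx.2⟩
      refine hnorm _ ?_ k ?_
      · simp only [map_mul, map_inv]
        exact (ha' (θ x) hx.1).1
      · rw [conj_pow, show x ^ (p ^ k) = 1 from congrArg Subtype.val hk]
        group, rfl⟩⟩
    obtain ⟨h, hh, hhe, hhR⟩ := hRext P _ hgP
    obtain ⟨-, a, ha⟩ := isMap_group_iff.1 hh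
    refine ⟨conjMap (θ a), isMap_group_iff.2 ⟨sup_le hP' (Subgroup.map_mono hRS), θ a, fun y hy => ?_⟩,
      fun y hy => ?_, ?_⟩
    · rw [← hPP, ← Subgroup.map_sup] at hy
      obtain ⟨x, hx, rfl⟩ := hy
      refine ⟨?_, rfl⟩
      exact ⟨a * x * a⁻¹, (ha x hx).1, by simp only [map_mul, map_inv]⟩
    · have hy' := hy
      rw [← hPP] at hy'
      obtain ⟨x, hx, rfl⟩ := hy'
      rw [(ha' _ hy).2, conjMap_apply]
      have := congrArg θ ((ha x (Subgroup.mem_sup_left hx)).2.symm.trans (hhe x hx))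
      simp only [conjMap_apply, map_mul, map_inv] at this ⊢
      exact this
    · have himg : h '' (R : Set K) = (fun x => a * x * a⁻¹) '' (R : Set K) :=
        Set.image_congr fun x hx => (ha x (Subgroup.mem_sup_right hx)).2
      rw [hhR] at himg
      ext y
      constructor
      · rintro ⟨_, ⟨x, hx, rfl⟩, rfl⟩
        refine ⟨a * x * a⁻¹, himg.ge ⟨x, hx, rfl⟩, ?_⟩
        simp [conjMap_apply]
      · rintro ⟨x, hx, rfl⟩
        obtain ⟨w, hw, rfl⟩ := himg.le hx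
        exact ⟨θ w, ⟨w, hw, rfl⟩, by simp [conjMap_apply]⟩
  refine ⟨hsat', R.map θ, hnormal, hnormal.1, fun X hX y hy => ?_⟩
  obtain ⟨f, hf⟩ := isConj_iff.1 hX
  have hsc := stronglyClosed_iff.1 (stronglyClosed_of_isNormal hnormal)
  have hXR : X = R.map θ := by
    rw [hf.eq_imgSub]
    exact (isIso_of_mapsTo hf.isMap (hsc.2 _ f le_rfl hf.isMap)).eq_imgSub.symm
  subst hXR
  obtain ⟨hyS, hyc⟩ := FusionSys.mem_centralizerIn.1 hy
  obtain ⟨t, ht, rfl⟩ := hyS
  exact ⟨t, Subgroup.mem_sup_right ⟨ht, fun q hq => (hyc _ ⟨q, Subgroup.mem_sup_left hq, rfl⟩).symm⟩, rfl⟩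

end Cfsg.Agent.H89
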