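import Cfsg.Agent.H89.Factor
import Cfsg.Agent.H89.Join
import Mathlib.GroupTheory.Commutator.Basic

/-!
Solvable fusion systems: abelian series of strongly closed subgroups.
-/

set_option autoImplicit false

namespace Cfsg.Agent.H89

open Cfsg Cfsg.FusionSystem Cfsg.Agent.FusionSys

universe u

variable {Ω : Type u} [Group Ω] {S : Subgroup Ω} {F : FusionSystem S}

theorem mem_of_normal {Q : Subgroup Ω} (hQ : F.IsNormal Q) {P : Subgroup Ω} {f : Ω → Ω}
    (hf : IsMap F P f) {x : Ω} (hx : x ∈ P) (hxQ : x ∈ Q) : f x ∈ Q := by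
  obtain ⟨g, -, hge, hgi⟩ := (isNormal_iff.1 hQ).2 P f hf
  rw [← hge x hx]
  exact hgi.le (Set.mem_image_of_mem g hxQ)

theorem stronglyClosed_of_normal {Q : Subgroup Ω} (hQ : F.IsNormal Q) : F.StronglyClosed Q :=
  stronglyClosed_iff.2 ⟨hQ.1, fun _ _ hR hf x hx => mem_of_normal hQ hf hx (hR hx)⟩

theorem stronglyClosed_centralizerIn {Q : Subgroup Ω} (hQ : F.IsNormal Q) :
    F.StronglyClosed (centralizerIn S Q) := by
  refine stronglyClosed_iff.2 ⟨centralizerIn_le, fun R f hR hf x hx => ?_⟩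
  obtain ⟨g, hg, hge, hgi⟩ := (isNormal_iff.1 hQ).2 R f hf
  refine FusionSys.mem_centralizerIn.2 ⟨hf.mem_S hx, fun y hy => ?_⟩
  obtain ⟨q, hq, rfl⟩ := hgi.ge hy
  rw [← hge x hx, ← hg.map_mul (Subgroup.mem_sup_right hq) (Subgroup.mem_sup_left hx),
    (FusionSys.mem_centralizerIn.1 (hR hx)).2 q hq,
    hg.map_mul (Subgroup.mem_sup_left hx) (Subgroup.mem_sup_right hq)]

theorem stronglyClosed_inf {A B : Subgroup Ω} (hA : F.StronglyClosed A) (hB : F.StronglyClosed B) :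
    F.StronglyClosed (A ⊓ B) :=
  stronglyClosed_iff.2 ⟨inf_le_left.trans hA.1, fun _ _ hR hf _ hx =>
    ⟨mem_of_stronglyClosed hA hf hx (hR hx).1, mem_of_stronglyClosed hB hf hx (hR hx).2⟩⟩

theorem normal_of_stronglyClosed {R : Subgroup Ω} (hR : F.StronglyClosed R) :
    (R.subgroupOf S).Normal :=
  ⟨fun _ hb s => conj_mem_of_stronglyClosed hR s.2 hb⟩

variable [Finite S] {p : ℕ} [Fact p.Prime]

theorem exists_abelian_above (hS : IsPGroup p S) (hF : F.IsSaturated p) (h : F.IsSolvableSystem)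
    {R : Subgroup Ω} (hR : F.StronglyClosed R) (hne : R ≠ S) :
    ∃ B, F.StronglyClosed B ∧ R < B ∧ ∀ a ∈ B, ∀ b ∈ B, a * b * a⁻¹ * b⁻¹ ∈ R := by
  haveI hn := normal_of_stronglyClosed hR
  set θ := QuotientGroup.mk' (R.subgroupOf S) with hθdef
  have hθ : KerEq θ R := fun s => QuotientGroup.eq_one_iff s
  have hrange : θ.range = (⊤ : Subgroup (S ⧸ R.subgroupOf S)) :=
    MonoidHom.range_eq_top.2 (QuotientGroup.mk'_surjective _)
  set E := factorSystem θ hθ hR hrange with hE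
  have hfac := isFactorSystem_factorSystem θ hθ hR hrange
  have hcore := h R hR hne E hfac
  haveI : Finite (⊤ : Subgroup (S ⧸ R.subgroupOf S)) := inferInstance
  have hD : E.IsNormal E.core := isNormal_core E
  set D := E.core
  set Z := D ⊓ centralizerIn (⊤ : Subgroup (S ⧸ R.subgroupOf S)) D with hZ
  have hZsc : E.StronglyClosed Z :=
    stronglyClosed_inf (stronglyClosed_of_normal hD) (stronglyClosed_centralizerIn hD)
  have hZne : Z ≠ ⊥ := by
    intro hbot
    haveI : Nontrivial D := (Subgroup.nontrivial_iff_ne_bot D).2 hcore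
    haveI := ((hS.to_quotient (R.subgroupOf S)).to_subgroup D).center_nontrivial
    obtain ⟨⟨z, hz⟩, hz1⟩ := exists_ne (1 : Subgroup.center D)
    have hmem : (z : S ⧸ R.subgroupOf S) ∈ Z := by
      refine ⟨z.2, FusionSys.mem_centralizerIn.2 ⟨trivial, fun y hy => ?_⟩⟩
      exact congrArg Subtype.val (Subgroup.mem_center_iff.1 hz ⟨y, hy⟩)
    rw [hbot, Subgroup.mem_bot] at hmem
    exact hz1 (Subtype.ext (Subtype.ext hmem))
  refine ⟨preimageAlong θ Z, ?_, ?_, ?_⟩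
  · refine stronglyClosed_iff.2 ⟨preimageAlong_le _ _, fun P f hP hf x hx => ?_⟩
    obtain ⟨φ, hφ, hφf⟩ := hf
    obtain ⟨⟨-, hmor⟩, -, -⟩ := isSurjectiveMorphism_of_factor hS hF hR hfac
    obtain ⟨φ', hφ', hPS, hφS, hmem, hind⟩ := hmor P φ hφ
    have hle : imageAlong θ P ≤ Z := by
      rintro _ ⟨s, hs, rfl⟩
      exact (mem_preimageAlong.1 (hP hs)).2
    have hz := hZsc.2 _ hle φ' hφ' ⟨θ ⟨x, hPS hx⟩, hmem ⟨x, hx⟩⟩
    rw [hind ⟨x, hx⟩] at hz
    rw [← hφf ⟨x, hx⟩]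
    exact mem_preimageAlong.2 ⟨hφS _, hz⟩
  · refine lt_of_le_of_ne (ker_le_preimageAlong hθ hR.1 Z) fun heq => hZne ?_
    refine (Subgroup.eq_bot_iff_forall Z).2 fun z hz => ?_
    obtain ⟨s, rfl⟩ := QuotientGroup.mk'_surjective (R.subgroupOf S) z
    exact (hθ s).2 (heq ▸ mem_preimageAlong.2 ⟨s.2, hz⟩)
  · intro a ha b hb
    obtain ⟨haS, haZ⟩ := mem_preimageAlong.1 ha
    obtain ⟨hbS, hbZ⟩ := mem_preimageAlong.1 hb
    have hc := (FusionSys.mem_centralizerIn.1 hbZ.2).2 _ haZ.1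
    refine (hθ (⟨a, haS⟩ * ⟨b, hbS⟩ * ⟨a, haS⟩⁻¹ * ⟨b, hbS⟩⁻¹)).1 ?_
    rw [map_mul, map_mul, map_mul, map_inv, map_inv, hc]
    group

theorem exists_series_from (hS : IsPGroup p S) (hF : F.IsSaturated p) (h : F.IsSolvableSystem) :
    ∀ (n : ℕ) (R : Subgroup Ω), F.StronglyClosed R → Nat.card S - Nat.card R ≤ n →
      ∃ (m : ℕ) (T : Fin (m + 1) → Subgroup Ω), T 0 = R ∧ T (Fin.last m) = S ∧
        (∀ i : Fin m, T i.castSucc ≤ T i.succ) ∧ (∀ i, F.StronglyClosed (T i)) ∧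
        ∀ i : Fin m, ⁅T i.succ, T i.succ⁆ ≤ T i.castSucc := by
  intro n
  induction n using Nat.strong_induction_on with
  | _ n ih =>
    intro R hR hn
    by_cases hne : R = S
    · exact ⟨0, fun _ => R, rfl, hne, fun i => i.elim0, fun _ => hR, fun i => i.elim0⟩
    · obtain ⟨B, hB, hRB, hcomm⟩ := exists_abelian_above hS hF h hR hne
      haveI : Finite B := finite_of_le hB.1
      have h1 := card_lt_card_of_lt hRB
      have h2 : Nat.card B ≤ Nat.card S :=
        Nat.card_le_card_of_injective _ (Subgroup.inclusion_injective hB.1)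
      obtain ⟨m, T, hT0, hTl, hmono, hsc, hc⟩ := ih (Nat.card S - Nat.card B) (by omega) B hB le_rfl
      refine ⟨m + 1, Fin.cons R T, by simp, ?_, ?_, ?_, ?_⟩
      · rw [← Fin.succ_last, Fin.cons_succ, hTl]
      · intro i
        induction i using Fin.cases with
        | zero => simp [hT0, hRB.le]
        | succ j => simpa [Fin.castSucc_succ] using hmono j
      · intro i
        induction i using Fin.cases with
        | zero => simpa using hR
        | succ j => simpa using hsc j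
      · intro i
        induction i using Fin.cases with
        | zero =>
          simp only [Fin.cons_succ, hT0, Fin.castSucc_zero, Fin.cons_zero]
          exact Subgroup.commutator_le.2 hcomm
        | succ j => simpa [Fin.castSucc_succ] using hc j

theorem exists_series (hS : IsPGroup p S) (hF : F.IsSaturated p) (h : F.IsSolvableSystem) :
    ∃ (n : ℕ) (T : Fin (n + 1) → Subgroup Ω), T 0 = ⊥ ∧ T (Fin.last n) = S ∧ Monotone T ∧
      (∀ i, F.StronglyClosed (T i)) ∧ ∀ i : Fin n, ⁅T i.succ, T i.succ⁆ ≤ T (Fin.castSucc i) := by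
  obtain ⟨m, T, h0, hl, hm, hsc, hc⟩ := exists_series_from hS hF h _ ⊥ (stronglyClosed_bot F) le_rfl
  exact ⟨m, T, h0, hl, Fin.monotone_iff_le_succ.2 hm, hsc, hc⟩

theorem isSolvableSystem_of_series (hS : IsPGroup p S) (hF : F.IsSaturated p) {n : ℕ}
    (T : Fin (n + 1) → Subgroup Ω) (h0 : T 0 = ⊥) (hl : T (Fin.last n) = S)
    (hsc : ∀ i, F.StronglyClosed (T i)) (hc : ∀ i : Fin n, ⁅T i.succ, T i.succ⁆ ≤ T i.castSucc) :
    F.IsSolvableSystem := by
  intro R hR hne hnormal E hE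
  obtain ⟨hRS, hθ, hrange, hmaps⟩ := hE
  set θ := QuotientGroup.mk' (R.subgroupOf S)
  have hex : ∃ i : Fin n, ¬ T i.succ ≤ R ∧ T i.castSucc ≤ R := by
    by_contra hno
    push Not at hno
    have hall : ∀ i, T i ≤ R := fun i => by
      induction i using Fin.induction with
      | zero => rw [h0]; exact bot_le
      | succ j ihj => exact Classical.byContradiction fun hj => hno j hj ihj
    exact hne (le_antisymm hR.1 (hl ▸ hall (Fin.last n)))
  obtain ⟨i, hi, hi'⟩ := hex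
  set B := T i.succ
  set A := imageAlong θ B
  have hAne : A ≠ ⊥ := by
    intro hbot
    apply hi
    intro x hx
    have h1 : θ ⟨x, (hsc i.succ).1 hx⟩ ∈ A := ⟨⟨x, (hsc i.succ).1 hx⟩, hx, rfl⟩
    rw [hbot, Subgroup.mem_bot] at h1
    exact (hθ ⟨x, (hsc i.succ).1 hx⟩).1 h1
  have hA : E.IsNormal A := by
    refine isNormal_iff.2 ⟨le_top, fun P' f hf => ?_⟩
    obtain ⟨φ', hφ', hφ'f⟩ := hf
    obtain ⟨hP', φ, hφ, hle, hφS, hmem, hind⟩ := (hmaps P' φ').1 hφ'
    obtain ⟨g, hg, hge⟩ := exists_extend_mod hS hF (stronglyClosed_inf hR (hsc i.succ)) (hsc i.succ)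
      inf_le_right (fun a ha b hb => by
        refine ⟨hi' ?_, ?_⟩
        · exact hc i (Subgroup.commutator_mem_commutator ha hb)
        · exact Subgroup.mul_mem _ (Subgroup.mul_mem _ (Subgroup.mul_mem _ ha hb)
            (Subgroup.inv_mem _ ha)) (Subgroup.inv_mem _ hb)) (isMap_of_mem hφ)
    set P₁ := preimageAlong θ P' ⊔ B
    have hP₁ : P₁ ≤ S := sup_le (preimageAlong_le _ _) (hsc i.succ).1
    have himg : imageAlong θ P₁ = P' ⊔ A := by
      show (P₁.subgroupOf S).map θ = _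
      rw [Subgroup.subgroupOf_sup (preimageAlong_le _ _) (hsc i.succ).1, Subgroup.map_sup]
      congr 1
      ext y
      constructor
      · rintro ⟨s, hs, rfl⟩
        exact (mem_preimageAlong.1 hs).2
      · intro hy
        obtain ⟨s, rfl⟩ : y ∈ θ.range := hrange ▸ hP' hy
        exact ⟨s, ⟨s, hy, rfl⟩, rfl⟩
    have hpre : preimageAlong θ (P' ⊔ A) = P₁ := by
      rw [← himg, preimageAlong_imageAlong hθ hRS hP₁]
      exact sup_eq_left.2 ((ker_le_preimageAlong hθ hRS P').trans le_sup_left)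
    rw [← hpre] at hg
    obtain ⟨ψ, hψ, hψg⟩ := hg
    obtain ⟨ψ', hψ'⟩ := exists_induced hθ hR (le_top.trans hrange.ge) hψ
    have hEm : IsMap E (P' ⊔ A) (homFun ψ') :=
      isMap_of_mem ((hmaps _ _).2 ⟨le_top, ψ, hψ, hψ'⟩)
    obtain ⟨hle', hψS, hmem', hind'⟩ := hψ'
    refine ⟨homFun ψ', hEm, fun y hy => ?_, ?_⟩
    · obtain ⟨s, rfl⟩ : y ∈ θ.range := hrange ▸ hP' hy
      have hs : (s : Ω) ∈ preimageAlong θ P' := ⟨s, hy, rfl⟩
      have hs' : (s : Ω) ∈ preimageAlong θ (P' ⊔ A) := ⟨s, Subgroup.mem_sup_left hy, rfl⟩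
      rw [homFun_mem ψ' (Subgroup.mem_sup_left hy), ← hφ'f ⟨θ s, hy⟩]
      refine (hind' ⟨s, hs'⟩).trans (Eq.trans ?_ (hind ⟨s, hs⟩).symm)
      have h1 : θ (⟨φ ⟨s, hs⟩, hφS _⟩⁻¹ * ⟨ψ ⟨s, hs'⟩, hψS _⟩) = 1 := by
        refine (hθ _).2 ?_
        show (φ ⟨s, hs⟩)⁻¹ * ψ ⟨s, hs'⟩ ∈ R
        rw [hψg ⟨s, hs'⟩, ← homFun_mem φ hs]
        exact (hge _ hs).1
      rw [map_mul, map_inv, inv_mul_eq_one] at h1
      exact h1.symm
    · have hAm := hEm.mono (le_sup_right : A ≤ P' ⊔ A)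
      refine hAm.image_eq_of_mapsTo ?_
      rintro _ ⟨s, hs, rfl⟩
      have hsA : θ s ∈ A := ⟨s, hs, rfl⟩
      have hs' : (s : Ω) ∈ preimageAlong θ (P' ⊔ A) := ⟨s, Subgroup.mem_sup_right hsA, rfl⟩
      rw [homFun_mem ψ' (Subgroup.mem_sup_right hsA)]
      refine ⟨⟨ψ ⟨s, hs'⟩, hψS _⟩, ?_, (hind' ⟨s, hs'⟩).symm⟩
      have hgs := mem_of_stronglyClosed (hsc i.succ) ⟨ψ, hψ, hψg⟩ hs' hs
      rw [← hψg ⟨s, hs'⟩] at hgs
      exact hgs
  exact fun hbot => hAne (eq_bot_iff.2 (hbot ▸ le_core E hA))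

theorem isConstrained_of_solvable (hS : IsPGroup p S) (hF : F.IsSaturated p)
    (h : F.IsSolvableSystem) : F.IsConstrained p := by
  have hQ := isNormal_core F
  set Q := F.core with hQdef
  obtain ⟨n, T, h0, hl, -, hsc, hc⟩ := exists_series hS hF h
  have hC := stronglyClosed_centralizerIn hQ
  have hall : ∀ i, T i ⊓ centralizerIn S Q ≤ Q := fun i => by
    induction i using Fin.induction with
    | zero => rw [h0]; simp
    | succ j ihj =>
      set B := T j.succ ⊓ centralizerIn S Q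
      refine le_core F (isNormal_of_central_series hS hF (Z := B ⊓ Q)
        (stronglyClosed_inf (stronglyClosed_inf (hsc _) hC) (stronglyClosed_of_normal hQ))
        (stronglyClosed_inf (hsc _) hC) (fun a ha b hb => ?_)
        fun a ha z hz => ((FusionSys.mem_centralizerIn.1 ha.2).2 z hz.2).symm)
      have hmem : a * b * a⁻¹ * b⁻¹ ∈ B :=
        B.mul_mem (B.mul_mem (B.mul_mem ha hb) (B.inv_mem ha)) (B.inv_mem hb)
      exact ⟨hmem, ihj ⟨hc j (Subgroup.commutator_mem_commutator ha.1 hb.1), hmem.2⟩⟩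
  have hCQ : centralizerIn S Q ≤ Q := fun x hx => hall (Fin.last n) ⟨hl ▸ hx.1, hx⟩
  refine ⟨hF, Q, hQ, hQ.1, fun Q' hQ' => ?_⟩
  obtain ⟨f, hf⟩ := FusionSys.isConj_iff.1 hQ'
  haveI : Finite Q := finite_of_le hQ.1
  have h2 : Q' = Q := SetLike.coe_injective (hf.image_eq.symm.trans
    (hf.isMap.image_eq_of_mapsTo fun x hx => mem_of_normal hQ hf.isMap hx hx))
  rwa [h2]

end Cfsg.Agent.H89
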