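import Cfsg.Agent.H89.ResidualNormal
import Cfsg.Agent.H89.Series
import Cfsg.Agent.H91.CentSys
import Cfsg.Agent.FusionSys.KInstances

/-!
The centralizer system of a normal subgroup is a normal subsystem.
-/

set_option autoImplicit false
set_option linter.style.haveILetI false
set_option linter.unusedSectionVars false

namespace Cfsg.Agent.H89.CentralizerNormal

open Cfsg Cfsg.FusionSystem Cfsg.Agent.FusionSys Cfsg.Agent.H91.CentFocal
open Cfsg.Agent.H89.ResidualExtend Cfsg.Agent.H89.ResidualNormal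
open Cfsg.FusionSystem (centralizerIn normalizerIn)

variable {Ω : Type*} [Group Ω] {S Q : Subgroup Ω} {F : FusionSystem S} {p : ℕ}

theorem isMap_centSys {hQS : Q ≤ S} {P : Subgroup Ω} {f : Ω → Ω} :
    IsMap (Cfsg.Agent.H91.centSys F hQS) P f ↔
      P ≤ centralizerIn S Q ∧ (∀ x ∈ P, f x ∈ centralizerIn S Q) ∧
        ∃ g, IsMap F (P ⊔ Q) g ∧ (∀ x ∈ P, g x = f x) ∧ ∀ x ∈ Q, g x = x := by
  constructor
  · rintro ⟨φ, hφ, hφe⟩
    obtain ⟨h1, h2, g, hg, hge, hgQ⟩ := (Cfsg.Agent.H91.centralizerHom_iff F).1 hφ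
    exact ⟨h1, fun x hx => hφe ⟨x, hx⟩ ▸ h2 ⟨x, hx⟩, g, hg,
      fun x hx => (hge ⟨x, hx⟩).trans (hφe ⟨x, hx⟩), hgQ⟩
  · rintro ⟨h1, h2, g, hg, hge, hgQ⟩
    obtain ⟨φ, hφ, hφe⟩ := (hg.mono (le_sup_left : P ≤ P ⊔ Q)).congr fun x hx => (hge x hx).symm
    exact ⟨φ, (Cfsg.Agent.H91.centralizerHom_iff F).2
      ⟨h1, fun x => (hφe x).symm ▸ h2 x x.2, g, hg, fun x => (hge x x.2).trans (hφe x).symm, hgQ⟩, hφe⟩

variable [Finite S] [Fact p.Prime]

theorem isFullyNormalized_of_isNormal (hQ : F.IsNormal Q) : F.IsFullyNormalized Q := by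
  refine ⟨hQ.1, fun R hR => ?_⟩
  obtain ⟨f, hf⟩ := isConj_iff.1 hR
  haveI : Finite Q := finite_of_le hQ.1
  have hle : R ≤ Q := fun y hy => by
    obtain ⟨x, hx, rfl⟩ := hf.exists_preimage hy
    exact mem_of_normal hQ hf.isMap hx hx
  rw [Subgroup.eq_of_le_of_card_ge hle hf.card_eq.le]

/-- The centralizer system of a normal subgroup is a normal subsystem. -/
theorem isNormalIn (hS : IsPGroup p S) (hF : F.IsSaturated p) (hQ : F.IsNormal Q) :
    (Cfsg.Agent.H91.centSys F hQ.1).IsNormalIn F p := by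
  set T := centralizerIn S Q with hTdef
  have hT : F.StronglyClosed T := stronglyClosed_centralizerIn hQ
  have hTS : T ≤ S := centralizerIn_le
  have hQS := hQ.1
  haveI : Finite T := finite_of_le hTS
  haveI : Finite Q := finite_of_le hQS
  set W := T ⊔ Q with hW
  have hWS : W ≤ S := sup_le hTS hQS
  haveI : Finite W := finite_of_le hWS
  have hWm : ∀ {g : Ω → Ω}, IsMap F W g → ∀ y ∈ W, g y ∈ W := fun {g} hg y hy => hg.mapsTo_sup
    (fun t ht => Subgroup.mem_sup_left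
      ((stronglyClosed_iff.1 hT).2 T g le_rfl (hg.mono le_sup_left) t ht))
    (fun q hq => Subgroup.mem_sup_right (mem_of_normal hQ hg (Subgroup.mem_sup_right hq) hq)) hy
  have hQn := isFullyNormalized_of_isNormal hQ
  refine ⟨⟨isSaturated_centralizer hS hF (isFullyCentralized_of_isFullyNormalized hS hF hQn)
      (Cfsg.Agent.H91.isCentralizerSystem_centSys F hQS), hF, fun P φ hφ => hφ.1, hT,
      fun P hP φ hφ a ha => ?_, fun P hP φ hφ => ?_⟩, fun α hα => ?_⟩
  · obtain ⟨-, hφT, g, hg, hge, hgQ⟩ := isMap_centSys.1 (isMap_of_mem hφ)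
    obtain ⟨A, hA, hAe, hAQ⟩ := (Cfsg.Agent.FusionSys.isNormal_iff.1 hQ).2 T (autMap a)
      ((mem_autGroup_iff hTS).1 ha)
    obtain ⟨k, hk, hkA⟩ := (hA.mono (sup_le_sup_right hP Q)).exists_inv
    have ham : IsMap F T (autMap a) := (mem_autGroup_iff hTS).1 ha
    have himg : (P.subgroupOf T).map (T.subtype.comp a.toMonoidHom) = imgSub (autMap a) P := by
      ext z
      constructor
      · rintro ⟨w, hw, rfl⟩
        exact (ham.mono hP).mem_imgSub.2 ⟨w, hw, autMap_coe a w⟩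
      · intro hz
        obtain ⟨x, hx, rfl⟩ := (ham.mono hP).mem_imgSub.1 hz
        exact ⟨⟨x, hP hx⟩, hx, (autMap_apply a (hP hx)).symm⟩
    have hAP : IsMap F (P ⊔ Q) A := hA.mono (sup_le_sup_right hP Q)
    have hle : imgSub (autMap a) P ⊔ Q ≤ imgSub A (P ⊔ Q) := sup_le
      (fun y hy => by
        obtain ⟨x, hx, rfl⟩ := (ham.mono hP).mem_imgSub.1 hy
        exact hAP.mem_imgSub.2 ⟨x, Subgroup.mem_sup_left hx, hAe x (hP hx)⟩)
      (fun y hy => by
        obtain ⟨x, hx, hxy⟩ := hAQ.ge hy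
        exact hAP.mem_imgSub.2 ⟨x, Subgroup.mem_sup_right hx, hxy⟩)
    have hkm : ∀ y ∈ imgSub (autMap a) P ⊔ Q, k y ∈ P ⊔ Q := fun y hy => by
      obtain ⟨x, hx, rfl⟩ := hAP.mem_imgSub.1 (hle hy)
      rw [hkA x hx]
      exact hx
    have hgm : ∀ y ∈ P ⊔ Q, g y ∈ W := fun y hy => hg.mapsTo_sup
      (fun x hx => Subgroup.mem_sup_left ((hge x hx).symm ▸ hφT x hx))
      (fun q hq => Subgroup.mem_sup_right ((hgQ q hq).symm ▸ hq)) hy
    have hnew : IsMap F (imgSub (autMap a) P ⊔ Q) (A ∘ (g ∘ k)) :=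
      ((hk.mono hle).comp hg hkm).comp hA fun y hy => hgm _ (hkm y hy)
    have hmap : IsMap (Cfsg.Agent.H91.centSys F hQS) (imgSub (autMap a) P) (A ∘ (g ∘ k)) := by
      refine isMap_centSys.2 ⟨fun y hy => ?_, fun y hy => ?_, _, hnew, fun _ _ => rfl, fun q hq => ?_⟩
      · obtain ⟨x, hx, rfl⟩ := (ham.mono hP).mem_imgSub.1 hy
        exact autMap_mem _ (hP hx)
      · obtain ⟨x, hx, rfl⟩ := (ham.mono hP).mem_imgSub.1 hy
        rw [Function.comp_apply, Function.comp_apply, ← hAe x (hP hx),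
          hkA x (Subgroup.mem_sup_left hx), hge x hx, hAe _ (hφT x hx)]
        exact autMap_mem _ (hφT x hx)
      · obtain ⟨x, hx, rfl⟩ := hAQ.ge hq
        rw [Function.comp_apply, Function.comp_apply, hkA x (Subgroup.mem_sup_right hx), hgQ x hx]
    obtain ⟨χ', hχ', hχ'e⟩ := (hmap.mono himg.le : IsMap (Cfsg.Agent.H91.centSys F hQS)
      ((P.subgroupOf T).map (T.subtype.comp a.toMonoidHom)) (A ∘ (g ∘ k)))
    refine ⟨χ', hχ', fun x hφx hax => ?_⟩
    rw [hχ'e]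
    show (A ∘ (g ∘ k)) ((a ⟨(x : Ω), hP x.2⟩ : T) : Ω) = _
    rw [← autMap_apply a (hP x.2), Function.comp_apply, Function.comp_apply, ← hAe (x : Ω) (hP x.2),
      hkA x (Subgroup.mem_sup_left x.2), hge x x.2, homFun_coe, hAe _ hφx, autMap_apply a hφx]
  · have hf := isMap_of_mem hφ
    obtain ⟨g, hg, hge, hgQ⟩ := (Cfsg.Agent.FusionSys.isNormal_iff.1 hQ).2 P _ hf
    have hgQm : IsMap F Q g := hg.mono le_sup_right
    obtain ⟨G, hG, hGe⟩ := receptive_extend (receptive_of_isFullyNormalized hS hF hQn)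
      (⟨hgQm, hgQ⟩ : IsIso F Q Q g) (N := T) fun x hx => hgQm.inExt_of_centralizes hx
    have hWi := isIso_of_mapsTo hG (hWm hG)
    obtain ⟨k, hk, hkG⟩ := hG.exists_inv
    have hGT : ∀ t ∈ T, G t ∈ T :=
      (stronglyClosed_iff.1 hT).2 T G le_rfl (hG.mono le_sup_left)
    obtain ⟨a, ha, hae⟩ := (isIso_of_mapsTo (hG.mono (le_sup_left : T ≤ W)) hGT).exists_aut
    have hfT : ∀ x ∈ P, homFun φ x ∈ T := fun x hx =>
      (stronglyClosed_iff.1 hT).2 P _ hP hf x hx
    have hgW : ∀ y ∈ P ⊔ Q, g y ∈ imgSub G W := fun y hy => by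
      rw [← hWi.eq_imgSub]
      exact hg.mapsTo_sup (fun x hx => Subgroup.mem_sup_left ((hge x hx).symm ▸ hfT x hx))
        (fun q hq => Subgroup.mem_sup_right (hgQ.le ⟨q, hq, rfl⟩)) hy
    have hnew : IsMap F (P ⊔ Q) (k ∘ g) := hg.comp hk hgW
    have hGk : ∀ y ∈ P ⊔ Q, G ((k ∘ g) y) = g y := fun y hy => by
      obtain ⟨w, hw, hwe⟩ := hG.mem_imgSub.1 (hgW y hy)
      rw [Function.comp_apply, ← hwe, hkG w hw]
    have hmem : ∀ x ∈ P, (k ∘ g) x ∈ T :=
      (stronglyClosed_iff.1 hT).2 P _ hP (hnew.mono le_sup_left)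
    obtain ⟨φ₀, hφ₀, hφ₀e⟩ := (isMap_centSys (hQS := hQS)).2 ⟨hP, hmem, _, hnew, fun _ _ => rfl,
      fun q hq => by
        rw [Function.comp_apply, ← hGe q hq, hkG q (Subgroup.mem_sup_right hq)]⟩
    refine ⟨a, ha, φ₀, hφ₀, fun x hx => ?_⟩
    rw [← autMap_apply a hx, hφ₀e x, hae _ (hmem x x.2), hGk x (Subgroup.mem_sup_left x.2),
      hge x x.2, homFun_coe]
  · obtain ⟨-, -, g, hg, hge, hgQ⟩ := isMap_centSys.1
      (autGroup_set_subgroup (F := Cfsg.Agent.H91.centSys F hQS) le_rfl hα)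
    have hWn : F.IsFullyNormalized W := ⟨hWS, fun Y hY => by
      obtain ⟨f, hf⟩ := isConj_iff.1 hY
      have hle : Y ≤ W := fun y hy => by
        obtain ⟨x, hx, rfl⟩ := hf.exists_preimage hy
        exact hWm hf.isMap x hx
      rw [Subgroup.eq_of_le_of_card_ge hle hf.card_eq.le]⟩
    set C := centralizerIn S T with hC
    have hext : ∀ c ∈ C, InExt S W g c := fun c hc => by
      obtain ⟨hcS, hcT⟩ := FusionSys.mem_centralizerIn.1 hc
      have hcm : IsMap F W (conjMap c) := isMap_conj F hWS hcS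
      refine ⟨hcS, mem_normalizer_of_maps fun y hy => hWm hcm y hy, c, hcS, fun y hy => ?_⟩
      have h1 : IsMap F W (g ∘ conjMap c) := hcm.comp hg fun y hy => hWm hcm y hy
      have h2 : IsMap F W (conjMap c ∘ g) := hg.comp hcm fun y hy => hWm hg y hy
      exact h1.eqOn_sup h2 (fun t ht => by
          simp only [Function.comp_apply, conjMap_apply]
          rw [← hcT t ht, mul_inv_cancel_right, hge t ht, ← hcT _ (autMap_mem α ht),
            mul_inv_cancel_right])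
        (fun q hq => by
          have hq' : c * q * c⁻¹ ∈ Q := mem_of_normal hQ hcm (Subgroup.mem_sup_right hq) hq
          simp only [Function.comp_apply, conjMap_apply]
          rw [hgQ _ hq', hgQ q hq]) hy
    obtain ⟨b, hb, hbe⟩ := receptive_extend (receptive_of_isFullyNormalized hS hF hWn)
      (isIso_of_mapsTo hg (hWm hg)) hext
    have hX : T ⊔ C ≤ C ⊔ W := sup_le (le_sup_left.trans le_sup_right) le_sup_left
    haveI : Finite (T ⊔ C : Subgroup Ω) := finite_of_le (sup_cent_le hTS le_rfl)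
    obtain ⟨β, hβ, hβe⟩ := (isIso_of_mapsTo (hb.mono hX) fun y hy =>
      maps_top hT (hb.mono hX) hy).exists_aut
    refine ⟨β, hβ, fun x => ?_, fun c hc => ?_⟩
    · rw [← autMap_coe β, Subgroup.coe_inclusion, hβe _ (Subgroup.mem_sup_left x.2),
        hbe _ (Subgroup.mem_sup_left x.2), hge _ x.2, autMap_coe]
    · rw [← autMap_coe β, hβe _ c.2]
      have hbc : b (c : Ω) ∈ C := map_cent_top hT (hb.mono hX) hc
      obtain ⟨hcS, hcT⟩ := FusionSys.mem_centralizerIn.1 hc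
      obtain ⟨hbS, hbT⟩ := FusionSys.mem_centralizerIn.1 hbc
      refine ⟨FusionSys.mem_centralizerIn.2 ⟨S.mul_mem (S.inv_mem hcS) hbS, fun q hq => ?_⟩,
        Subgroup.mul_mem _ (Subgroup.inv_mem _ hcT) hbT⟩
      have hqW : q ∈ C ⊔ W := Subgroup.mem_sup_right (Subgroup.mem_sup_right hq)
      have hcW : (c : Ω) ∈ C ⊔ W := Subgroup.mem_sup_left hc
      have hq' : (c : Ω) * q * (c : Ω)⁻¹ ∈ Q :=
        mem_of_normal hQ (isMap_conj F hQS hcS) hq hq
      have h3 := hb.map_conj hcW hqW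
      rw [hbe _ (Subgroup.mem_sup_right hq'), hgQ _ hq', hbe _ (Subgroup.mem_sup_right hq), hgQ q hq] at h3
      calc q * ((c : Ω)⁻¹ * b c) = (c : Ω)⁻¹ * ((c : Ω) * q * (c : Ω)⁻¹) * b c := by group
        _ = _ := by rw [h3]; group

end Cfsg.Agent.H89.CentralizerNormal
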