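import Cfsg.Agent.H89.NormalExtend
import Cfsg.Agent.S5148
import Cfsg.Agent.H91.SmallFix
import Cfsg.Agent.FusionSys.NormalSeries

/-!
Components centralize every normal subgroup.
-/

set_option autoImplicit false
set_option linter.style.haveILetI false
set_option linter.unusedSectionVars false

namespace Cfsg.Agent.H89.ComponentFix

open Cfsg Cfsg.FusionSystem Cfsg.Agent.FusionSys Cfsg.Agent.H91.CentFocal
open Cfsg.FusionSystem (centralizerIn normalizerIn)

universe u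

variable {Ω : Type u} [Group Ω] {S T U Q : Subgroup Ω} {F : FusionSystem S} {p : ℕ}

theorem isNormal_of_isCentral (hQ : F.IsCentral Q) : F.IsNormal Q := by
  refine Cfsg.Agent.FusionSys.isNormal_iff.2 ⟨hQ.1, fun P f hf => ?_⟩
  obtain ⟨g, hg, hge, hgQ⟩ := (Cfsg.Agent.FusionSys.isCentral_iff.1 hQ).2 P f hf
  exact ⟨g, hg, hge, (Set.image_congr fun x hx => hgQ x hx).trans (Set.image_id' _)⟩

variable [Finite S] [Fact p.Prime]

/-- A normal subgroup meets a strongly closed subgroup in a normal subgroup of a saturated subsystem. -/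
theorem isNormal_inf (hS : IsPGroup p S) {D : FusionSystem T} (hD : D.IsSaturated p)
    (hsub : D.IsSubsystemOf F) (hT : F.StronglyClosed T) (hQ : F.IsNormal Q) : D.IsNormal (Q ⊓ T) := by
  have hTS := hT.1
  haveI : Finite T := finite_of_le hTS
  have hTp : IsPGroup p T := hS.to_le hTS
  refine isNormal_of_stronglyClosed_of_le hTp hD (stronglyClosed_iff.2
    ⟨inf_le_right, fun R f hR hf x hx =>
      ⟨mem_of_normal hQ (isMap_of_sub hsub hf) hx (hR hx).1, hf.mem_S hx⟩⟩) ?_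
  intro P _ hc hr
  have hPT := hc.1
  have hPS : P ≤ S := hPT.trans hTS
  set A := P ⊔ Q ⊓ T with hA
  have hAT : A ≤ T := sup_le hPT inf_le_right
  haveI := finite_of_le hAT
  haveI := finite_of_le hPT
  haveI := finite_autGroup D hPT
  set N := A ⊓ Subgroup.normalizer (P : Set Ω) with hN
  have hXle : autInducedBy N P ≤ D.autGroup P := by
    intro α hα
    obtain ⟨x, hx, hxn, rfl⟩ := mem_autInducedBy.1 hα
    exact conjAut_mem_autGroup D hPT ⟨hAT hx.1, hxn⟩
  have hX : ((autInducedBy N P).subgroupOf (D.autGroup P)).Normal := by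
    refine ⟨?_⟩
    rintro ⟨β, hβ⟩ hβX ⟨α, hα⟩
    rw [Subgroup.mem_subgroupOf] at hβX ⊢
    obtain ⟨x, hx, hxn, rfl⟩ := mem_autInducedBy.1 hβX
    have hαF := isMap_of_sub hsub ((mem_autGroup_iff hPT).1 hα)
    obtain ⟨g, hg, he, hgQ⟩ := (Cfsg.Agent.FusionSys.isNormal_iff.1 hQ).2 P _ hαF
    have hi : IsIso F P P g := (⟨hαF, image_autMap α⟩ : IsIso F P P (autMap α)).congr he
    have hg1 : IsMap F A g := hg.mono (sup_le_sup_left inf_le_left P)
    have hgx : g x ∈ A := hg1.mapsTo_sup (fun y hy => le_sup_left (b := Q ⊓ T) (hi.mem hy))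
      (fun y hy => le_sup_right (a := P) ⟨hgQ.le ⟨y, hy.1, rfl⟩,
        (stronglyClosed_iff.1 hT).2 A g hAT hg1 y (le_sup_right (a := P) hy)⟩) hx.1
    have hgn : g x ∈ Subgroup.normalizer (P : Set Ω) :=
      (hi.mem_normalizerIn_of_extends hg1 le_sup_left (fun _ _ => rfl) hx.1 hxn).2
    refine mem_autInducedBy.2 ⟨g x, ⟨hgx, hgn⟩, hgn, ?_⟩
    show α * conjAut hxn * α⁻¹ = conjAut hgn
    rw [mul_inv_eq_iff_eq_mul]
    refine aut_ext fun y hy => ?_
    rw [autMap_mul _ _ hy, autMap_mul _ _ hy, autMap_conjAut hxn hy,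
      autMap_conjAut hgn (autMap_mem α hy), conjMap_apply, conjMap_apply,
      ← he _ ((Subgroup.mem_normalizer_iff.1 hxn y).1 hy), ← he y hy,
      hg1.map_conj hx.1 (le_sup_left (b := Q ⊓ T) hy)]
  have hXp : IsPGroup p ((autInducedBy N P).subgroupOf (D.autGroup P)) := by
    refine IsPGroup.of_equiv ?_ (Subgroup.subgroupOfEquivOfLe hXle).symm
    refine (isPGroup_autInducedBy hTp P).to_le fun α hα => ?_
    obtain ⟨x, hx, hxn, rfl⟩ := mem_autInducedBy.1 hα
    exact mem_autInducedBy.2 ⟨x, hAT hx.1, hxn, rfl⟩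
  have hXinn : autInducedBy N P ≤ Inn P := by
    intro α hα
    have h1 : (⟨α, hXle hα⟩ : D.autGroup P) ∈ pCore p (D.autGroup P) :=
      le_sSup (show _ ∈ {M : Subgroup (D.autGroup P) | M.Normal ∧ IsPGroup p M} from ⟨hX, hXp⟩)
        (Subgroup.mem_subgroupOf.2 hα)
    rw [← hr.2]
    exact ⟨_, h1, rfl⟩
  by_contra hle
  obtain ⟨x, hxN, hxP⟩ := SetLike.exists_of_lt (lt_inf_normalizer_of_lt (hTp.to_le hAT)
    (lt_of_le_not_ge le_sup_left fun h : A ≤ P => hle (le_sup_right.trans h)))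
  exact hxP (mem_of_conjAut_mem_inn (centralizerIn_le_of_isCentric hc) hPT (hAT hxN.1) hxN.2
    (hXinn (mem_autInducedBy.2 ⟨x, hxN, hxN.2, rfl⟩)))

/-- A subgroup normal in a quasisimple system is central. -/
theorem le_center_of_quasisimple (hS : IsPGroup p S) (hq : F.Quasisimple p) (hQ : F.IsNormal Q) :
    Q ≤ F.center := by
  by_contra hnot
  have hQS := hQ.1
  haveI : Finite Q := finite_of_le hQS
  haveI : Group.IsNilpotent Q := (hS.to_le hQS).isNilpotent
  obtain ⟨n, hn⟩ := (Subgroup.isNilpotent_iff_lowerCentralSeries Q).1 inferInstance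
  set L := fun i : ℕ => Subgroup.lowerCentralSeries Q i with hLdef
  have hL0 : L 0 = Q := by simp [hLdef]
  have hex : ∃ k, ¬ L k ≤ F.center ∧ L (k + 1) ≤ F.center := by
    by_contra hno
    push Not at hno
    have hall : ∀ k, ¬ L k ≤ F.center := fun k => by
      induction k with
      | zero => rwa [hL0]
      | succ k ih => exact hno k ih
    exact hall n (by simp only [hLdef]; rw [hn]; exact bot_le)
  obtain ⟨k, hk, hk1⟩ := hex
  have hLQ : L k ≤ Q := by
    simp only [hLdef]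
    calc Subgroup.lowerCentralSeries Q k ≤ Subgroup.lowerCentralSeries Q 0 :=
          Subgroup.lowerCentralSeries_antitone _ (Nat.zero_le k)
      _ = Q := by simp
  have hLn : F.IsNormal (L k) := isNormal_of_characteristic hQ hLQ (characteristic_lowerCentralSeries Q k)
  have hcomm : ∀ a ∈ L k, ∀ b ∈ L k, a * b * a⁻¹ * b⁻¹ ∈ F.center := fun a ha b hb => hk1 (by
    simp only [hLdef] at ha hb hLQ ⊢
    rw [Subgroup.lowerCentralSeries_succ]
    exact Subgroup.commutator_mem_commutator ha (hLQ hb))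
  obtain ⟨hsat, hhyp, hsimp⟩ := hq
  have hcen := isCentral_center F
  have hR : F.StronglyClosed F.center := stronglyClosed_of_normal (isNormal_of_isCentral hcen)
  set θ := QuotientGroup.mk' ((F.center).subgroupOf S)
  have hθ : KerEq θ F.center := fun s => QuotientGroup.eq_one_iff s
  have hrange : θ.range = (⊤ : Subgroup (S ⧸ (F.center).subgroupOf S)) :=
    MonoidHom.range_eq_top.2 (QuotientGroup.mk'_surjective _)
  set W : Subgroup (S ⧸ (F.center).subgroupOf S) := ⊤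
  set E : FusionSystem W := factorSystem θ hθ hR hrange
  obtain ⟨hEsat, -, hEsimp⟩ := hsimp E (isFactorSystem_factorSystem θ hθ hR hrange)
  set R := imageAlong θ (L k) with hRdef
  have hM := isNormal_sup F hLn (isNormal_of_isCentral hcen)
  have hRmem : ∀ (s : S), θ s ∈ R → (s : Ω) ∈ L k ⊔ F.center := by
    rintro s ⟨r, hr, hre⟩
    have h1 : θ (r⁻¹ * s) = 1 := by rw [map_mul, map_inv, hre, inv_mul_cancel]
    have h2 := mul_mem (Subgroup.mem_sup_left (T := F.center) (Subgroup.mem_subgroupOf.1 hr))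
      (Subgroup.mem_sup_right (S := L k) ((hθ _).1 h1))
    rwa [Subgroup.coe_mul, Subgroup.coe_inv, mul_inv_cancel_left] at h2
  have hRc : ∀ a ∈ R, ∀ b ∈ R, a * b = b * a := by
    rintro _ ⟨a, ha, rfl⟩ _ ⟨b, hb, rfl⟩
    have h1 : θ (a * b * a⁻¹ * b⁻¹) = 1 :=
      (hθ _).2 (hcomm _ (Subgroup.mem_subgroupOf.1 ha) _ (Subgroup.mem_subgroupOf.1 hb))
    rw [map_mul, map_mul, map_mul, map_inv, map_inv] at h1
    calc θ a * θ b = θ a * θ b * (θ a)⁻¹ * (θ b)⁻¹ * (θ b * θ a) := by group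
      _ = θ b * θ a := by rw [h1, one_mul]
  obtain ⟨⟨-, hmor⟩, -, hsurj⟩ :=
    isSurjectiveMorphism_of_factor hS hsat hR (isFactorSystem_factorSystem θ hθ hR hrange)
  have hRsc : E.StronglyClosed R := by
    refine stronglyClosed_iff.2 ⟨le_top, fun P' f hP' hf x hx => ?_⟩
    obtain ⟨φ', hφ', hφ'e⟩ := hf
    obtain ⟨φ, hφ, hle, hφS, hmem, hind⟩ := hsurj P' le_top φ' hφ'
    obtain ⟨s, rfl⟩ := QuotientGroup.mk'_surjective ((F.center).subgroupOf S) x
    have hsP : (s : Ω) ∈ preimageAlong θ P' := mem_preimageAlong.2 ⟨s.2, hx⟩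
    have h1 : φ ⟨s, hsP⟩ ∈ L k ⊔ F.center := by
      have := mem_of_normal hM (isMap_of_mem hφ) hsP (hRmem s (hP' hx))
      rwa [homFun_mem φ hsP] at this
    have h2 := hind ⟨s, hsP⟩
    rw [← hφ'e ⟨_, hx⟩]
    show φ' ⟨θ s, hx⟩ ∈ R
    rw [show (⟨θ s, hx⟩ : P') = ⟨θ ⟨(s : Ω), hle hsP⟩, hmem ⟨s, hsP⟩⟩ from Subtype.ext rfl, h2]
    set M : Subgroup Ω := (R.comap θ).map S.subtype with hMdef
    have hML : L k ⊔ F.center ≤ M := sup_le
      (fun y hy => ⟨⟨y, hLn.1 hy⟩, Subgroup.mem_map_of_mem θ (Subgroup.mem_subgroupOf.2 hy), rfl⟩)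
      (fun y hy => ⟨⟨y, hcen.1 hy⟩, by
        show θ ⟨y, hcen.1 hy⟩ ∈ R
        rw [(hθ ⟨y, hcen.1 hy⟩).2 hy]
        exact R.one_mem, rfl⟩)
    obtain ⟨⟨y, hy⟩, hyR, hye⟩ := hML h1
    have hye' : y = φ ⟨s, hsP⟩ := hye
    subst hye'
    exact hyR
  have hWp : IsPGroup p W := (hS.to_quotient _).to_subgroup W
  haveI : Finite W := inferInstance
  haveI : Finite R := inferInstance
  have hRn : E.IsNormal R := isNormal_of_comm hWp hEsat hRsc hRc
  have hautI : ∀ α ∈ (innerFusionSystem R).autGroup R, α = 1 := fun α hα => by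
    refine aut_ext fun x hx => ?_
    obtain ⟨-, a, ha, he⟩ := isMap_inner_iff.1 ((mem_autGroup_iff le_rfl).1 hα)
    rw [he x hx, hRc a ha x hx, mul_inv_cancel_right, autMap_apply _ hx]
    rfl
  have hinner : (innerFusionSystem R).IsNormalIn E p := by
    have hsubI : (innerFusionSystem R).IsSubsystemOf E := fun P φ hφ => by
      obtain ⟨hP, a, ha, he⟩ := isMap_inner_iff.1 (isMap_of_mem hφ)
      exact mem_hom_of_isMap (isMap_conj E le_top (Subgroup.mem_top a)) fun x => by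
        rw [← homFun_coe φ x, he x x.2, conjMap_apply]
    refine ⟨⟨S5148.inner_isSaturated hRc, hEsat, hsubI, hRsc, ?_, ?_⟩, ?_⟩
    · intro P hPT φ hφ α _
      refine ⟨conjHom _ 1, (innerFusionSystem R).conj_mem (fun y hy => ?_) R.one_mem,
        fun x hφx hαx => ?_⟩
      · obtain ⟨w, -, rfl⟩ := hy
        exact (α w).2
      obtain ⟨-, a, ha, he⟩ := hφ
      have h1 : φ x = x := by rw [he x, hRc a ha x (hPT x.2), mul_inv_cancel_right]
      rw [show (⟨φ x, hφx⟩ : R) = ⟨x, hPT x.2⟩ from Subtype.ext h1]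
      simp only [conjHom, map_one]
      rfl
    · intro P hP φ hφ
      obtain ⟨g, hg, hge, hgR⟩ := (Cfsg.Agent.FusionSys.isNormal_iff.1 hRn).2 P _ (isMap_of_mem hφ)
      obtain ⟨α, hα, hαg⟩ :=
        (⟨hg.mono le_sup_right, hgR⟩ : IsIso E R R g).exists_aut
      refine ⟨α, hα, conjHom P 1, (innerFusionSystem R).conj_mem hP R.one_mem, fun x hx => ?_⟩
      rw [← autMap_apply α hx]
      simp only [conjHom, MonoidHom.comp_apply, Subgroup.coe_subtype, MulEquiv.coe_toMonoidHom,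
        MulAut.conj_apply, inv_one, mul_one, one_mul]
      rw [hαg _ (hP x.2), hge _ x.2, homFun_coe]
    · intro α hα
      refine ⟨1, one_mem _, fun x => ?_, fun c _ => ?_⟩
      · rw [hautI α hα]; rfl
      · simp
  rcases hEsimp R _ hinner with h | ⟨hRW, h⟩
  · apply hk
    intro y hy
    have : θ ⟨y, hLn.1 hy⟩ ∈ R := Subgroup.mem_map_of_mem θ (Subgroup.mem_subgroupOf.2 hy)
    rw [h, Subgroup.mem_bot] at this
    exact (hθ _).1 this
  · have habq : ∀ a ∈ W, ∀ b ∈ W, a * b = b * a := hRW ▸ hRc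
    have hSle : S ≤ F.center := by
      intro y hy
      rw [← hhyp] at hy
      refine (Subgroup.closure_le _).2 ?_ hy
      rintro _ ⟨P, α, x, hP, -, rfl⟩
      obtain ⟨φ, hφ, hφα⟩ := (mem_autGroup_iff hP).1 α.2
      obtain ⟨φ', hφ', hle, hφS, hmem, hind⟩ := hmor P φ hφ
      rw [← h] at hφ'
      obtain ⟨-, a, ha, he⟩ := hφ'
      have h1 : θ ⟨φ x, hφS x⟩ = θ ⟨(x : Ω), hle x.2⟩ := by
        rw [← hind x, he]
        show a * θ ⟨(x : Ω), hle x.2⟩ * a⁻¹ = _
        rw [habq a (hRW ▸ ha) _ trivial, mul_inv_cancel_right]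
      have h2 : θ ((⟨(x : Ω), hle x.2⟩ : S)⁻¹ * ⟨φ x, hφS x⟩) = 1 := by
        rw [map_mul, map_inv, h1, inv_mul_cancel]
      have h3 := (hθ _).1 h2
      rw [Subgroup.coe_mul, Subgroup.coe_inv] at h3
      rw [← autMap_coe, ← hφα x]
      exact h3
    refine S5148.main hS ⟨hsat, hhyp, hsimp⟩ ⟨⟨fun a b => Subtype.ext ?_⟩⟩
    exact (Subgroup.mem_centralizer_iff.1 (F.center_le_centralizer (hSle a.2)) b b.2).symm

theorem subnormal_sub {C : FusionSystem U} {D : FusionSystem S} (h : C.IsSubnormalIn D p) :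
    C.IsSubsystemOf D := by
  induction h with
  | refl F p => exact fun P => Set.Subset.rfl
  | step _ hn ih => exact fun P => (ih P).trans (hn.1.2.2.1 P)

/-- `f` extends to `P Q` fixing `Q`. -/
def Fixes (F : FusionSystem S) (Q P : Subgroup Ω) (f : Ω → Ω) : Prop :=
  ∃ g, IsMap F (P ⊔ Q) g ∧ (∀ x ∈ P, g x = f x) ∧ ∀ q ∈ Q, g q = q

theorem fixes_step (hS : IsPGroup p S) (hF : F.IsSaturated p) {D : FusionSystem T}
    (hD : D.IsNormalIn F p) {C : FusionSystem U} (hC : C.IsSubnormalIn D p) (hCq : C.Quasisimple p)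
    (hQ : F.IsNormal Q) (ih : ∀ P f, IsMap C P f → Fixes D (Q ⊓ T) P f)
    {P : Subgroup Ω} {f : Ω → Ω} (hf : IsMap C P f) : Fixes F Q P f := by
  have hDsub : D.IsSubsystemOf F := hD.1.2.2.1
  have hT := hD.1.2.2.2.1
  haveI : Finite T := finite_of_le hT.1
  have hCD := subnormal_sub hC
  have hUT : U ≤ T := (isMap_of_sub hCD (isMap_id C le_rfl)).le
  have hUS : U ≤ S := hUT.trans hT.1
  haveI : Finite U := finite_of_le hUS
  have hUp : IsPGroup p U := hS.to_le hUS
  have hQS := hQ.1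
  haveI : Finite Q := finite_of_le hQS
  -- the automorphisms extending while fixing `Q`
  have hFmul : ∀ {R : Subgroup Ω} {a b : MulAut R}, Fixes F Q R (autMap a) → Fixes F Q R (autMap b) →
      Fixes F Q R (autMap (a * b)) := by
    rintro R a b ⟨g₁, hg₁, he₁, hf₁⟩ ⟨g₂, hg₂, he₂, hf₂⟩
    refine ⟨g₁ ∘ g₂, hg₂.comp hg₁ fun y hy => hg₂.mapsTo_sup
      (fun x hx => Subgroup.mem_sup_left ((he₂ x hx).symm ▸ autMap_mem b hx))
      (fun q hq => Subgroup.mem_sup_right ((hf₂ q hq).symm ▸ hq)) hy, fun x hx => ?_, fun q hq => ?_⟩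
    · rw [Function.comp_apply, he₂ x hx, he₁ _ (autMap_mem b hx), autMap_mul _ _ hx]
    · rw [Function.comp_apply, hf₂ q hq, hf₁ q hq]
  have hFone : ∀ {R : Subgroup Ω}, R ≤ U → Fixes F Q R (autMap (1 : MulAut R)) := fun {R} hR =>
    ⟨id, isMap_id F (sup_le (hR.trans hUS) hQS), fun x hx => (FusionSys.autMap_one hx).symm,
      fun q _ => rfl⟩
  have hFpow : ∀ {R : Subgroup Ω}, R ≤ U → ∀ {a : MulAut R}, Fixes F Q R (autMap a) → ∀ j : ℕ,
      Fixes F Q R (autMap (a ^ j)) := fun {R} hR {a} ha j => by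
    induction j with
    | zero => rw [pow_zero]; exact hFone hR
    | succ j ihj => rw [pow_succ]; exact hFmul ihj ha
  have hprime : ∀ R ≤ U, ∀ α : C.autGroup R, (orderOf α).Coprime p →
      Fixes F Q R (autMap (α : MulAut R)) := by
    intro R hRU α hco
    obtain ⟨g₁, hg₁, he₁, hfix₁⟩ := ih R _ (autGroup_set_subgroup hRU α.2)
    obtain ⟨g, hg, hge, hgq⟩ := NormalExtend.good_of_isMap hS hF hD hQ hg₁
    have hZle : R ⊔ Q ≤ R ⊔ Q ⊓ T ⊔ Q := sup_le (le_sup_left.trans le_sup_left) le_sup_right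
    have hg' : IsMap F (R ⊔ Q) g := hg.mono hZle
    have hgR : ∀ x ∈ R, g x = autMap (α : MulAut R) x := fun x hx =>
      (hge x (Subgroup.mem_sup_left hx)).trans (he₁ x hx)
    have hgQ : ∀ q ∈ Q, g q ∈ Q := fun q hq => mem_of_normal hQ hg' (Subgroup.mem_sup_right hq) hq
    have hz : ∀ q ∈ Q, q⁻¹ * g q ∈ Q ⊓ T := fun q hq =>
      ⟨Q.mul_mem (Q.inv_mem hq) (hgQ q hq), hgq q hq⟩
    have hZS : R ⊔ Q ≤ S := hg'.le
    haveI : Finite (R ⊔ Q : Subgroup Ω) := finite_of_le hZS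
    haveI : Finite R := finite_of_le (hRU.trans hUS)
    obtain ⟨G, hG, hGe⟩ := (isIso_of_mapsTo hg' fun y hy => hg'.mapsTo_sup
      (fun x hx => Subgroup.mem_sup_left ((hgR x hx).symm ▸ autMap_mem _ hx))
      (fun q hq => Subgroup.mem_sup_right (hgQ q hq)) hy).exists_aut
    have hpR : ∀ j : ℕ, ∀ x ∈ R, autMap (G ^ j) x = autMap ((α : MulAut R) ^ j) x := by
      intro j
      induction j with
      | zero =>
        intro x hx
        rw [pow_zero, pow_zero, FusionSys.autMap_one (Subgroup.mem_sup_left hx), FusionSys.autMap_one hx]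
      | succ j ihj =>
        intro x hx
        rw [pow_succ', pow_succ', autMap_mul _ _ (Subgroup.mem_sup_left hx), autMap_mul _ _ hx, ihj x hx,
          hGe _ (Subgroup.mem_sup_left (autMap_mem _ hx)), hgR _ (autMap_mem _ hx)]
    have hpQ : ∀ q ∈ Q, ∀ j : ℕ, autMap (G ^ j) q = q * (q⁻¹ * g q) ^ j := by
      intro q hq j
      have hqZ : q ∈ R ⊔ Q := Subgroup.mem_sup_right hq
      induction j with
      | zero => rw [pow_zero, FusionSys.autMap_one hqZ, pow_zero, mul_one]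
      | succ j ihj =>
        have hzj : (q⁻¹ * g q) ^ j ∈ Q ⊓ T := Subgroup.pow_mem _ (hz q hq) j
        have hzZ : (q⁻¹ * g q) ^ j ∈ R ⊔ Q := Subgroup.mem_sup_right hzj.1
        rw [pow_succ', autMap_mul _ _ hqZ, ihj, hGe _ (mul_mem hqZ hzZ), hg'.map_mul hqZ hzZ,
          hge _ (Subgroup.mem_sup_right hzj), hfix₁ _ hzj, pow_succ',
          ← mul_assoc q, mul_inv_cancel_left]
    set N := Nat.card Q with hN
    have hfixN : Fixes F Q R (autMap ((α : MulAut R) ^ N)) := by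
      refine ⟨autMap (G ^ N), (mem_autGroup_iff hZS).1 (pow_mem hG _), hpR N, fun q hq => ?_⟩
      rw [hpQ q hq N, show (q⁻¹ * g q) ^ N = 1 from congrArg Subtype.val
        (pow_card_eq_one' (x := (⟨_, (hz q hq).1⟩ : Q))), mul_one]
    haveI := finite_autGroup C hRU
    have hmpos : 0 < orderOf α := orderOf_pos α
    obtain ⟨a, ha⟩ := IsPGroup.iff_card.1 (hS.to_le hQS)
    have he1 : α ^ N ^ Nat.totient (orderOf α) = α ^ 1 :=
      pow_eq_pow_iff_modEq.2 (Nat.ModEq.pow_totient (by rw [hN, ha]; exact hco.symm.pow_left a))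
    obtain ⟨e', he'⟩ : ∃ e', N ^ Nat.totient (orderOf α) = N * e' :=
      dvd_pow_self _ (Nat.totient_pos.2 hmpos).ne'
    have h4 := hFpow hRU hfixN e'
    rw [← pow_mul, ← he', show (α : MulAut R) ^ N ^ Nat.totient (orderOf α) = (α : MulAut R) by
      rw [← SubgroupClass.coe_pow, he1, pow_one]] at h4
    exact h4
  let fixAut : ∀ R ≤ U, Subgroup (C.autGroup R) := fun R hR =>
    { carrier := {α | Fixes F Q R (autMap (α : MulAut R))}
      one_mem' := hFone hR
      mul_mem' := fun ha hb => hFmul ha hb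
      inv_mem' := fun {a} ha => by
        haveI := finite_autGroup C hR
        have h : a⁻¹ = a ^ (orderOf a - 1) := inv_eq_of_mul_eq_one_right (by
          rw [← pow_succ', Nat.sub_add_cancel (orderOf_pos a), pow_orderOf_eq_one])
        show Fixes F Q R (autMap ((a⁻¹ : C.autGroup R) : MulAut R))
        rw [h, SubgroupClass.coe_pow]
        exact hFpow hR ha _ }
  have hres : ∀ R (hR : R ≤ U), pResidual p (C.autGroup R) ≤ fixAut R hR := fun R hR =>
    Cores.pResidual_le fun g hg => hprime R hR g hg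
  have hcent : U ≤ centralizerIn S Q := by
    intro y hy
    rw [← hCq.2.1] at hy
    refine (Subgroup.closure_le _).2 ?_ hy
    rintro _ ⟨R, α, x, hR, hα, rfl⟩
    obtain ⟨g, hg, hge, hgQ⟩ : Fixes F Q R (autMap (α : MulAut R)) := hres R hR hα
    rw [← autMap_coe]
    have hxS : (x : Ω) ∈ S := hUS (hR x.2)
    have hαS : autMap (α : MulAut R) x ∈ S := hUS (hR (autMap_mem _ x.2))
    refine FusionSys.mem_centralizerIn.2 ⟨S.mul_mem (S.inv_mem hxS) hαS, fun q hq => ?_⟩
    have hq' : (x : Ω) * q * (x : Ω)⁻¹ ∈ Q := mem_of_normal hQ (isMap_conj F hQS hxS) hq hq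
    have h3 := hg.map_conj (Subgroup.mem_sup_left x.2) (Subgroup.mem_sup_right hq)
    rw [hgQ _ hq', hgQ q hq, hge _ x.2] at h3
    calc q * ((x : Ω)⁻¹ * autMap (α : MulAut R) x)
        = (x : Ω)⁻¹ * ((x : Ω) * q * (x : Ω)⁻¹) * autMap (α : MulAut R) x := by group
      _ = _ := by rw [h3]; group
  have hconj : ∀ R ≤ U, ∀ a ∈ U, Fixes F Q R (conjMap a) := fun R hR a ha =>
    ⟨conjMap a, isMap_conj F (sup_le (hR.trans hUS) hQS) (hUS ha), fun _ _ => rfl, fun q hq => by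
      rw [conjMap_apply, ← (FusionSys.mem_centralizerIn.1 (hcent ha)).2 q hq, mul_inv_cancel_right]⟩
  let G : FusionSystem U := subSys C (fun P f => Fixes F Q P f)
    (fun P f g ⟨k, hk, hke, hkq⟩ he => ⟨k, hk, fun x hx => (hke x hx).trans (he x hx).symm, hkq⟩)
    (fun P a hP ha => hconj P hP a ha)
    (fun P R f g _ _ hm ⟨k₁, hk₁, he₁, hf₁⟩ ⟨k₂, hk₂, he₂, hf₂⟩ =>
      ⟨k₂ ∘ k₁, hk₁.comp hk₂ fun y hy => hk₁.mapsTo_sup
        (fun x hx => Subgroup.mem_sup_left ((he₁ x hx).symm ▸ hm x hx))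
        (fun q hq => Subgroup.mem_sup_right ((hf₁ q hq).symm ▸ hq)) hy,
        fun x hx => by rw [Function.comp_apply, he₁ x hx, he₂ _ (hm x hx), Function.comp_apply],
        fun q hq => by rw [Function.comp_apply, hf₁ q hq, hf₂ q hq]⟩)
    (fun P R f g hi _ hgf ⟨k, hk, he, hkq⟩ => by
      obtain ⟨k', hk', hk'e⟩ := hk.exists_inv
      have hle : R ⊔ Q ≤ imgSub k (P ⊔ Q) := sup_le
        (fun y hy => by
          obtain ⟨x, hx, rfl⟩ := hi.exists_preimage hy
          exact hk.mem_imgSub.2 ⟨x, Subgroup.mem_sup_left hx, he x hx⟩)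
        (fun y hy => hk.mem_imgSub.2 ⟨y, Subgroup.mem_sup_right hy, hkq y hy⟩)
      refine ⟨k', hk'.mono hle, fun y hy => ?_, fun y hy => ?_⟩
      · obtain ⟨x, hx, rfl⟩ := hi.exists_preimage hy
        rw [← he x hx, hk'e x (Subgroup.mem_sup_left hx), he x hx, hgf x hx]
      · nth_rw 1 [← hkq y hy]
        exact hk'e y (Subgroup.mem_sup_right hy))
  have hle : C ≤ G := le_of_autGroup_fullyNormalized hUp hCq.1 fun R hRn _ α hα => by
    have hRU := hRn.1
    haveI := finite_autGroup C hRU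
    obtain ⟨-, Sy, hSy⟩ := isFullyAutomized_of_isFullyNormalized hUp hCq.1 hRn
    have h2 : (Sy : Subgroup (C.autGroup R)) ≤ fixAut R hRU := by
      intro β hβ
      rw [hSy] at hβ
      obtain ⟨s, hs, hsn, hse⟩ := mem_autInducedBy.1 (Subgroup.mem_subgroupOf.1 hβ)
      obtain ⟨g, hg, hge, hgQ⟩ := hconj R hRU s hs
      exact ⟨g, hg, fun x hx => by
        rw [hge x hx, show (β : MulAut R) = conjAut hsn from hse, autMap_conjAut hsn hx], hgQ⟩
    obtain ⟨k, hk⟩ := Cores.exists_index_pResidual_eq_pow (G := C.autGroup R) (p := p)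
    obtain ⟨j, -, hj⟩ := (Nat.dvd_prime_pow (Fact.out : p.Prime)).1
      (hk ▸ Subgroup.index_dvd_of_le (hres R hRU))
    have htop : fixAut R hRU = ⊤ := by
      rw [← Subgroup.index_eq_one, hj]
      rcases Nat.eq_zero_or_pos j with rfl | hjpos
      · rw [pow_zero]
      · exact absurd ((dvd_pow_self p hjpos.ne').trans (hj ▸ Subgroup.index_dvd_of_le h2))
          Sy.not_dvd_index
    have hfix : Fixes F Q R (autMap α) := htop.ge (Subgroup.mem_top (⟨α, hα⟩ : C.autGroup R))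
    obtain ⟨φ, hφ, hφe⟩ := (mem_autGroup_iff hRU).1 hα
    obtain ⟨g, hg, hge, hgQ⟩ := hfix
    exact mem_autGroup_of_isMap ⟨φ, ⟨hφ, g, hg, fun x hx => by
      rw [hge x hx, homFun_mem φ hx]; exact (hφe ⟨x, hx⟩).symm, hgQ⟩, hφe⟩
  obtain ⟨φ, ⟨-, g, hg, hge, hgQ⟩, hφe⟩ := le_iff_isMap.1 hle P f hf
  exact ⟨g, hg, fun x hx => by rw [hge x hx, homFun_mem φ hx]; exact hφe ⟨x, hx⟩, hgQ⟩

theorem fixes_aux {Ω : Type u} [Group Ω] {U S : Subgroup Ω} {C : FusionSystem U} {F : FusionSystem S}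
    {p : ℕ} (hC : C.IsSubnormalIn F p) :
    Finite S → Fact p.Prime → IsPGroup p S → F.IsSaturated p → C.Quasisimple p → ∀ Q, F.IsNormal Q →
      ∀ P f, IsMap C P f → Fixes F Q P f := by
  induction hC with
  | refl F p =>
    intro hfin hp hS hF hq Q hQ P f hf
    haveI := hfin; haveI := hp
    obtain ⟨g, hg, hge, hgQ⟩ := (Cfsg.Agent.FusionSys.isCentral_iff.1 (isCentral_center F)).2 P f hf
    have hle := le_center_of_quasisimple hS hq hQ
    exact ⟨g, hg.mono (sup_le_sup_left hle P), hge, fun q hq' => hgQ q (hle hq')⟩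
  | step hCD hn ih =>
    intro hfin hp hS hF hq Q hQ P f hf
    haveI := hfin; haveI := hp
    haveI hfinT := finite_of_le hn.1.2.2.2.1.1
    have hQ1 := isNormal_inf hS hn.1.1 hn.1.2.2.1 hn.1.2.2.2.1 hQ
    exact fixes_step hS hF hn hCD hq hQ
      (fun P f hf => ih hfinT hp (hS.to_le hn.1.2.2.2.1.1) hn.1.1 hq _ hQ1 P f hf) hf

/-- Every map of a component extends fixing any normal subgroup pointwise. -/
theorem fixes {C : FusionSystem U} (hC : C.IsSubnormalIn F p) (hS : IsPGroup p S)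
    (hF : F.IsSaturated p) (hq : C.Quasisimple p) (Q : Subgroup Ω) (hQ : F.IsNormal Q) :
    ∀ P f, IsMap C P f → Fixes F Q P f :=
  fixes_aux hC inferInstance inferInstance hS hF hq Q hQ

/-- A component lies in the centralizer of every normal subgroup. -/
theorem le_centralizerIn {C : FusionSystem U} (hC : C.IsSubnormalIn F p) (hS : IsPGroup p S)
    (hF : F.IsSaturated p) (hq : C.Quasisimple p) (hQ : F.IsNormal Q) : U ≤ centralizerIn S Q := by
  have hCsub := subnormal_sub hC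
  have hUS : U ≤ S := (isMap_of_sub hCsub (isMap_id C le_rfl)).le
  intro y hy
  rw [← hq.2.1] at hy
  refine (Subgroup.closure_le _).2 ?_ hy
  rintro _ ⟨R, α, x, hR, -, rfl⟩
  obtain ⟨g, hg, hge, hgQ⟩ := fixes hC hS hF hq Q hQ R _ (autGroup_set_subgroup hR α.2)
  rw [← autMap_coe]
  have hxS : (x : Ω) ∈ S := hUS (hR x.2)
  have hαS : autMap (α : MulAut R) x ∈ S := hUS (hR (autMap_mem _ x.2))
  refine FusionSys.mem_centralizerIn.2 ⟨S.mul_mem (S.inv_mem hxS) hαS, fun q hq' => ?_⟩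
  have hq'' : (x : Ω) * q * (x : Ω)⁻¹ ∈ Q := mem_of_normal hQ (isMap_conj F hQ.1 hxS) hq' hq'
  have h3 := hg.map_conj (Subgroup.mem_sup_left x.2) (Subgroup.mem_sup_right hq')
  rw [hgQ _ hq'', hgQ q hq', hge _ x.2] at h3
  calc q * ((x : Ω)⁻¹ * autMap (α : MulAut R) x)
      = (x : Ω)⁻¹ * ((x : Ω) * q * (x : Ω)⁻¹) * autMap (α : MulAut R) x := by group
    _ = _ := by rw [h3]; group

end Cfsg.Agent.H89.ComponentFix
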