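import Cfsg.Agent.H89.Lift.Main
import Cfsg.Agent.Coprime.Centralize
import Mathlib.GroupTheory.SemidirectProduct

/-!
Centralizer systems in constrained systems are constrained; the dichotomy between characteristic `p`-type and
component type.
-/

set_option autoImplicit false
set_option linter.style.haveILetI false
set_option linter.unusedSectionVars false

namespace Cfsg.Agent.H89.Dichotomy

open Cfsg Cfsg.FusionSystem Cfsg.Agent.FusionSys Cfsg.Agent.H91.CentFocal
open Cfsg.FusionSystem (centralizerIn normalizerIn)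
open Cfsg.Agent.H89.Lift (eq_of_isConj_normal core_le)

universe u

variable {p : ℕ} [Fact p.Prime]

/-- An automorphism of order prime to `p` commuting with a `p`-group of automorphisms of a `p`-group and fixing
its fixed points is trivial. -/
theorem eq_one_of_AxB {Q : Type*} [Group Q] [Finite Q] (hQ : IsPGroup p Q) {P : Subgroup (MulAut Q)}
    (hP : IsPGroup p P) {β : MulAut Q} (hβ : (orderOf β).Coprime p) (hc : ∀ u ∈ P, u * β = β * u)
    (h : ∀ x : Q, (∀ u ∈ P, u x = x) → β x = x) : β = 1 := by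
  haveI : Finite (MulAut Q) :=
    Finite.of_injective (fun e : MulAut Q => (e : Q → Q)) DFunLike.coe_injective
  let φ : MulAut Q →* MulAut Q := MonoidHom.id _
  haveI : Finite (SemidirectProduct Q (MulAut Q) φ) :=
    Finite.of_equiv _ SemidirectProduct.equivProd.symm
  let inr := (SemidirectProduct.inr : MulAut Q →* SemidirectProduct Q (MulAut Q) φ)
  let inl := (SemidirectProduct.inl : Q →* SemidirectProduct Q (MulAut Q) φ)
  have hinr : Function.Injective inr := SemidirectProduct.inr_injective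
  have hinl : Function.Injective inl := SemidirectProduct.inl_injective
  have hact : ∀ (a : MulAut Q) (x : Q), inr a * inl x * (inr a)⁻¹ = inl (a x) := fun a x => by
    have e : inl (φ a x) = inr a * inl x * inr a⁻¹ := SemidirectProduct.inl_aut a x
    rw [map_inv] at e
    exact e.symm
  have hnorm : ∀ a : MulAut Q, inr a ∈ Subgroup.normalizer ((inl.range : Subgroup _) : Set _) := fun a => by
    refine Subgroup.mem_normalizer_iff.2 fun y => ⟨?_, fun hy => ?_⟩
    · rintro ⟨x, rfl⟩
      exact ⟨a x, (hact a x).symm⟩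
    · obtain ⟨x, hx⟩ := hy
      refine ⟨a⁻¹ x, ?_⟩
      rw [← hact, hx, map_inv]
      group
  have key := Coprime.thompson_AxB (p := p) (P := P.map inr) (Q := Subgroup.zpowers (inr β))
    (hP.map inr) (by rwa [Nat.card_zpowers, orderOf_injective inr hinr])
    (by
      rintro _ ⟨u, hu, rfl⟩
      refine Subgroup.mem_centralizer_iff.2 ?_
      rintro _ ⟨n, rfl⟩
      show inr β ^ n * inr u = inr u * inr β ^ n
      rw [← map_zpow, ← map_mul, ← map_mul]
      exact congrArg inr ((Commute.zpow_right (hc u hu) n).eq.symm))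
    inl.range (hQ.of_surjective inl.rangeRestrict inl.rangeRestrict_surjective)
    (by rintro _ ⟨u, -, rfl⟩; exact hnorm u)
    (by rw [Subgroup.zpowers_le]; exact hnorm β)
    (by
      rintro _ ⟨⟨x, rfl⟩, hx⟩
      have hfix : β x = x := h x fun u hu => hinl (by
        have e := Subgroup.mem_centralizer_iff.1 hx (inr u) ⟨u, hu, rfl⟩
        rw [← hact, e, mul_inv_cancel_right])
      refine Subgroup.mem_centralizer_iff.2 ?_
      rintro _ ⟨n, rfl⟩
      have e : Commute (inr β) (inl x) := by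
        have e1 := hact β x
        rw [hfix] at e1
        exact mul_inv_eq_iff_eq_mul.1 e1
      exact (e.zpow_left n).eq)
  refine MulEquiv.ext fun x => hinl ?_
  have e := Subgroup.mem_centralizer_iff.1 (key (Subgroup.mem_zpowers (inr β))) (inl x) ⟨x, rfl⟩
  rw [← hact, ← e, mul_inv_cancel_right]
  rfl

variable {Ω : Type u} [Group Ω] {S : Subgroup Ω} [Finite S] {F : FusionSystem S}

/-- The centralizer system of a fully centralized subgroup in a constrained system is constrained. -/
theorem centSys_constrained (hS : IsPGroup p S) (hF : F.IsConstrained p) {U : Subgroup Ω}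
    (hU : F.IsFullyCentralized U) : (H91.centSys F hU.1).IsConstrained p := by
  obtain ⟨hFs, Q, hQn, hQc⟩ := hF
  set T := centralizerIn S U with hT
  have hTS : T ≤ S := centralizerIn_le
  have hQS := hQn.1
  haveI : Finite T := finite_of_le hTS
  haveI : Finite Q := finite_of_le hQS
  haveI : Finite U := finite_of_le hU.1
  have hTp : IsPGroup p T := hS.to_le hTS
  set C := H91.centSys F hU.1 with hC
  have hCs : C.IsSaturated p :=
    isSaturated_centralizer hS hFs hU (H91.isCentralizerSystem_centSys F hU.1)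
  set R := Q ⊓ T with hR
  haveI : Finite R := finite_of_le (inf_le_left.trans hQS)
  have hRn : C.IsNormal R := by
    refine Cfsg.Agent.FusionSys.isNormal_iff.2 ⟨inf_le_right, fun P f hf => ?_⟩
    obtain ⟨hP, hfT, e, he, hee, heU⟩ := CentralizerNormal.isMap_centSys.1 hf
    obtain ⟨g, hg, hge, hgQ⟩ := (Cfsg.Agent.FusionSys.isNormal_iff.1 hQn).2 _ e he
    have hgU : ∀ x ∈ U, g x = x := fun x hx => (hge x (Subgroup.mem_sup_right hx)).trans (heU x hx)
    have hgR : ∀ r ∈ R, g r ∈ R := fun r hr => by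
      refine ⟨hgQ.le ⟨r, hr.1, rfl⟩, FusionSys.mem_centralizerIn.2
        ⟨hg.mem_S (Subgroup.mem_sup_right hr.1), fun x hx => ?_⟩⟩
      have hxW : x ∈ P ⊔ U ⊔ Q := Subgroup.mem_sup_left (Subgroup.mem_sup_right hx)
      rw [← hgU x hx, ← hg.map_mul hxW (Subgroup.mem_sup_right hr.1),
        ← hg.map_mul (Subgroup.mem_sup_right hr.1) hxW, (FusionSys.mem_centralizerIn.1 hr.2).2 x hx]
    have hgP : ∀ x ∈ P, g x = f x := fun x hx => (hge x (Subgroup.mem_sup_left hx)).trans (hee x hx)
    have hW : P ⊔ R ⊔ U ≤ P ⊔ U ⊔ Q := sup_le (sup_le (le_sup_left.trans le_sup_left)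
      (inf_le_left.trans le_sup_right)) (le_sup_right.trans le_sup_left)
    have hPR : P ⊔ R ≤ P ⊔ U ⊔ Q := le_sup_left.trans hW
    have hm : IsMap C (P ⊔ R) g := CentralizerNormal.isMap_centSys.2 ⟨sup_le hP inf_le_right,
      fun x hx => (hg.mono hPR).mapsTo_sup (fun y hy => (hgP y hy).symm ▸ hfT y hy)
        (fun r hr => (hgR r hr).2) hx, g, hg.mono hW, fun _ _ => rfl, hgU⟩
    exact ⟨g, hm, hgP, (hm.mono le_sup_right).image_eq_of_mapsTo hgR⟩
  have hD := CentralizerNormal.isNormalIn hTp hCs hRn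
  let T1 : Subgroup Ω := centralizerIn T R
  let D : FusionSystem T1 := H91.centSys C hRn.1
  haveI : Finite T1 := finite_of_le (centralizerIn_le : T1 ≤ T)
  have hT1n : D.IsNormal T1 := by
    refine Lift.isNormal_self_of_pGroup (hTp.to_le centralizerIn_le) hD.1.1 fun P hP => ?_
    haveI := finite_autGroup D hP
    haveI : Finite P := finite_of_le hP
    refine H90.isPGroup_of_coprime_eq_one fun α hα => Subtype.ext (aut_ext fun x hx => ?_)
    rw [Subgroup.coe_one, FusionSys.autMap_one hx]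
    obtain ⟨-, -, g1, hg1, hg1e, hg1R⟩ := CentralizerNormal.isMap_centSys.1 ((mem_autGroup_iff hP).1 α.2)
    obtain ⟨-, -, g2, hg2, hg2e, hg2U⟩ := CentralizerNormal.isMap_centSys.1 hg1
    obtain ⟨g3, hg3, hg3e, hg3Q⟩ := (Cfsg.Agent.FusionSys.isNormal_iff.1 hQn).2 _ g2 hg2
    set W := P ⊔ R ⊔ U ⊔ Q with hW
    have h3P : ∀ y ∈ P, g3 y = autMap (α : MulAut P) y := fun y hy => by
      rw [hg3e y (Subgroup.mem_sup_left (Subgroup.mem_sup_left hy)), hg2e y (Subgroup.mem_sup_left hy),
        hg1e y hy]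
    have h3R : ∀ y ∈ R, g3 y = y := fun y hy => by
      rw [hg3e y (Subgroup.mem_sup_left (Subgroup.mem_sup_right hy)), hg2e y (Subgroup.mem_sup_right hy),
        hg1R y hy]
    have h3U : ∀ y ∈ U, g3 y = y := fun y hy => by
      rw [hg3e y (Subgroup.mem_sup_right hy), hg2U y hy]
    have hm : ∀ y ∈ W, g3 y ∈ W := fun y hy => hg3.mapsTo_sup (fun z hz =>
      (hg3.mono le_sup_left).mapsTo_sup (fun z hz =>
        ((hg3.mono le_sup_left).mono le_sup_left).mapsTo_sup
          (fun z hz => by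
            rw [h3P z hz]
            exact Subgroup.mem_sup_left (Subgroup.mem_sup_left (Subgroup.mem_sup_left (autMap_mem _ hz))))
          (fun z hz => by
            rw [h3R z hz]
            exact Subgroup.mem_sup_left (Subgroup.mem_sup_left (Subgroup.mem_sup_right hz))) hz)
        (fun z hz => by
          rw [h3U z hz]
          exact Subgroup.mem_sup_left (Subgroup.mem_sup_right hz)) hz)
      (fun z hz => Subgroup.mem_sup_right (hg3Q.le ⟨z, hz, rfl⟩)) hy
    obtain ⟨k, b, hb, hgk, hgkb, hgke⟩ := exists_pPrime_power (p := p) hg3 hm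
    haveI := finite_of_le hg3.le
    haveI := finite_mulAut_of_le hg3.le
    obtain ⟨γ, hγ, hγe⟩ := (isIso_of_mapsTo hgk fun z hz => iterate_mem hm k hz).exists_aut
    have hxW : x ∈ W := Subgroup.mem_sup_left (Subgroup.mem_sup_left (Subgroup.mem_sup_left hx))
    have hP' : ∀ y ∈ P, y ∈ W := fun y hy =>
      Subgroup.mem_sup_left (Subgroup.mem_sup_left (Subgroup.mem_sup_left hy))
    have hγfix : ∀ y ∈ W, g3 y = y → autMap γ y = y := fun y hy he => by
      rw [hγe y hy, hgke y hy 1 (Nat.coprime_one_left p) (by simpa using he), he]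
    have hγP : ∀ y ∈ P, autMap γ y = autMap (α : MulAut P) y := fun y hy => by
      rw [hγe y (hP' y hy), hgke y (hP' y hy) (orderOf α) hα ?_, h3P y hy]
      rw [autMap_pow (α : MulAut P) h3P _ hy, ← SubgroupClass.coe_pow, pow_orderOf_eq_one,
        Subgroup.coe_one, FusionSys.autMap_one hy]
    have hγb : γ ^ b = 1 := aut_ext fun y hy => by
      rw [← autMap_pow γ (fun z hz => (hγe z hz).symm) b hy, hgkb y hy, FusionSys.autMap_one hy]
    have hγco : (orderOf γ).Coprime p := hb.coprime_dvd_left (orderOf_dvd_of_pow_eq_one hγb)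
    have hγm := (isIso_autMap hg3.le hγ).isMap
    have hQW : ∀ q ∈ Q, q ∈ W := fun q hq => Subgroup.mem_sup_right hq
    have hUW : ∀ y ∈ U, y ∈ W := fun y hy => Subgroup.mem_sup_left (Subgroup.mem_sup_right hy)
    have hγQ : ∀ q ∈ Q, autMap γ q ∈ Q := fun q hq => mem_of_normal hQn hγm (hQW q hq) hq
    obtain ⟨β, -, hβe⟩ := (isIso_of_mapsTo (hγm.mono (fun q hq => hQW q hq)) hγQ).exists_aut
    have hUN : ∀ y ∈ U, y ∈ Subgroup.normalizer (Q : Set Ω) := fun y hy =>
      mem_normalizer_of_maps fun q hq => mem_of_normal hQn (isMap_conj F hQS (hU.1 hy)) hq hq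
    have hβ1 : β = 1 := by
      refine eq_one_of_AxB (hS.to_le hQS) ((isPGroup_autInducedBy hS Q).to_le (autInducedBy_mono hU.1))
        (hb.coprime_dvd_left (orderOf_dvd_of_pow_eq_one (aut_ext fun q hq => ?_))) (fun u hu => ?_)
        fun q hq => ?_
      · rw [← autMap_pow β (fun z hz => (hβe z hz).symm) b hq,
          autMap_pow γ (fun z _ => rfl) b (hQW q hq), hγb, FusionSys.autMap_one (hQW q hq),
          FusionSys.autMap_one hq]
      · obtain ⟨y, hy, hyn, rfl⟩ := mem_autInducedBy.1 hu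
        refine aut_ext fun q hq => ?_
        have hyq := (Subgroup.mem_normalizer_iff.1 hyn q).1 hq
        rw [autMap_mul _ _ hq, autMap_mul _ _ hq, autMap_conjAut hyn (autMap_mem _ hq),
          autMap_conjAut hyn hq, hβe q hq, conjMap_apply, conjMap_apply, hβe _ hyq,
          hγm.map_conj (hUW y hy) (hQW q hq), hγfix y (hUW y hy) (h3U y hy)]
      · have hqR : (q : Ω) ∈ R := ⟨q.2, FusionSys.mem_centralizerIn.2 ⟨hQS q.2, fun y hy => by
          have e := congrArg Subtype.val (hq (conjAut (hUN y hy))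
            (mem_autInducedBy.2 ⟨y, hy, hUN y hy, rfl⟩))
          have e2 : autMap (conjAut (hUN y hy)) (q : Ω) = (q : Ω) := (autMap_coe _ q).trans e
          rw [autMap_conjAut (hUN y hy) q.2, conjMap_apply, mul_inv_eq_iff_eq_mul] at e2
          exact e2⟩⟩
        refine Subtype.ext ?_
        rw [← autMap_coe, hβe _ q.2, hγfix _ (hQW _ q.2) (h3R _ hqR)]
    have hfixQ : ∀ q ∈ Q, autMap γ q = q := fun q hq => by
      rw [← hβe q hq, hβ1, FusionSys.autMap_one hq]
    have hzW : x⁻¹ * autMap γ x ∈ W := W.mul_mem (W.inv_mem hxW) (autMap_mem _ hxW)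
    have hzQ : x⁻¹ * autMap γ x ∈ Q := by
      refine centralizerIn_le_of_isCentric hQc (FusionSys.mem_centralizerIn.2
        ⟨hg3.le hzW, fun q hq => ?_⟩)
      have hxS : x ∈ S := hg3.le hxW
      have hxq : x * q * x⁻¹ ∈ Q := mem_of_normal hQn (isMap_conj F hQS hxS) hq hq
      have h3 := hγm.map_conj hxW (hQW q hq)
      rw [hfixQ _ hxq, hfixQ q hq] at h3
      calc q * (x⁻¹ * autMap γ x) = x⁻¹ * (x * q * x⁻¹) * autMap γ x := by group
        _ = _ := by rw [h3]; group
    have hfix := H90.fix_of_fix_diff (hS.to_le hg3.le) γ hγco ⟨x, hxW⟩ (Subtype.ext (by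
      rw [← autMap_coe γ]
      have e1 : ((((⟨x, hxW⟩ : W))⁻¹ * γ ⟨x, hxW⟩ : W) : Ω) = x⁻¹ * autMap γ x := by
        rw [autMap_apply γ hxW]
        rfl
      rw [e1, hfixQ _ hzQ]))
    rw [← hγP x hx, autMap_apply γ hxW, hfix]
  refine ⟨hCs, C.core, isNormal_core C, (isNormal_core C).1, fun V hV => ?_⟩
  rw [eq_of_isConj_normal (isNormal_core C) hV]
  intro c hc
  obtain ⟨hcT, hcc⟩ := FusionSys.mem_centralizerIn.1 hc
  exact ((le_core D hT1n).trans (core_le hTp hD))
    (FusionSys.mem_centralizerIn.2 ⟨hcT, fun r hr => hcc r (le_core C hRn hr)⟩)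

/-- Constrainedness passes through an isomorphism of systems. -/
theorem constrained_of_maps {T T' : Subgroup Ω} [Finite T] [Finite T'] {C : FusionSystem T}
    {C' : FusionSystem T'} (hC : C.IsSaturated p) {V : Subgroup Ω} {g k : Ω → Ω} (hg : IsMap F V g)
    (hTV : T ≤ V) (himg : imgSub g T = T') (hkg : ∀ x ∈ V, k (g x) = x)
    (h1 : ∀ P f, IsMap C P f → IsMap C' (imgSub g P) (g ∘ (f ∘ k)))
    (h2 : ∀ P f, P ≤ T → IsMap C' (imgSub g P) f → IsMap C P (k ∘ (f ∘ g)))
    (hc : C'.IsConstrained p) : C.IsConstrained p := by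
  obtain ⟨-, Q', hQn, hQc⟩ := hc
  have hgT := hg.mono hTV
  have hi : IsIso F T T' g := himg ▸ hgT.isIso
  obtain ⟨k', hk', hk'g, -⟩ := hi.exists_symm
  have hkk : ∀ y ∈ T', k y = k' y := fun y hy => by
    obtain ⟨x, hx, rfl⟩ := hi.exists_preimage hy
    rw [hkg x (hTV hx), hk'g x hx]
  have hkm : IsMap F T' k := hk'.isMap.congr hkk
  set R := imgSub k Q' with hR
  have hQT := hQn.1
  have hRT : R ≤ T := fun y hy => by
    obtain ⟨x, hx, rfl⟩ := (hkm.mono hQT).mem_imgSub.1 hy
    obtain ⟨z, hz, rfl⟩ := hi.exists_preimage (hQT hx)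
    rwa [hkg z (hTV hz)]
  have hgR : ∀ x ∈ R, g x ∈ Q' := fun y hy => by
    obtain ⟨x, hx, rfl⟩ := (hkm.mono hQT).mem_imgSub.1 hy
    obtain ⟨z, hz, rfl⟩ := hi.exists_preimage (hQT hx)
    rwa [hkg z (hTV hz)]
  have hmemR : ∀ x ∈ T, g x ∈ Q' → x ∈ R := fun x hx h =>
    (hkm.mono hQT).mem_imgSub.2 ⟨g x, h, hkg x (hTV hx)⟩
  haveI : Finite R := finite_of_le hRT
  have hgimg : ∀ {P : Subgroup Ω}, P ≤ T → ∀ x ∈ P, g x ∈ imgSub g P := fun {P} hP x hx =>
    (hgT.mono hP).mem_imgSub.2 ⟨x, hx, rfl⟩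
  have hRn : C.IsNormal R := by
    refine Cfsg.Agent.FusionSys.isNormal_iff.2 ⟨hRT, fun P f hf => ?_⟩
    have hP := hf.le
    obtain ⟨e, he, hee, heQ⟩ := (Cfsg.Agent.FusionSys.isNormal_iff.1 hQn).2 _ _ (h1 P f hf)
    have hPR : P ⊔ R ≤ T := sup_le hP hRT
    have hle : imgSub g (P ⊔ R) ≤ imgSub g P ⊔ Q' := fun y hy => by
      obtain ⟨x, hx, rfl⟩ := (hgT.mono hPR).mem_imgSub.1 hy
      exact (hgT.mono hPR).mapsTo_sup (fun z hz => Subgroup.mem_sup_left (hgimg hP z hz))
        (fun z hz => Subgroup.mem_sup_right (hgR z hz)) hx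
    have hm := h2 _ _ hPR (he.mono hle)
    refine ⟨k ∘ (e ∘ g), hm, fun x hx => ?_, (hm.mono le_sup_right).image_eq_of_mapsTo fun r hr => ?_⟩
    · show k (e (g x)) = f x
      rw [hee _ (hgimg hP x hx)]
      show k (g (f (k (g x)))) = f x
      rw [hkg x (hTV (hP hx)), hkg _ (hTV (hf.mem_S hx))]
    · obtain ⟨z, hz, hze⟩ := hi.exists_preimage (hQT (heQ.le ⟨g r, hgR r hr, rfl⟩))
      show k (e (g r)) ∈ R
      rw [← hze, hkg z (hTV hz)]
      exact hmemR z hz (hze ▸ heQ.le ⟨g r, hgR r hr, rfl⟩)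
  refine ⟨hC, R, hRn, hRT, fun W hW => ?_⟩
  rw [eq_of_isConj_normal hRn hW]
  intro c hc
  obtain ⟨hcT, hcc⟩ := FusionSys.mem_centralizerIn.1 hc
  refine hmemR c hcT (centralizerIn_le_of_isCentric hQc (FusionSys.mem_centralizerIn.2
    ⟨hi.mem hcT, fun q hq => ?_⟩))
  obtain ⟨z, hz, rfl⟩ := hi.exists_preimage (hQT hq)
  rw [← hgT.map_mul hz hcT, ← hgT.map_mul hcT hz, hcc z (hmemR z hz hq)]

/-- Conjugating the maps of a centralizer system. -/
theorem isMap_centSys_push {U U' V : Subgroup Ω} {hU : U ≤ S} {hU' : U' ≤ S} {g k : Ω → Ω}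
    (hg : IsMap F V g) (hkg : ∀ x ∈ V, k (g x) = x) (hUV : U ≤ V) (hTV : centralizerIn S U ≤ V)
    (hgU : imgSub g U = U') {P : Subgroup Ω} {f : Ω → Ω} (h : IsMap (H91.centSys F hU) P f) :
    IsMap (H91.centSys F hU') (imgSub g P) (g ∘ (f ∘ k)) := by
  obtain ⟨hP, hfT, e, he, hee, heU⟩ := CentralizerNormal.isMap_centSys.1 h
  have hPV := hP.trans hTV
  have hcent : ∀ x ∈ centralizerIn S U, g x ∈ centralizerIn S U' := fun x hx => by
    refine FusionSys.mem_centralizerIn.2 ⟨hg.mem_S (hTV hx), fun y hy => ?_⟩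
    rw [← hgU] at hy
    obtain ⟨z, hz, rfl⟩ := (hg.mono hUV).mem_imgSub.1 hy
    rw [← hg.map_mul (hUV hz) (hTV hx), ← hg.map_mul (hTV hx) (hUV hz),
      (FusionSys.mem_centralizerIn.1 hx).2 z hz]
  have hsup : P ⊔ U ≤ V := sup_le hPV hUV
  obtain ⟨k', hk', hk'g, -⟩ := (hg.mono hsup).isIso.exists_symm
  have hle : imgSub g P ⊔ U' ≤ imgSub g (P ⊔ U) := sup_le
    (Subgroup.closure_mono (Set.image_mono (le_sup_left : P ≤ P ⊔ U)))
    (hgU ▸ Subgroup.closure_mono (Set.image_mono (le_sup_right : U ≤ P ⊔ U)))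
  refine CentralizerNormal.isMap_centSys.2 ⟨fun y hy => ?_, fun y hy => ?_, g ∘ (e ∘ k'),
    ((hk'.isMap.comp he fun y hy => hk'.mem hy).comp hg fun y hy => ?_).mono hle, fun y hy => ?_,
    fun y hy => ?_⟩
  · obtain ⟨x, hx, rfl⟩ := (hg.mono hPV).mem_imgSub.1 hy
    exact hcent x (hP hx)
  · obtain ⟨x, hx, rfl⟩ := (hg.mono hPV).mem_imgSub.1 hy
    show g (f (k (g x))) ∈ _
    rw [hkg x (hPV hx)]
    exact hcent _ (hfT x hx)
  · obtain ⟨x, hx, rfl⟩ := (hg.mono hsup).mem_imgSub.1 hy
    show e (k' (g x)) ∈ V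
    rw [hk'g x hx]
    exact he.mapsTo_sup (fun z hz => hee z hz ▸ hTV (hfT z hz)) (fun z hz => (heU z hz).symm ▸ hUV hz) hx
  · obtain ⟨x, hx, rfl⟩ := (hg.mono hPV).mem_imgSub.1 hy
    show g (e (k' (g x))) = g (f (k (g x)))
    rw [hk'g x (Subgroup.mem_sup_left hx), hkg x (hPV hx), hee x hx]
  · rw [← hgU] at hy
    obtain ⟨x, hx, rfl⟩ := (hg.mono hUV).mem_imgSub.1 hy
    show g (e (k' (g x))) = g x
    rw [hk'g x (Subgroup.mem_sup_right hx), heU x hx]

theorem imgSub_id {P : Subgroup Ω} : imgSub id P = P := by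
  rw [imgSub, Set.image_id, Subgroup.closure_eq]

/-- Transport along a map carrying a fully centralized subgroup onto another. -/
theorem centSys_transport (hS : IsPGroup p S) (hF : F.IsSaturated p) {U U' V : Subgroup Ω}
    (hU : F.IsFullyCentralized U) (hU' : U' ≤ S) {g : Ω → Ω} (hg : IsMap F V g) (hUV : U ≤ V)
    (hTV : centralizerIn S U ≤ V) (hgU : imgSub g U = U') :
    F.IsFullyCentralized U' ∧
      ((H91.centSys F hU').IsConstrained p → (H91.centSys F hU.1).IsConstrained p) := by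
  have hgc : ∀ x ∈ centralizerIn S U, g x ∈ centralizerIn S U' := fun x hx => by
    refine FusionSys.mem_centralizerIn.2 ⟨hg.mem_S (hTV hx), fun y hy => ?_⟩
    rw [← hgU] at hy
    obtain ⟨z, hz, rfl⟩ := (hg.mono hUV).mem_imgSub.1 hy
    rw [← hg.map_mul (hUV hz) (hTV hx), ← hg.map_mul (hTV hx) (hUV hz),
      (FusionSys.mem_centralizerIn.1 hx).2 z hz]
  haveI : Finite (centralizerIn S U) := finite_of_le centralizerIn_le
  haveI : Finite (centralizerIn S U') := finite_of_le centralizerIn_le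
  have hconj : F.IsConj U U' := hgU ▸ (hg.mono hUV).isIso.isConj
  have hiT := (hg.mono hTV).isIso
  have hle : imgSub g (centralizerIn S U) ≤ centralizerIn S U' := fun y hy => by
    obtain ⟨x, hx, rfl⟩ := (hg.mono hTV).mem_imgSub.1 hy
    exact hgc x hx
  have hcard := hU.2 U' hconj
  have himg : imgSub g (centralizerIn S U) = centralizerIn S U' :=
    Subgroup.eq_of_le_of_card_ge hle (by rw [← hiT.card_eq]; exact hcard)
  have hU'c : F.IsFullyCentralized U' := ⟨hU', fun R hR => by
    rw [← himg, ← hiT.card_eq]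
    exact hU.2 R (isConj_trans hconj hR)⟩
  refine ⟨hU'c, fun hc => ?_⟩
  obtain ⟨k, hk, hk1, hk2⟩ := hg.isIso.exists_symm
  refine constrained_of_maps (isSaturated_centralizer hS hF hU
      (H91.isCentralizerSystem_centSys F hU.1)) hg hTV himg hk1
    (fun P f h => isMap_centSys_push hg hk1 hUV hTV hgU h) (fun P f hP h => ?_) hc
  have hTW : centralizerIn S U' ≤ imgSub g V :=
    himg ▸ Subgroup.closure_mono (Set.image_mono hTV)
  have hUW : U' ≤ imgSub g V := hgU ▸ Subgroup.closure_mono (Set.image_mono hUV)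
  have hPV : P ≤ V := hP.trans hTV
  have hkP : imgSub k (imgSub g P) = P := by
    rw [← (hg.mono hPV).imgSub_comp, imgSub_congr (f := id) (g := k ∘ g) fun x hx => hk1 x (hPV hx),
      imgSub_id]
  have hkU : imgSub k U' = U := by
    rw [← hgU, ← (hg.mono hUV).imgSub_comp,
      imgSub_congr (f := id) (g := k ∘ g) fun x hx => hk1 x (hUV hx), imgSub_id]
  have := isMap_centSys_push (hU' := hU.1) hk.isMap hk2 hUW hTW hkU h
  rwa [hkP] at this

/-- A saturated system is of characteristic `p`-type or of component type. -/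
theorem dichotomy (hS : IsPGroup p S) (hF : F.IsSaturated p) :
    F.IsOfCharacteristicPType p ∨ F.IsOfComponentType p := by
  by_contra hno
  push Not at hno
  obtain ⟨hnc, hnt⟩ := hno
  simp only [IsOfCharacteristicPType, not_forall] at hnc
  obtain ⟨U, hU1, hUn, hex⟩ := hnc
  have hUS := hUn.1
  set N := normalizerIn S U with hN
  obtain ⟨E, hE, hEc⟩ := hex
  haveI : Finite N := finite_of_le normalizerIn_le
  haveI : Finite U := finite_of_le hUS
  have hNp : IsPGroup p N := hS.to_le normalizerIn_le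
  have hEs : E.IsSaturated p := isSaturated_normalizer hS hF hUn hE
  have hUc := isFullyCentralized_of_isFullyNormalized hS hF hUn
  have hK := isKSys_normalizer_iff.1 hE
  have hUN : U ≤ N := le_normalizerIn_self hUS
  have hUnE : E.IsNormal U := hK.isNormal_self hUN
  -- the centralizer system of `U` is not constrained
  have hWc : ¬ (H91.centSys F hUS).IsConstrained p := by
    intro hW
    have hcN : centralizerIn N U = centralizerIn S U := le_antisymm
      (fun x hx => FusionSys.mem_centralizerIn.2 ⟨normalizerIn_le (FusionSys.mem_centralizerIn.1 hx).1,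
        (FusionSys.mem_centralizerIn.1 hx).2⟩)
      fun x hx => FusionSys.mem_centralizerIn.2 ⟨centralizerIn_le_normalizerIn hx,
        (FusionSys.mem_centralizerIn.1 hx).2⟩
    have hX := CentralizerNormal.isNormalIn hNp hEs hUnE
    have hCS : centralizerIn N U ≤ S := centralizerIn_le.trans normalizerIn_le
    haveI : Finite (centralizerIn N U) := finite_of_le hCS
    haveI : Finite (centralizerIn S U) := finite_of_le centralizerIn_le
    have hX' : (H91.centSys E hUnE.1).IsConstrained p := by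
      refine constrained_of_maps (F := F) hX.1.1 (isMap_id F hCS) le_rfl
        (imgSub_id.trans hcN) (k := id) (fun _ _ => rfl) (fun P f h => ?_) (fun P f hP h => ?_) hW
      · obtain ⟨hP, hfT, e, he, hee, heU⟩ := CentralizerNormal.isMap_centSys.1 h
        rw [imgSub_id]
        obtain ⟨-, -, g, hg, hge, -⟩ := (hK.map_iff _ _).1 he
        exact CentralizerNormal.isMap_centSys.2 ⟨hP.trans hcN.le, fun x hx => hcN.le (hfT x hx), g,
          hg.mono le_sup_left, fun x hx => (hge x (Subgroup.mem_sup_left hx)).trans (hee x hx),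
          fun x hx => (hge x (Subgroup.mem_sup_right hx)).trans (heU x hx)⟩
      · rw [imgSub_id] at h
        obtain ⟨hP', hfT, e, he, hee, heU⟩ := CentralizerNormal.isMap_centSys.1 h
        have hPU : P ⊔ U ≤ N := sup_le (hP.trans centralizerIn_le) hUN
        have heN : ∀ x ∈ P ⊔ U, e x ∈ N := fun x hx => he.mapsTo_sup
          (fun y hy => (hee y hy).symm ▸ centralizerIn_le_normalizerIn (hfT y hy))
          (fun y hy => (heU y hy).symm ▸ hUN hy) hx
        refine CentralizerNormal.isMap_centSys.2 ⟨hP, fun x hx => hcN.ge (hfT x hx), e, ?_, hee, heU⟩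
        have heUU : e '' (U : Set Ω) = U := (Set.image_congr fun x hx => heU x hx).trans (Set.image_id' _)
        exact (hK.map_iff _ _).2 ⟨hPU, heN, e, by rwa [sup_eq_left.2 (le_sup_right : U ≤ P ⊔ U)],
          fun _ _ => rfl, (onQ_top_iff he le_sup_right).2 heUU⟩
    obtain ⟨-, R, hRn, hRc⟩ := hX'
    refine hEc ⟨hEs, E.core, isNormal_core E, (isNormal_core E).1, fun V hV => ?_⟩
    rw [eq_of_isConj_normal (isNormal_core E) hV]
    intro c hc
    obtain ⟨hcN', hcc⟩ := FusionSys.mem_centralizerIn.1 hc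
    have hcU : c ∈ centralizerIn N U :=
      FusionSys.mem_centralizerIn.2 ⟨hcN', fun u hu => hcc u (le_core E hUnE hu)⟩
    have hRcore : R ≤ E.core := (le_core _ hRn).trans (core_le hNp hX)
    exact hRcore (centralizerIn_le_of_isCentric hRc (FusionSys.mem_centralizerIn.2
      ⟨hcU, fun r hr => hcc r (hRcore hr)⟩))
  -- an element of order `p` in the centre of `U`
  haveI : Nontrivial U := (Subgroup.nontrivial_iff_ne_bot U).2 hU1
  haveI := (hS.to_le hUS).center_nontrivial
  obtain ⟨z, hz⟩ := exists_prime_orderOf_dvd_card' p (show p ∣ Nat.card (Subgroup.center U) from by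
    obtain ⟨m, hm⟩ := IsPGroup.iff_card.1 ((hS.to_le hUS).to_subgroup (Subgroup.center U))
    rcases m with _ | m
    · rw [pow_zero] at hm
      exact absurd hm Finite.one_lt_card.ne'
    · exact hm ▸ dvd_pow_self p m.succ_ne_zero)
  set zz : Ω := ((z : U) : Ω) with hzz
  set X := Subgroup.zpowers zz with hX
  have hXU : X ≤ U := Subgroup.zpowers_le.2 (z : U).2
  have hXS : X ≤ S := hXU.trans hUS
  have hXp : Nat.card X = p := by
    rw [hX, Nat.card_zpowers, hzz, Subgroup.orderOf_coe, Subgroup.orderOf_coe, hz]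
  have hUX : ∀ x ∈ U, zz * x = x * zz := fun x hx =>
    congrArg Subtype.val (Subgroup.mem_center_iff.1 z.2 ⟨x, hx⟩).symm
  obtain ⟨X', hX', hX'n⟩ := exists_isFullyNormalized F hXS
  obtain ⟨g, hg, hgX, -⟩ := exists_map_to_fullyNormalized hS hF hX'n hX'
  have hcomm : ∀ y, (zz * y = y * zz) → ∀ x ∈ X, x * y = y * x := by
    rintro y hy _ ⟨n, rfl⟩
    exact (Commute.zpow_left hy n).eq
  have hUV : U ≤ normalizerIn S X := fun y hy => centralizerIn_le_normalizerIn
    (FusionSys.mem_centralizerIn.2 ⟨hUS hy, hcomm y (hUX y hy)⟩)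
  have hTV : centralizerIn S U ≤ normalizerIn S X := fun y hy => centralizerIn_le_normalizerIn
    (FusionSys.mem_centralizerIn.2 ⟨centralizerIn_le hy, hcomm y
      ((FusionSys.mem_centralizerIn.1 hy).2 zz (z : U).2)⟩)
  have hgU : IsMap F U g := hg.mono hUV
  set U' := imgSub g U with hU'
  have hU'S : U' ≤ S := hgU.imgSub_le
  obtain ⟨hU'c, hcons⟩ := centSys_transport hS hF hUc hU'S hg hUV hTV rfl
  have hX'c := isFullyCentralized_of_isFullyNormalized hS hF hX'n
  set G := H91.centSys F hX'n.1 with hG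
  haveI : Finite (centralizerIn S X') := finite_of_le centralizerIn_le
  have hGp : IsPGroup p (centralizerIn S X') := hS.to_le centralizerIn_le
  have hGs : G.IsSaturated p :=
    isSaturated_centralizer hS hF hX'c (H91.isCentralizerSystem_centSys F hX'n.1)
  have hXU' : X' ≤ U' := fun y hy => by
    obtain ⟨x, hx, rfl⟩ := hgX.exists_preimage hy
    exact hgU.mem_imgSub.2 ⟨x, hXU hx, rfl⟩
  have hU'X : U' ≤ centralizerIn S X' := fun y hy => by
    obtain ⟨x, hx, rfl⟩ := hgU.mem_imgSub.1 hy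
    refine FusionSys.mem_centralizerIn.2 ⟨hgU.mem_S hx, fun w hw => ?_⟩
    obtain ⟨v, hv, rfl⟩ := hgX.exists_preimage hw
    rw [← hgU.map_mul (hXU hv) hx, ← hgU.map_mul hx (hXU hv), hcomm x (hUX x hx) v hv]
  -- the centralizer system of `X'` is not constrained
  refine hnt ⟨X', (card_eq_of_isConj hX').symm.trans hXp, hX'n, G,
    H91.isCentralizerSystem_centSys F hX'n.1, ?_⟩
  by_contra hcomp
  have hGc : G.IsConstrained p := (Lift.constrained_iff hGp hGs).2 hcomp
  have hU'G : G.IsFullyCentralized U' := by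
    haveI : Finite (centralizerIn S U') := finite_of_le centralizerIn_le
    refine ⟨hU'X, fun R hR => ?_⟩
    obtain ⟨u, hu⟩ := isConj_iff.1 hR
    obtain ⟨-, -, e, he, hee, -⟩ := CentralizerNormal.isMap_centSys.1 hu.isMap
    have hRF : F.IsConj U' R :=
      (IsIso.mk ((he.mono le_sup_left).congr fun y hy => (hee y hy).symm) hu.image_eq).isConj
    have hRS : R ≤ S := hu.target_le.trans centralizerIn_le
    haveI : Finite (centralizerIn S R) := finite_of_le centralizerIn_le
    refine ((Subgroup.card_le_of_le (show centralizerIn (centralizerIn S X') R ≤ centralizerIn S R from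
      fun x hx => FusionSys.mem_centralizerIn.2 ⟨centralizerIn_le (FusionSys.mem_centralizerIn.1 hx).1,
        (FusionSys.mem_centralizerIn.1 hx).2⟩)).trans (hU'c.2 R hRF)).trans (le_of_eq ?_)
    refine congrArg (fun K : Subgroup Ω => Nat.card K) (le_antisymm (fun x hx => ?_) fun x hx =>
      FusionSys.mem_centralizerIn.2 ⟨centralizerIn_le (FusionSys.mem_centralizerIn.1 hx).1,
        (FusionSys.mem_centralizerIn.1 hx).2⟩)
    obtain ⟨hxS, hxc⟩ := FusionSys.mem_centralizerIn.1 hx
    exact FusionSys.mem_centralizerIn.2 ⟨FusionSys.mem_centralizerIn.2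
      ⟨hxS, fun w hw => hxc w (hXU' hw)⟩, hxc⟩
  have hC' := centSys_constrained hGp hGc hU'G
  haveI : Finite (centralizerIn S U') := finite_of_le centralizerIn_le
  have hcX : centralizerIn S U' = centralizerIn (centralizerIn S X') U' := le_antisymm
    (fun x hx => by
      obtain ⟨hxS, hxc⟩ := FusionSys.mem_centralizerIn.1 hx
      exact FusionSys.mem_centralizerIn.2 ⟨FusionSys.mem_centralizerIn.2
        ⟨hxS, fun w hw => hxc w (hXU' hw)⟩, hxc⟩)
    fun x hx => FusionSys.mem_centralizerIn.2 ⟨centralizerIn_le (FusionSys.mem_centralizerIn.1 hx).1,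
      (FusionSys.mem_centralizerIn.1 hx).2⟩
  haveI : Finite (centralizerIn (centralizerIn S X') U') :=
    finite_of_le (centralizerIn_le.trans centralizerIn_le : _ ≤ S)
  refine hWc (hcons (constrained_of_maps (F := F) (isSaturated_centralizer hS hF hU'c
      (H91.isCentralizerSystem_centSys F hU'S)) (isMap_id F centralizerIn_le) le_rfl
    (imgSub_id.trans hcX) (k := id) (fun _ _ => rfl) (fun P f h => ?_) (fun P f hP h => ?_) hC'))
  · obtain ⟨hP, hfT, e, he, hee, heU⟩ := CentralizerNormal.isMap_centSys.1 h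
    rw [imgSub_id]
    refine CentralizerNormal.isMap_centSys.2 ⟨hP.trans hcX.le, fun x hx => hcX.le (hfT x hx), e,
      CentralizerNormal.isMap_centSys.2 ⟨sup_le (hP.trans (hcX.le.trans centralizerIn_le)) hU'X,
        fun x hx => he.mapsTo_sup (fun y hy => (hee y hy).symm ▸ centralizerIn_le (hcX.le (hfT y hy)))
          (fun y hy => (heU y hy).symm ▸ hU'X hy) hx, e,
        he.mono (sup_le le_rfl (hXU'.trans le_sup_right)), fun _ _ => rfl,
        fun x hx => heU x (hXU' hx)⟩, hee, heU⟩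
  · rw [imgSub_id] at h
    obtain ⟨-, hfT, e, he, hee, heU⟩ := CentralizerNormal.isMap_centSys.1 h
    obtain ⟨-, -, e2, he2, he2e, -⟩ := CentralizerNormal.isMap_centSys.1 he
    exact CentralizerNormal.isMap_centSys.2 ⟨hP, fun x hx => hcX.ge (hfT x hx), e2,
      he2.mono le_sup_left, fun x hx => (he2e x (Subgroup.mem_sup_left hx)).trans (hee x hx),
      fun x hx => (he2e x (Subgroup.mem_sup_right hx)).trans (heU x hx)⟩

end Cfsg.Agent.H89.Dichotomy
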