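import Cfsg.Agent.H89.Comp.Dichotomy
import Cfsg.Agent.H89.Dichotomy
import Cfsg.Agent.H90.Normal
import Cfsg.Agent.H89.FStar.SelfCent
import Cfsg.Agent.Signalizer.EBal.Basic

/-!
An automorphism of order prime to `p` fixing `X` and the centralizer of `X` in a strongly closed subgroup `W`
extends to a map fixing `W`.
-/

set_option autoImplicit false
set_option linter.style.haveILetI false
set_option linter.unusedSectionVars false

namespace Cfsg.Agent.H89.EBalClimb

open Cfsg Cfsg.FusionSystem Cfsg.Agent.FusionSys Cfsg.Agent.H91.CentFocal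
open Cfsg.Agent.H89.Prod (innMod mem_innMod)
open Cfsg.Agent.H89.Comp (Fixes innMod_le)
open Cfsg.Agent.Signalizer.EBal (exists_pPrime_aut exists_restrict)
open Cfsg.FusionSystem (centralizerIn normalizerIn)

universe u

variable {Ω : Type u} [Group Ω] {S W : Subgroup Ω} {F : FusionSystem S} {p : ℕ}
  [Finite S] [Fact p.Prime]

/-- The subgroup `X` has the largest centralizer in `W` within its conjugacy class. -/
def MaxCent (F : FusionSystem S) (W X : Subgroup Ω) : Prop :=
  ∀ (Y : Subgroup Ω) (h : Ω → Ω), IsIso F X Y h →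
    Nat.card (centralizerIn W Y) ≤ Nat.card (centralizerIn W X)

theorem maxCent_of_fullyCentralized (hS : IsPGroup p S) (hF : F.IsSaturated p) (hW : F.StronglyClosed W)
    {X : Subgroup Ω} (hX : F.IsFullyCentralized X) : MaxCent F W X := by
  intro Y h hh
  obtain ⟨k, hk, -, -⟩ := hh.exists_symm
  have hYS : Y ≤ S := hh.target_le
  have hCS : centralizerIn W Y ≤ S := fun x hx => hW.1 hx.1
  haveI : Finite W := finite_of_le hW.1
  haveI : Finite (centralizerIn W X) := finite_of_le (S := W) centralizerIn_le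
  obtain ⟨g, hg, hge⟩ := receptive_extend (receptive_of_isFullyCentralized hS hF hX) hk
    (N := centralizerIn W Y) fun x hx =>
      hk.isMap.inExt_of_centralizes (FusionSys.mem_centralizerIn.2
        ⟨hCS hx, (FusionSys.mem_centralizerIn.1 hx).2⟩)
  have hgC : IsMap F (centralizerIn W Y) g := hg.mono le_sup_left
  rw [hgC.isIso.card_eq]
  refine Subgroup.card_le_of_le fun y hy => ?_
  obtain ⟨x, hx, rfl⟩ := hgC.mem_imgSub.1 hy
  refine FusionSys.mem_centralizerIn.2
    ⟨mem_of_stronglyClosed hW hgC hx (FusionSys.mem_centralizerIn.1 hx).1, fun z hz => ?_⟩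
  obtain ⟨w, hw, rfl⟩ := hk.exists_preimage hz
  rw [← hge w hw, ← hg.map_mul (Subgroup.mem_sup_right hw) (Subgroup.mem_sup_left hx),
    ← hg.map_mul (Subgroup.mem_sup_left hx) (Subgroup.mem_sup_right hw),
    (FusionSys.mem_centralizerIn.1 hx).2 w hw]

/-- The property being climbed. -/
def Climb (p : ℕ) (F : FusionSystem S) (W A : Subgroup Ω) : Prop :=
  ∀ (X : Subgroup Ω) (a : MulAut A), X ≤ A → centralizerIn W X ≤ A → MaxCent F W X →
    a ∈ F.autGroup A → (orderOf a).Coprime p → (∀ x ∈ X, autMap a x = x) →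
    (∀ y ∈ A, y ∈ W → autMap a y = y) → Fixes F W A (autMap a)

/-- Climbing at a fully normalized member of a class. -/
theorem climb_step (hS : IsPGroup p S) (hF : F.IsSaturated p) (hW : F.StronglyClosed W)
    {X Q : Subgroup Ω} (hQn : F.IsFullyNormalized Q) (hXQ : X ≤ Q) (hCQ : centralizerIn W X ≤ Q)
    {α : MulAut Q} (hα : α ∈ F.autGroup Q) (hco : (orderOf α).Coprime p)
    (hfX : ∀ x ∈ X, autMap α x = x) (hfW : ∀ y ∈ Q, y ∈ W → autMap α y = y) :
    ∃ f, IsMap F (normalizerIn W Q ⊔ Q) f ∧ (∀ x ∈ Q, f x = autMap α x) ∧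
      ∀ n ∈ normalizerIn W Q, f n = n := by
  have hQS := hQn.1
  haveI := finite_of_le hQS
  haveI := finite_mulAut_of_le hQS
  have hαi := isIso_autMap hQS hα
  set W1 := normalizerIn W Q with hW1
  have hW1S : W1 ≤ S := fun x hx => hW.1 hx.1
  have hext : ∀ n ∈ W1, InExt S Q (autMap α) n := fun n hn => by
    refine inExt_autMap (hW1S hn) hn.2 ?_
    have hnS : conjAut hn.2 ∈ autInducedBy S Q := mem_autInducedBy.2 ⟨n, hW1S hn, hn.2, rfl⟩
    have hnF : conjAut hn.2 ∈ F.autGroup Q := autInducedBy_le_autGroup F hQS hnS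
    have hk : α * conjAut hn.2 * α⁻¹ * (conjAut hn.2)⁻¹ ∈ innMod W Q ⊓ F.autGroup Q := by
      refine ⟨mem_innMod.2 ⟨fun y hy => ?_, 1, Q.one_mem, fun w hw hwW => ?_⟩,
        Subgroup.mul_mem _ (Subgroup.mul_mem _ (Subgroup.mul_mem _ hα hnF) (Subgroup.inv_mem _ hα))
          (Subgroup.inv_mem _ hnF)⟩
      · have hu := autMap_mem (conjAut hn.2)⁻¹ hy
        set u := autMap (conjAut hn.2)⁻¹ y with hu'
        have hyu : y = autMap (conjAut hn.2) u := by
          rw [hu', ← autMap_mul _ _ hy, mul_inv_cancel, FusionSys.autMap_one hy]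
        obtain ⟨v, hv, hvu⟩ := hαi.exists_preimage hu
        have hcv := autMap_mem (conjAut hn.2) hv
        rw [autMap_mul _ _ hy, autMap_mul _ _ (autMap_mem _ hy),
          autMap_mul _ _ (autMap_mem _ (autMap_mem _ hy)), ← hu', ← hvu, S5114.inv_autMap_apply α hv, hyu,
          ← hvu]
        have hd : v⁻¹ * autMap (conjAut hn.2) v ∈ W := by
          rw [autMap_conjAut hn.2 hv, conjMap_apply,
            show v⁻¹ * (n * v * n⁻¹) = v⁻¹ * n * v⁻¹⁻¹ * n⁻¹ by group]
          exact W.mul_mem (conj_mem_closed hW (S.inv_mem (hQS hv)) hn.1) (W.inv_mem hn.1)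
        have hdQ : v⁻¹ * autMap (conjAut hn.2) v ∈ Q := Q.mul_mem (Q.inv_mem hv) hcv
        have hav : autMap α v ∈ Q := autMap_mem α hv
        have e : autMap α (autMap (conjAut hn.2) v) = autMap α v * (v⁻¹ * autMap (conjAut hn.2) v) := by
          rw [← hfW _ hdQ hd, ← hαi.isMap.map_mul hv hdQ, mul_inv_cancel_left]
        have hd2 : (autMap α v)⁻¹ * autMap (conjAut hn.2) (autMap α v) ∈ W := by
          rw [autMap_conjAut hn.2 hav, conjMap_apply,
            show (autMap α v)⁻¹ * (n * autMap α v * n⁻¹) =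
              (autMap α v)⁻¹ * n * (autMap α v)⁻¹⁻¹ * n⁻¹ by group]
          exact W.mul_mem (conj_mem_closed hW (S.inv_mem (hQS hav)) hn.1) (W.inv_mem hn.1)
        rw [e, ← mul_assoc, show (autMap (conjAut hn.2) (autMap α v))⁻¹ * autMap α v =
          ((autMap α v)⁻¹ * autMap (conjAut hn.2) (autMap α v))⁻¹ by group]
        exact W.mul_mem (W.inv_mem hd2) hd
      · have hu := autMap_mem (conjAut hn.2)⁻¹ hw
        set u := autMap (conjAut hn.2)⁻¹ w with hu'
        have huW : u ∈ W := mem_of_stronglyClosed hW (isIso_autMap hQS (inv_mem hnF)).isMap hw hwW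
        have hau : autMap α⁻¹ u = u := by
          conv_lhs => rw [← hfW u hu huW]
          exact S5114.inv_autMap_apply α hu
        rw [autMap_mul _ _ hw, autMap_mul _ _ (autMap_mem _ hw),
          autMap_mul _ _ (autMap_mem _ (autMap_mem _ hw)), ← hu', hau, hu', ← autMap_mul _ _ hw,
          mul_inv_cancel, FusionSys.autMap_one hw, hfW w hw hwW]
        group
    have h := mul_mem (innMod_le hS hF hW hQn hk) hnS
    rwa [inv_mul_cancel_right] at h
  obtain ⟨h, hh, hhe⟩ := receptive_extend (receptive_of_isFullyNormalized hS hF hQn) hαi hext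
  set M := W1 ⊔ Q with hM
  have hMS : M ≤ S := sup_le hW1S hQS
  have hMN : M ≤ Subgroup.normalizer (Q : Set Ω) := sup_le (fun x hx => hx.2) Subgroup.le_normalizer
  have hQM : Q ≤ M := le_sup_right
  have hclosed : ∀ (f : Ω → Ω), IsMap F M f → (∀ x ∈ Q, f x = autMap α x) → ∀ n ∈ W1, f n ∈ W1 :=
    fun f hf he n hn => ⟨mem_of_stronglyClosed hW hf (Subgroup.mem_sup_left hn) hn.1,
      (hαi.mem_normalizerIn_of_extends hf hQM he (Subgroup.mem_sup_left hn) hn.2).2⟩
  obtain ⟨G, hG, hGco, hGe, -⟩ := exists_pPrime_aut hh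
    (fun y hy => hh.mapsTo_sup (fun n hn => Subgroup.mem_sup_left (hclosed h hh hhe n hn))
      (fun x hx => Subgroup.mem_sup_right (by rw [hhe x hx]; exact autMap_mem α hx)) hy) hQM hco hhe
  have hGm := (isIso_autMap hMS hG).isMap
  obtain ⟨β, hβ, hβe, hβo⟩ := exists_restrict hMS (le_sup_left : W1 ≤ M) hG (hclosed _ hGm hGe)
  haveI := finite_of_le hW1S
  have hXn : ∀ x ∈ X, x ∈ Subgroup.normalizer (W1 : Set Ω) := fun x hx => by
    haveI := finite_of_le hW1S
    refine mem_normalizer_of_maps fun n hn => ⟨conj_mem_closed hW (hQS (hXQ hx)) hn.1, ?_⟩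
    have hxn := Subgroup.le_normalizer (H := Q) (hXQ hx)
    exact Subgroup.mul_mem _ (Subgroup.mul_mem _ hxn hn.2) (Subgroup.inv_mem _ hxn)
  have hβ1 : β = 1 := by
    refine Dichotomy.eq_one_of_AxB (hS.to_le hW1S)
      ((isPGroup_autInducedBy hS W1).to_le (autInducedBy_mono (hXQ.trans hQS)))
      (hGco.coprime_dvd_left hβo) (fun u hu => ?_) fun x hx => ?_
    · obtain ⟨z, hz, hzn, rfl⟩ := mem_autInducedBy.1 hu
      refine aut_ext fun n hn => ?_
      have hzn' := (Subgroup.mem_normalizer_iff.1 hzn n).1 hn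
      rw [autMap_mul _ _ hn, autMap_mul _ _ hn, autMap_conjAut hzn (autMap_mem _ hn), autMap_conjAut hzn hn,
        hβe n hn, conjMap_apply, conjMap_apply, hβe _ hzn',
        hGm.map_conj (hQM (hXQ hz)) (Subgroup.mem_sup_left hn), hGe z (hXQ hz), hfX z hz]
    · have hxC : (x : Ω) ∈ centralizerIn W X := FusionSys.mem_centralizerIn.2 ⟨x.2.1, fun z hz => by
        have e := congrArg Subtype.val (hx (conjAut (hXn z hz))
          (mem_autInducedBy.2 ⟨z, hz, hXn z hz, rfl⟩))
        have e2 : autMap (conjAut (hXn z hz)) (x : Ω) = (x : Ω) := (autMap_coe _ x).trans e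
        rw [autMap_conjAut (hXn z hz) x.2, conjMap_apply, mul_inv_eq_iff_eq_mul] at e2
        exact e2⟩
      refine Subtype.ext ?_
      rw [← autMap_coe, hβe _ x.2, hGe _ (hCQ hxC), hfW _ (hCQ hxC) x.2.1]
  exact ⟨autMap G, hGm, hGe, fun n hn => by rw [← hβe n hn, hβ1, FusionSys.autMap_one hn]⟩

/-- Climbing. -/
theorem climb_all (hS : IsPGroup p S) (hF : F.IsSaturated p) (hW : F.StronglyClosed W) :
    ∀ A ≤ S, Climb p F W A := by
  intro A
  induction hk : Nat.card S - Nat.card A using Nat.strong_induction_on generalizing A with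
  | _ k ih =>
    intro hA X a hXA hCA hmax ha hco hfX hfW
    haveI := finite_of_le hA
    by_cases hWA : W ≤ A
    · exact ⟨autMap a, ((mem_autGroup_iff hA).1 ha).mono (sup_le le_rfl hWA), fun _ _ => rfl,
        fun w hw => hfW w (hWA hw) hw⟩
    obtain ⟨Q, hAQ, hQn⟩ := exists_isFullyNormalized F hA
    obtain ⟨g, hg, hgi, hgN⟩ := exists_map_to_fullyNormalized hS hF hQn hAQ
    haveI := finite_of_le hQn.1
    haveI : Finite W := finite_of_le hW.1
    set X' := imgSub g X with hX'
    have hgX : IsIso F X X' g := (hgi.isMap.mono hXA).isIso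
    have hCle : imgSub g (centralizerIn W X) ≤ centralizerIn W X' := fun y hy => by
      obtain ⟨x, hx, rfl⟩ := (hgi.isMap.mono hCA).mem_imgSub.1 hy
      refine FusionSys.mem_centralizerIn.2
        ⟨mem_of_stronglyClosed hW hgi.isMap (hCA hx) (FusionSys.mem_centralizerIn.1 hx).1, fun z hz => ?_⟩
      obtain ⟨w, hw, rfl⟩ := hgX.exists_preimage hz
      rw [← hgi.isMap.map_mul (hXA hw) (hCA hx), ← hgi.isMap.map_mul (hCA hx) (hXA hw),
        (FusionSys.mem_centralizerIn.1 hx).2 w hw]
    haveI : Finite (centralizerIn W X') := finite_of_le (S := W) centralizerIn_le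
    have hcard : Nat.card (centralizerIn W X) = Nat.card (imgSub g (centralizerIn W X)) :=
      (hgi.isMap.mono hCA).isIso.card_eq
    have hCeq : imgSub g (centralizerIn W X) = centralizerIn W X' :=
      Subgroup.eq_of_le_of_card_ge hCle ((hmax X' g hgX).trans hcard.le)
    obtain ⟨g', hg', hgg', hg'g⟩ := hgi.exists_symm
    obtain ⟨G, hG, hGe, hGW⟩ := climb_step hS hF hW (X := X') hQn
      (fun y hy => by obtain ⟨x, hx, rfl⟩ := hgX.exists_preimage hy; exact hgi.mem (hXA hx))
      (fun y hy => by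
        obtain ⟨x, hx, rfl⟩ := (hgi.isMap.mono hCA).mem_imgSub.1 (hCeq.ge hy)
        exact hgi.mem (hCA hx))
      (hgi.autEquiv_mem_autGroup ha) (by rwa [MulEquiv.orderOf_eq])
      (fun y hy => by
        obtain ⟨x, hx, rfl⟩ := hgX.exists_preimage hy
        rw [hgi.autMap_autEquiv a (hXA hx), hfX x hx])
      (fun y hy hyW => by
        have hx := hg'.mem hy
        conv_lhs => rw [← hg'g y hy]
        rw [hgi.autMap_autEquiv a hx,
          hfW _ hx (mem_of_stronglyClosed hW hg'.isMap hy hyW), hg'g y hy])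
    set M := normalizerIn W A ⊔ A with hM
    have hAN : A ≤ normalizerIn S A := le_normalizerIn_self hA
    have hMN : M ≤ normalizerIn S A := sup_le (fun x hx => ⟨hW.1 hx.1, hx.2⟩) hAN
    have hgM := hg.mono hMN
    have hin : ∀ y ∈ M, g y ∈ normalizerIn W Q ⊔ Q := fun y hy => hgM.mapsTo_sup
      (C := normalizerIn W Q ⊔ Q)
      (fun n hn => Subgroup.mem_sup_left ⟨mem_of_stronglyClosed hW hgM (Subgroup.mem_sup_left hn) hn.1,
        (hgN n ⟨hW.1 hn.1, hn.2⟩).2⟩)
      (fun x hx => Subgroup.mem_sup_right (hgi.mem hx)) hy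
    have hcomp : IsMap F M (G ∘ g) := hgM.comp hG hin
    have hGgA : ∀ x ∈ A, (G ∘ g) x = g (autMap a x) := fun x hx => by
      rw [Function.comp_apply, hGe _ (hgi.mem hx), hgi.autMap_autEquiv a hx]
    have hGgN : ∀ n ∈ normalizerIn W A, (G ∘ g) n = g n := fun n hn => hGW (g n)
      ⟨mem_of_stronglyClosed hW hgM (Subgroup.mem_sup_left hn) hn.1, (hgN n ⟨hW.1 hn.1, hn.2⟩).2⟩
    obtain ⟨k, hk, hkg⟩ := hg.exists_inv
    have himg : ∀ y ∈ M, (G ∘ g) y ∈ imgSub g (normalizerIn S A) := fun y hy => hcomp.mapsTo_sup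
      (fun n hn => hg.mem_imgSub.2 ⟨n, hMN (Subgroup.mem_sup_left hn), (hGgN n hn).symm⟩)
      (fun x hx => hg.mem_imgSub.2 ⟨_, hAN (autMap_mem a hx), (hGgA x hx).symm⟩) hy
    have he0 : IsMap F M (k ∘ (G ∘ g)) := hcomp.comp hk himg
    have he0A : ∀ x ∈ A, (k ∘ (G ∘ g)) x = autMap a x := fun x hx => by
      rw [Function.comp_apply, hGgA x hx, hkg _ (hAN (autMap_mem a hx))]
    have he0N : ∀ n ∈ normalizerIn W A, (k ∘ (G ∘ g)) n = n := fun n hn => by
      rw [Function.comp_apply, hGgN n hn, hkg _ (hMN (Subgroup.mem_sup_left hn))]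
    obtain ⟨b, hb, hbco, hbe, j, hbj⟩ := exists_pPrime_aut he0
      (fun y hy => he0.mapsTo_sup (fun n hn => Subgroup.mem_sup_left (by rw [he0N n hn]; exact hn))
        (fun x hx => Subgroup.mem_sup_right (by rw [he0A x hx]; exact autMap_mem a hx)) hy)
      le_sup_right hco he0A
    have hWnorm : A ≤ Subgroup.normalizer (W : Set Ω) := fun q hq => mem_normalizer_of_maps fun w hw =>
      conj_mem_closed hW (hA hq) hw
    obtain ⟨n, hn, hnA, hnn⟩ := H90.exists_mem_normalizer hS hA hW.1
      hWnorm hWA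
    have hlt : A < M := lt_of_le_not_ge le_sup_right fun hle =>
      hnA (hle (Subgroup.mem_sup_left ⟨hn, hnn⟩))
    have hMS : M ≤ S := hMN.trans fun x hx => hx.1
    obtain ⟨F1, hF1, hF1e, hF1W⟩ := ih (Nat.card S - Nat.card M) (by
        haveI := finite_of_le hMS
        have h1 := Cfsg.Agent.H89.card_lt_card_of_lt hlt
        have h2 : Nat.card M ≤ Nat.card S := Subgroup.card_le_of_le hMS
        omega) M rfl hMS X b (hXA.trans le_sup_right) (hCA.trans le_sup_right) hmax hb hbco
      (fun x hx => by rw [hbe x (hXA hx), hfX x hx])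
      (fun y hy hyW => by
        have hyN : y ∈ normalizerIn W A := ⟨hyW, (hMN hy).2⟩
        rw [hbj y hy]
        clear hbj
        induction j with
        | zero => rfl
        | succ j ihj => rw [Function.iterate_succ_apply', ihj, he0N y hyN])
    exact ⟨F1, hF1.mono (sup_le_sup_right le_sup_right W),
      fun x hx => (hF1e x (Subgroup.mem_sup_right hx)).trans (hbe x hx), hF1W⟩

/-- An automorphism of order prime to `p` of a subgroup centralizing `X` that fixes `X` and the centralizer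
of `X` in `W` fixes `W`. -/
theorem climb (hS : IsPGroup p S) (hF : F.IsSaturated p) {X P : Subgroup Ω} (hW : F.StronglyClosed W)
    (hX : F.IsFullyCentralized X) (hPX : P ≤ centralizerIn S X) {a : MulAut P} (_ha : a ∈ F.autGroup P)
    (hco : (orderOf a).Coprime p) (h : Fixes F (X ⊔ centralizerIn W X) P (autMap a)) :
    Fixes F W P (autMap a) := by
  have hmax := maxCent_of_fullyCentralized hS hF hW hX
  have hPS : P ≤ S := hPX.trans centralizerIn_le
  set R := X ⊔ centralizerIn W X with hR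
  have hRS : R ≤ S := sup_le hX.1 fun x hx => hW.1 hx.1
  set A := P ⊔ R with hA
  have hAS : A ≤ S := sup_le hPS hRS
  haveI := finite_of_le hAS
  obtain ⟨f, hf, hfe, hfR⟩ := h
  obtain ⟨b, hb, hbco, hbe, j, hbj⟩ := exists_pPrime_aut hf
    (fun y hy => hf.mapsTo_sup (fun x hx => Subgroup.mem_sup_left (by rw [hfe x hx]; exact autMap_mem a hx))
      (fun x hx => Subgroup.mem_sup_right (by rw [hfR x hx]; exact hx)) hy) le_sup_left hco hfe
  have hbR : ∀ r ∈ R, autMap b r = r := fun r hr => by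
    rw [hbj r (Subgroup.mem_sup_right hr)]
    clear hbj
    induction j with
    | zero => rfl
    | succ j ihj => rw [Function.iterate_succ_apply', ihj, hfR r hr]
  have hPn : P ≤ Subgroup.normalizer (R : Set Ω) := fun q hq => by
    haveI := finite_of_le hRS
    refine mem_normalizer_of_maps fun r hr => ?_
    have hqS := hPS hq
    have hcx : ∀ x ∈ X, q * x * q⁻¹ = x := fun x hx => by
      rw [← (FusionSys.mem_centralizerIn.1 (hPX hq)).2 x hx, mul_inv_cancel_right]
    have := (isMap_conj F hRS hqS).mapsTo_sup (A := X) (B := centralizerIn W X) (C := R)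
      (fun x hx => Subgroup.mem_sup_left (by rw [conjMap_apply, hcx x hx]; exact hx))
      (fun w hw => Subgroup.mem_sup_right (by
        obtain ⟨hwW, hwc⟩ := FusionSys.mem_centralizerIn.1 hw
        rw [conjMap_apply]
        refine FusionSys.mem_centralizerIn.2 ⟨conj_mem_closed hW hqS hwW, fun x hx => ?_⟩
        calc x * (q * w * q⁻¹) = (q * x * q⁻¹) * (q * w * q⁻¹) := by rw [hcx x hx]
          _ = q * (x * w) * q⁻¹ := by group
          _ = q * (w * x) * q⁻¹ := by rw [hwc x hx]
          _ = (q * w * q⁻¹) * (q * x * q⁻¹) := by group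
          _ = _ := by rw [hcx x hx])) hr
    rwa [conjMap_apply] at this
  have hbm := (isIso_autMap hAS hb).isMap
  have hfW : ∀ y ∈ A, y ∈ W → autMap b y = y := fun y hy hyW => by
    have hy' : y ∈ ((P ⊔ R : Subgroup Ω) : Set Ω) := hy
    rw [Subgroup.coe_mul_of_left_le_normalizer_right P R hPn] at hy'
    obtain ⟨q, hq, r, hr, rfl⟩ := hy'
    have hqA : q ∈ A := Subgroup.mem_sup_left hq
    have hrA : r ∈ A := Subgroup.mem_sup_right hr
    have he : autMap b (q * r) = autMap a q * r := by rw [hbm.map_mul hqA hrA, hbe q hq, hbR r hr]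
    set d := (q * r)⁻¹ * autMap b (q * r) with hd
    have hdW : d ∈ W := W.mul_mem (W.inv_mem hyW) (mem_of_stronglyClosed hW hbm hy hyW)
    have hde : r * d * r⁻¹ = q⁻¹ * autMap a q := by rw [hd, he]; group
    have hd1 : r * d * r⁻¹ ∈ R := by
      refine Subgroup.mem_sup_right (FusionSys.mem_centralizerIn.2
        ⟨conj_mem_closed hW (hRS hr) hdW, fun x hx => ?_⟩)
      rw [hde]
      exact (FusionSys.mem_centralizerIn.1 (hPX (P.mul_mem (P.inv_mem hq) (autMap_mem a hq)))).2 x hx
    have hdR : d ∈ R := by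
      have := R.mul_mem (R.mul_mem (R.inv_mem hr) hd1) hr
      rwa [show r⁻¹ * (r * d * r⁻¹) * r = d by group] at this
    have key : ∀ i : ℕ, autMap (b ^ i) (q * r) = q * r * d ^ i := by
      intro i
      induction i with
      | zero => rw [pow_zero, FusionSys.autMap_one hy, pow_zero, mul_one]
      | succ i ihi =>
        rw [pow_succ', autMap_mul _ _ hy, ihi, hbm.map_mul hy (Subgroup.mem_sup_right (R.pow_mem hdR i)),
          hbR _ (R.pow_mem hdR i), pow_succ', ← mul_assoc (q * r) d, hd, mul_inv_cancel_left]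
    have h1 := key (orderOf b)
    rw [pow_orderOf_eq_one, FusionSys.autMap_one hy] at h1
    have h2 : d ^ orderOf b = 1 := mul_left_cancel (h1.symm.trans (mul_one _).symm)
    obtain ⟨e, he'⟩ := hS ⟨d, hAS (Subgroup.mem_sup_right hdR)⟩
    have h3 : d = 1 := orderOf_eq_one_iff.1 (Nat.eq_one_of_dvd_coprimes (hbco.pow_right e)
      (orderOf_dvd_of_pow_eq_one h2) (orderOf_dvd_of_pow_eq_one (congrArg Subtype.val he')))
    exact (inv_mul_eq_one.1 (hd ▸ h3)).symm
  obtain ⟨g, hg, hge, hgW⟩ := climb_all hS hF hW A hAS X b (le_sup_left.trans le_sup_right)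
    (le_sup_right.trans le_sup_right) hmax hb hbco (fun x hx => hbR x (Subgroup.mem_sup_left hx)) hfW
  exact ⟨g, hg.mono (sup_le_sup_right le_sup_left W),
    fun x hx => (hge x (Subgroup.mem_sup_left hx)).trans (hbe x hx), hgW⟩

/-- The focal subgroup of the centralizer of the generalized Fitting subsystem lies in its center. -/
theorem focal_centSys_le_center (hS : IsPGroup p S) (hF : F.IsSaturated p) {U : Subgroup Ω}
    {D : FusionSystem U} (hD : D.IsGeneralizedFittingOf F p) :
    (H91.centSys F (FStar.fitting_normal hS hF hD).1.2.2.2.1.1).focalSubgroup ≤ D.center := by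
  have hDn := FStar.fitting_normal hS hF hD
  have hU := hDn.1.2.2.2.1
  set Y := (H91.centSys F hU.1).focalSubgroup with hYdef
  have hY : Y ≤ centralizerIn S U := by
    rw [hYdef]
    refine (Subgroup.closure_le _).2 ?_
    rintro _ ⟨A, φ, x, hφ, rfl⟩
    exact (centralizerIn S U).mul_mem (Subgroup.inv_mem _ (((H91.centSys F hU.1).le_of_mem hφ).1 x.2))
      (((H91.centSys F hU.1).le_of_mem hφ).2 x)
  refine FStar.le_center_of_centralized hS hF hD hY fun P φ hφ => ?_
  have hm := isMap_of_mem hφ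
  have hcent : ∀ u ∈ U, u ∈ centralizerIn S Y := fun u hu => FusionSys.mem_centralizerIn.2
    ⟨hU.1 hu, fun y hy => ((FusionSys.mem_centralizerIn.1 (hY hy)).2 u hu).symm⟩
  obtain ⟨g, hg, hge, hgY⟩ := exists_fixing hS hF hDn (H91.isCentralizerSystem_centSys F hU.1) hm
  exact mem_hom_of_isMap (F := H91.centSys F (hY.trans centralizerIn_le))
    ((isMap_centSys_iff (hY.trans centralizerIn_le)).2
      ⟨fun x hx => hcent x (hm.le hx), fun x hx => hcent _ (hm.mem_S hx), g, hg, hge, hgY⟩)
    fun x => (homFun_coe φ x).symm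

/-- A quasisimple subsystem does not fix the support of the generalized Fitting subsystem. -/
theorem false_of_fixes_fitting (hS : IsPGroup p S) (hF : F.IsSaturated p) {U : Subgroup Ω}
    {D : FusionSystem U} (hD : D.IsGeneralizedFittingOf F p) {V : Subgroup Ω} {C : FusionSystem V}
    (hVS : V ≤ S) (hq : C.Quasisimple p)
    (hfix : ∀ (P : Subgroup Ω) (a : MulAut P), P ≤ V → a ∈ C.autGroup P → (orderOf a).Coprime p →
      Fixes F U P (autMap a)) : False := by
  have hU := (FStar.fitting_normal hS hF hD).1.2.2.2.1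
  obtain ⟨hcent, hall⟩ := Comp.fixes_all hS hU hVS hq.1 hq.2.1 hfix
  haveI : Finite V := finite_of_le hVS
  have hsub : V ≤ D.center := by
    refine le_trans ?_ (focal_centSys_le_center hS hF hD)
    conv_lhs => rw [← hq.2.1]
    refine (Subgroup.closure_le _).2 ?_
    rintro _ ⟨P, α, x, hP, -, rfl⟩
    have hm := (mem_autGroup_iff hP).1 α.2
    obtain ⟨g, hg, hge, hgU⟩ := hall P _ hm
    have hm' : IsMap (H91.centSys F hU.1) P (autMap (α : MulAut P)) := (isMap_centSys_iff hU.1).2
      ⟨fun y hy => hcent (hP hy), fun y hy => hcent (hP (autMap_mem _ hy)), g, hg, hge, hgU⟩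
    obtain ⟨φ, hφ, hφe⟩ := hm'
    exact Subgroup.subset_closure ⟨P, φ, x, hφ, by rw [hφe x, autMap_coe]⟩
  refine S5148.main (hS.to_le hVS) hq ⟨⟨fun a b => Subtype.ext ?_⟩⟩
  haveI := finite_of_le hU.1
  exact ((FusionSys.mem_centralizerIn.1 (hcent b.2)).2 a ((isCentral_center D).1 (hsub a.2)))

end Cfsg.Agent.H89.EBalClimb
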