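import Cfsg.Agent.H89.Lift.Main
import Cfsg.Agent.H49.ProductSaturated
import Cfsg.Agent.S5136
import Cfsg.Prelude.Def_FusionFitting

/-!
A constrained system is one whose generalized Fitting subsystem is the inner system of its core.
-/

set_option autoImplicit false
set_option linter.style.haveILetI false
set_option linter.unusedSectionVars false

namespace Cfsg.Agent.H89.FittingInner

open Cfsg Cfsg.FusionSystem Cfsg.Agent.FusionSys
open Cfsg.FusionSystem (centralizerIn normalizerIn)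

universe u

variable {Ω : Type u} [Group Ω] {S : Subgroup Ω} {F : FusionSystem S} {p : ℕ}

theorem hom_bot_fix {E : FusionSystem S} {P : Subgroup Ω} (hP : P ≤ ⊥) {φ : P →* Ω}
    (_ : φ ∈ E.Hom P) (x : P) : φ x = x := by
  obtain ⟨x, hx⟩ := x
  obtain rfl : x = 1 := Subgroup.mem_bot.1 (hP hx)
  exact map_one φ

variable [Finite S] [Fact p.Prime]

/-- The trivial system is a normal subsystem. -/
theorem inner_bot_normal (hS : IsPGroup p S) (hF : F.IsSaturated p) :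
    (innerFusionSystem (⊥ : Subgroup Ω)).IsNormalIn F p := by
  haveI : Finite (⊥ : Subgroup Ω) := finite_of_le (bot_le : (⊥ : Subgroup Ω) ≤ S)
  refine ⟨⟨H90.inner_isSaturated IsPGroup.of_bot, hF, fun P φ hφ => ?_, stronglyClosed_bot F,
    fun P hP φ hφ a _ => ?_, fun P hP φ hφ => ?_⟩, fun α _ => ?_⟩
  · have hP : P ≤ ⊥ := hφ.1
    refine mem_hom_of_isMap (isMap_id F (hP.trans bot_le)) fun x => ?_
    exact hom_bot_fix hP hφ x
  · refine ⟨conjHom _ 1, (innerFusionSystem ⊥).conj_mem (fun y hy => ?_) (Subgroup.one_mem _),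
      fun x hx hax => ?_⟩
    · obtain ⟨w, -, rfl⟩ := hy
      exact (a w).2
    · have h1 : ∀ w : (⊥ : Subgroup Ω), (w : Ω) = 1 := fun w => Subgroup.mem_bot.1 w.2
      rw [h1 (a ⟨φ x, hx⟩)]
      simp only [h1 (a ⟨(x : Ω), hP x.2⟩)]
      exact map_one _
  · refine ⟨1, one_mem _, conjHom P 1, (innerFusionSystem ⊥).conj_mem hP (Subgroup.one_mem _),
      fun x hx => ?_⟩
    rw [hom_bot_fix hP hφ x]
    simp [conjHom]
  · refine ⟨1, one_mem _, fun x => ?_, fun c _ => ?_⟩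
    · have h1 : ∀ w : (⊥ : Subgroup Ω), (w : Ω) = 1 := fun w => Subgroup.mem_bot.1 w.2
      rw [h1 (α x)]
      exact h1 x
    · simp

theorem inner_bot_layer (hS : IsPGroup p S) (hF : F.IsSaturated p)
    (hno : ¬ ∃ (T : Subgroup Ω) (C : FusionSystem T), C.IsComponentIn F p) :
    (innerFusionSystem (⊥ : Subgroup Ω)).IsLayerOf F p := by
  refine ⟨inner_bot_normal hS hF, fun U C hC => (hno ⟨U, C, hC⟩).elim, fun R D _ _ P φ hφ => ?_⟩
  exact mem_hom_of_isMap (isMap_id D ((hφ.1 : P ≤ ⊥).trans bot_le))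
    fun x => hom_bot_fix hφ.1 hφ x

/-- The inner system is its central product with the trivial system. -/
theorem centralProduct_bot (hS : IsPGroup p S) {Q : Subgroup Ω} (hQ : Q ≤ S) :
    IsCentralProductOf (innerFusionSystem Q) (innerFusionSystem (⊥ : Subgroup Ω))
      (innerFusionSystem Q) := by
  haveI : Finite Q := finite_of_le hQ
  haveI : Finite (⊥ : Subgroup Ω) := finite_of_le (bot_le : (⊥ : Subgroup Ω) ≤ S)
  obtain ⟨D₀, hD₀⟩ := S5136.result p (hS.to_le hQ) IsPGroup.of_bot (innerFusionSystem Q)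
    (innerFusionSystem (⊥ : Subgroup Ω))
  haveI : Finite (Q.prod (⊥ : Subgroup Ω)) := Finite.of_equiv _ (Q.prodEquiv ⊥).symm.toEquiv
  let θ : ↥(Q.prod (⊥ : Subgroup Ω)) →* Ω :=
    (MonoidHom.fst Ω Ω).comp (Q.prod (⊥ : Subgroup Ω)).subtype
  have hθ : ∀ s : Q.prod (⊥ : Subgroup Ω), θ s = (s : Ω × Ω).1 := fun _ => rfl
  have hsnd : ∀ s : Q.prod (⊥ : Subgroup Ω), (s : Ω × Ω).2 = 1 := fun s => Subgroup.mem_bot.1 s.2.2
  refine ⟨D₀, hD₀, ⊥, θ, bot_le, bot_inf_eq _, bot_inf_eq _, fun x _ => rfl, fun y hy => ?_, bot_le,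
    fun s => ?_, le_antisymm ?_ fun y hy => ⟨⟨(y, 1), hy, Subgroup.one_mem _⟩, rfl⟩, fun P' φ' => ?_⟩
  · rw [hθ]
    exact (Subgroup.mem_bot.1 hy.2).symm
  · rw [hθ, Subgroup.mem_bot]
    exact ⟨fun h => Prod.ext h (hsnd s), fun h => by rw [h]; rfl⟩
  · rintro _ ⟨s, rfl⟩
    exact s.2.1
  constructor
  · rintro ⟨hP', g, hg, hge⟩
    refine ⟨hP', conjHom _ ((g, 1) : Ω × Ω), D₀.conj_mem (preimageAlong_le θ P')
      ⟨hg, Subgroup.one_mem _⟩, preimageAlong_le θ P', fun x => ?_, fun x => ?_, fun x => ?_⟩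
    · exact (D₀.le_of_mem (D₀.conj_mem (preimageAlong_le θ P')
        (show ((g, 1) : Ω × Ω) ∈ Q.prod ⊥ from ⟨hg, Subgroup.one_mem _⟩))).2 x
    · obtain ⟨s, hs, hse⟩ := x.2
      rw [show (⟨(x : Ω × Ω), preimageAlong_le θ P' x.2⟩ : Q.prod (⊥ : Subgroup Ω)) = s from
        Subtype.ext hse.symm]
      exact hs
    · refine (hge _).trans ?_
      simp [hθ, conjHom]
  · rintro ⟨hP', φ, hφ, hle, hφS, hmem, hind⟩
    obtain ⟨-, φ₁, hφ₁, φ₂, -, he⟩ := (hD₀ _ φ).1 hφ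
    obtain ⟨-, g, hg, hge⟩ := hφ₁
    refine ⟨hP', g, hg, fun y => ?_⟩
    have hy : ((y : Ω), (1 : Ω)) ∈ preimageAlong θ P' :=
      ⟨⟨((y : Ω), 1), hP' y.2, Subgroup.one_mem _⟩, y.2, rfl⟩
    have h1 := hind ⟨_, hy⟩
    rw [show (⟨θ ⟨((y : Ω), 1), hle hy⟩, hmem ⟨_, hy⟩⟩ : P') = y from Subtype.ext rfl] at h1
    rw [h1, hθ]
    show (φ ⟨_, hy⟩).1 = _
    rw [he ⟨_, hy⟩ ⟨_, hy, rfl⟩ ⟨_, hy, rfl⟩]
    exact hge _

theorem constrained_iff_fitting (hS : IsPGroup p S) (hF : F.IsSaturated p) :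
    F.IsConstrained p ↔ (innerFusionSystem F.core).IsGeneralizedFittingOf F p := by
  rw [Lift.constrained_iff hS hF]
  constructor
  · exact fun hno => ⟨⊥, innerFusionSystem ⊥, inner_bot_layer hS hF hno,
      centralProduct_bot hS (isNormal_core F).1⟩
  · rintro ⟨T, E, hE, hprod⟩ ⟨U, C, hC⟩
    obtain ⟨D₀, -, Z, θ, -, -, -, -, hθ2, -, -, hrange, -⟩ := hprod
    have hsub := hE.2.1 U C hC
    have hUT : U ≤ T := (H91.CentFocal.isMap_of_sub hsub (isMap_id C le_rfl)).le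
    have hTQ : T ≤ F.core := fun y hy => by
      rw [← hrange]
      exact ⟨⟨(1, y), Subgroup.one_mem _, hy⟩, hθ2 y _⟩
    have hU := ComponentFix.le_centralizerIn hC.1 hS hF hC.2 (isNormal_core F)
    haveI : Finite U := finite_of_le (hU.trans centralizerIn_le)
    refine S5148.main (hS.to_le (hU.trans centralizerIn_le)) hC.2 ⟨⟨fun a b => Subtype.ext ?_⟩⟩
    exact (FusionSys.mem_centralizerIn.1 (hU b.2)).2 a (hTQ (hUT a.2))

end Cfsg.Agent.H89.FittingInner
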