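import Cfsg.Agent.H89.SelfNormalizing
import Cfsg.Agent.H89.MathieuTwoData
import Cfsg.Agent.Golay.Mathieu

/-!
Kernel-checked certificates that a Sylow 2-subgroup of a subgroup of the automorphism group of the
Golay code is self-normalizing and rigid under fusion.
-/

set_option autoImplicit false

namespace Cfsg.Agent.H89.MathieuTwo

open Cfsg Cfsg.Agent.Golay
open scoped Pointwise

/-- Membership of a table in a list, up to equality on the points. -/
def memT (L : List ℕ) (t : ℕ) : Bool := L.any fun u => tblEq u t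

/-- All products of the polycyclic generators. -/
def elems : List (ℕ × ℕ) → List ℕ
  | [] => [idTbl]
  | g :: rest => elems rest ++ (elems rest).map (tblMul g.1)

/-- Each generator squares into, normalises and lies outside the group of the later ones. -/
def checkPC (E : List ℕ) (F : ℕ) : List (ℕ × ℕ) → Bool
  | [] => true
  | g :: rest => inStab E F g.1 && inStab E F g.2 && tblEq (tblMul g.1 g.2) idTbl &&
      memT (elems rest) (tblMul g.1 g.1) && !memT (elems rest) g.1 &&
      (rest.all fun h => memT (elems rest) (tblMul (tblMul g.1 h.1) g.2)) && checkPC E F rest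

/-- Orbit of a position under the elements of `L` fixing `F`. -/
def orbQ (L : List ℕ) (F y : ℕ) : ℕ := orbitMask (L.filter fun t => fixesMask t F) y

/-- An invariant set: the fixed points of `z`, or the only orbit of its length. -/
def checkInv (L : List ℕ) (z e : ℕ) : Bool :=
  ((List.range 24).all fun i => e.testBit i == (app z i == i)) && decide (e < 2 ^ 24) ||
    ((List.range 24).any fun b => orbQ L 0 b == e) &&
      (List.range 24).all fun y => !(popCnt (orbQ L 0 y) == popCnt e) || orbQ L 0 y == e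

/-- Steps `(b, O₂)`: the orbit of `b` can only be mapped to itself or `O₂`. -/
def checkSteps (L : List ℕ) (z : ℕ) (E : List ℕ) : ℕ → List (ℕ × ℕ) → Bool
  | F, [] => isTrivialStab E F
  | F, (b, O2) :: rest => decide (b < 24) && !F.testBit b &&
      ((List.range 24).all fun y => F.testBit y ||
        !((E.all fun e => e.testBit y == e.testBit b) &&
          popCnt (orbQ L F y) == popCnt (orbQ L F b)) ||
        orbQ L F y == orbQ L F b || orbQ L F y == O2) &&
      checkSteps L z E (F ||| 2 ^ b ||| 2 ^ (app z b)) rest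

/-- Product of the known elements along a word. -/
def wordT (known : List ℕ) (w : List ℕ) : ℕ :=
  w.foldr (fun i acc => tblMul (known.getD i idTbl) acc) idTbl

/-- Fusion steps: each `(g, gi, w)` conjugates the word `w` into the group. -/
def runFus (L : List ℕ) (E : List ℕ) (F : ℕ) :
    List ℕ → List (ℕ × ℕ × List ℕ) → Option (List ℕ)
  | known, [] => some known
  | known, (g, gi, w) :: rest =>
      if inStab E F g && inStab E F gi && tblEq (tblMul g gi) idTbl &&
          memT L (tblMul (tblMul g (wordT known w)) gi) then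
        runFus L E F (known ++ [tblMul (tblMul g (wordT known w)) gi]) rest
      else none

/-- The whole certificate. -/
def checkAll (E : List ℕ) (F : ℕ) (pc : List (ℕ × ℕ)) (z : ℕ) (fus : List (ℕ × ℕ × List ℕ))
    (words : List (List ℕ)) (inv : List ℕ) (steps : List (ℕ × ℕ)) : Bool :=
  checkPC E F pc && inStab E F z && !tblEq z idTbl && memT (elems pc) z &&
    ((elems pc).all fun t => !(pc.all fun g => tblEq (tblMul g.1 t) (tblMul t g.1)) ||
      tblEq t idTbl || tblEq t z) &&
    (pc.all fun g => tblEq (tblMul g.1 z) (tblMul z g.1)) &&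
    (match runFus (elems pc) E F [z] fus with
      | some known => (pc.all fun g => memT (words.map (wordT known)) g.1)
      | none => false) &&
    (inv.all (checkInv (elems pc) z)) && checkSteps (elems pc) z (inv ++ E) F steps

variable {E : List ℕ} {F : ℕ}

lemma mkPerm_eq_of_memT {L : List ℕ} {t : ℕ} (hL : ∀ u ∈ L, validT u = true) (ht : validT t = true)
    (h : memT L t = true) : ∃ u ∈ L, mkPerm u = mkPerm t := by
  obtain ⟨u, hu, he⟩ := List.any_eq_true.1 h
  exact ⟨u, hu, mkPerm_eq_of_tblEq (hL u hu) ht he⟩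

lemma tblEq_of_mkPerm_eq {A B : ℕ} (hA : validT A = true) (hB : validT B = true)
    (h : mkPerm A = mkPerm B) : tblEq A B = true := by
  rw [tblEq, List.all_eq_true]
  intro i hi
  rw [List.mem_range] at hi
  rw [beq_iff_eq, ← idx_pt _ ((validT_bijective hA).2 i hi), ← mkPerm_pt hA hi, h, mkPerm_pt hB hi,
    idx_pt _ ((validT_bijective hB).2 i hi)]

lemma valid_inStab {t : ℕ} (h : inStab E F t = true) : validT t = true := by
  simp only [inStab, Bool.and_eq_true] at h
  exact validT_of_inM24 h.1.1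

lemma inv_of_tblEq {g gi : ℕ} (hg : validT g = true) (hgi : validT gi = true)
    (h : tblEq (tblMul g gi) idTbl = true) : mkPerm gi = (mkPerm g)⁻¹ := by
  have := mkPerm_eq_of_tblEq (tblMul_spec hg hgi).1 idTbl_spec.1 h
  rw [(tblMul_spec hg hgi).2, idTbl_spec.2] at this
  exact eq_inv_of_mul_eq_one_right this

lemma elems_valid : ∀ pc : List (ℕ × ℕ), checkPC E F pc = true →
    ∀ t ∈ elems pc, validT t = true ∧ mkPerm t ∈ stabGrp E F
  | [], _, t, ht => by
    rw [elems, List.mem_singleton] at ht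
    subst ht
    exact ⟨idTbl_spec.1, by rw [idTbl_spec.2]; exact one_mem _⟩
  | g :: rest, h, t, ht => by
    simp only [checkPC, Bool.and_eq_true] at h
    rcases List.mem_append.1 ht with ht | ht
    · exact elems_valid rest h.2 t ht
    · obtain ⟨u, hu, rfl⟩ := List.mem_map.1 ht
      obtain ⟨hu1, hu2⟩ := elems_valid rest h.2 u hu
      have hg := valid_inStab h.1.1.1.1.1.1
      refine ⟨(tblMul_spec hg hu1).1, ?_⟩
      rw [(tblMul_spec hg hu1).2]
      exact mul_mem (mem_stabGrp_of_inStab h.1.1.1.1.1.1) hu2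

lemma idTbl_mem_elems : ∀ pc : List (ℕ × ℕ), idTbl ∈ elems pc
  | [] => by simp [elems]
  | _ :: rest => List.mem_append_left _ (idTbl_mem_elems rest)

lemma fst_mem_elems : ∀ (pc : List (ℕ × ℕ)), checkPC E F pc = true → ∀ g ∈ pc,
    validT g.1 = true ∧ mkPerm g.1 ∈ {σ | ∃ t ∈ elems pc, mkPerm t = σ}
  | [], _, g, hg => by simp at hg
  | a :: rest, h, g, hg => by
    simp only [checkPC, Bool.and_eq_true] at h
    rcases List.mem_cons.1 hg with rfl | hg
    · have hv := valid_inStab h.1.1.1.1.1.1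
      refine ⟨hv, tblMul g.1 idTbl, List.mem_append_right _ (List.mem_map_of_mem ?_), ?_⟩
      · exact idTbl_mem_elems rest
      · rw [(tblMul_spec hv idTbl_spec.1).2, idTbl_spec.2, mul_one]
    · obtain ⟨hv, t, ht, he⟩ := fst_mem_elems rest h.2 g hg
      exact ⟨hv, t, List.mem_append_left _ ht, he⟩

/-- The listed elements form a group of order `2 ^ length`. -/
theorem exists_group : ∀ pc : List (ℕ × ℕ), checkPC E F pc = true →
    ∃ H : Subgroup (Equiv.Perm GolayPt), (∀ σ, σ ∈ H ↔ ∃ t ∈ elems pc, mkPerm t = σ) ∧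
      H = Subgroup.closure {σ | ∃ g ∈ pc, mkPerm g.1 = σ} ∧ Nat.card H = 2 ^ pc.length
  | [], _ => by
    refine ⟨⊥, fun σ => ?_, ?_, by simp⟩
    · simp [elems, idTbl_spec.2, eq_comm]
    · simp
  | g :: rest, h => by
    have hall := elems_valid (g :: rest) h
    simp only [checkPC, Bool.and_eq_true, Bool.not_eq_true'] at h
    obtain ⟨⟨⟨⟨⟨⟨hg, hgi⟩, hinv⟩, hsq⟩, hnot⟩, hnorm⟩, hrest⟩ := h
    obtain ⟨H, hH, hHc, hcard⟩ := exists_group rest hrest
    have hval : ∀ u ∈ elems rest, validT u = true := fun u hu => (elems_valid rest hrest u hu).1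
    have hgv := valid_inStab hg
    have hgiv := valid_inStab hgi
    set a := mkPerm g.1 with ha
    have hai : mkPerm g.2 = a⁻¹ := inv_of_tblEq hgv hgiv hinv
    have hmemT : ∀ t, validT t = true → memT (elems rest) t = true → mkPerm t ∈ H := fun t ht hm =>
      (hH _).2 (by
        obtain ⟨u, hu, he⟩ := mkPerm_eq_of_memT hval ht hm
        exact ⟨u, hu, he⟩)
    have hsqH : a * a ∈ H := by
      have := hmemT _ (tblMul_spec hgv hgv).1 hsq
      rwa [(tblMul_spec hgv hgv).2] at this
    have hconj : ∀ x ∈ H, a * x * a⁻¹ ∈ H := by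
      intro x hx
      have : H ≤ H.comap (MulAut.conj a).toMonoidHom := by
        conv_lhs => rw [hHc]
        rw [Subgroup.closure_le]
        rintro _ ⟨b, hb, rfl⟩
        have hbv := (fst_mem_elems rest hrest b hb).1
        have h1 := tblMul_spec hgv hbv
        have h2 := tblMul_spec h1.1 hgiv
        have := hmemT _ h2.1 (List.all_eq_true.1 hnorm b hb)
        rw [h2.2, h1.2, hai] at this
        exact this
      exact this hx
    have hconj' : ∀ x ∈ H, a⁻¹ * x * a ∈ H := fun x hx => by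
      rw [show a⁻¹ * x * a = (a * a)⁻¹ * (a * x * a⁻¹) * (a * a) by group]
      exact mul_mem (mul_mem (inv_mem hsqH) (hconj x hx)) hsqH
    have haH : a ∉ H := by
      intro ha'
      obtain ⟨u, hu, he⟩ := (hH a).1 ha'
      have : memT (elems rest) g.1 = true :=
        List.any_eq_true.2 ⟨u, hu, tblEq_of_mkPerm_eq (hval u hu) hgv he⟩
      rw [this] at hnot
      simp at hnot
    let K : Subgroup (Equiv.Perm GolayPt) :=
      { carrier := {σ | σ ∈ H ∨ a⁻¹ * σ ∈ H}
        one_mem' := Or.inl (one_mem H)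
        mul_mem' := by
          intro x y hx hy
          rcases hx with hx | hx <;> rcases hy with hy | hy
          · exact Or.inl (mul_mem hx hy)
          · right
            rw [show a⁻¹ * (x * y) = (a⁻¹ * x * a) * (a⁻¹ * y) by group]
            exact mul_mem (hconj' x hx) hy
          · right
            rw [show a⁻¹ * (x * y) = (a⁻¹ * x) * y by group]
            exact mul_mem hx hy
          · left
            rw [show x * y = (a * (a⁻¹ * x) * a⁻¹) * (a * a) * (a⁻¹ * y) by group]
            exact mul_mem (mul_mem (hconj _ hx) hsqH) hy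
        inv_mem' := by
          intro x hx
          rcases hx with hx | hx
          · exact Or.inl (inv_mem hx)
          · right
            rw [show a⁻¹ * x⁻¹ = (a⁻¹ * (a⁻¹ * x)⁻¹ * a) * (a * a)⁻¹ by group]
            exact mul_mem (hconj' _ (inv_mem hx)) (inv_mem hsqH) }
    have hmemK : ∀ σ, σ ∈ K ↔ ∃ t ∈ elems (g :: rest), mkPerm t = σ := by
      intro σ
      show σ ∈ H ∨ a⁻¹ * σ ∈ H ↔ _
      rw [hH, hH]
      constructor
      · rintro (⟨t, ht, rfl⟩ | ⟨t, ht, he⟩)
        · exact ⟨t, List.mem_append_left _ ht, rfl⟩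
        · exact ⟨_, List.mem_append_right _ (List.mem_map_of_mem ht), by
            rw [(tblMul_spec hgv (hval t ht)).2, he, ← ha, mul_inv_cancel_left]⟩
      · rintro ⟨t, ht, rfl⟩
        rcases List.mem_append.1 ht with ht | ht
        · exact Or.inl ⟨t, ht, rfl⟩
        · obtain ⟨u, hu, rfl⟩ := List.mem_map.1 ht
          exact Or.inr ⟨u, hu, by rw [(tblMul_spec hgv (hval u hu)).2, ← ha, inv_mul_cancel_left]⟩
    refine ⟨K, hmemK, ?_, ?_⟩
    · apply le_antisymm
      · intro σ hσ
        have hle : H ≤ Subgroup.closure {σ | ∃ b ∈ g :: rest, mkPerm b.1 = σ} := by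
          rw [hHc]
          exact Subgroup.closure_mono fun σ ⟨b, hb, he⟩ => ⟨b, List.mem_cons_of_mem _ hb, he⟩
        rcases hσ with hσ | hσ
        · exact hle hσ
        · rw [show σ = a * (a⁻¹ * σ) by group]
          exact mul_mem (Subgroup.subset_closure (k := _) ⟨g, List.mem_cons_self, rfl⟩) (hle hσ)
      · rw [Subgroup.closure_le]
        rintro _ ⟨b, hb, rfl⟩
        rcases List.mem_cons.1 hb with rfl | hb
        · exact Or.inr (by rw [inv_mul_cancel]; exact one_mem _)
        · exact Or.inl ((hH _).2 (fst_mem_elems rest hrest b hb).2)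
    · have hle : H ≤ K := fun x hx => Or.inl hx
      have hidx : (H.subgroupOf K).index = 2 := by
        rw [Subgroup.index_eq_two_iff]
        refine ⟨⟨a⁻¹, K.inv_mem (Or.inr (by rw [inv_mul_cancel]; exact one_mem _))⟩, fun x => ?_⟩
        simp only [Subgroup.mem_subgroupOf, Subgroup.coe_mul]
        rcases x.2 with hx | hx
        · refine Or.inr ⟨hx, fun h => haH ?_⟩
          have h2 : a * a⁻¹⁻¹ ∈ H := by rw [inv_inv]; exact hsqH
          have h3 : (x : Equiv.Perm GolayPt)⁻¹ * ((x : Equiv.Perm GolayPt) * a⁻¹) ∈ H :=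
            mul_mem (inv_mem hx) h
          rw [inv_mul_cancel_left] at h3
          simpa using inv_mem h3
        · refine Or.inl ⟨?_, fun h => haH ?_⟩
          · rw [show (x : Equiv.Perm GolayPt) * a⁻¹ = a * (a⁻¹ * x) * a⁻¹ by group]
            exact hconj _ hx
          · simpa using mul_mem h (inv_mem hx)
      rw [← Subgroup.card_mul_index (H.subgroupOf K), hidx,
        Nat.card_congr (Subgroup.subgroupOfEquivOfLe hle).toEquiv, hcard, List.length_cons, pow_succ]

/-- Meaning of `orbQ`. -/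
lemma mem_orbQ {L : List ℕ} {H : Subgroup (Equiv.Perm GolayPt)}
    (hH : ∀ σ, σ ∈ H ↔ ∃ t ∈ L, mkPerm t = σ) (hv : ∀ t ∈ L, validT t = true) {F b : ℕ}
    (hb : b < 24) (q : GolayPt) : q ∈ ptSet (orbQ L F b) ↔
      ∃ σ ∈ H, (∀ p ∈ ptSet F, σ p = p) ∧ σ (pt b) = q := by
  rw [mem_ptSet, orbQ, testBit_orbitMask]
  simp only [List.mem_filter]
  constructor
  · rintro ⟨t, ⟨ht, hf⟩, he⟩
    refine ⟨mkPerm t, (hH _).2 ⟨t, ht, rfl⟩, fun p hp => ?_, by
      rw [mkPerm_pt (hv t ht) hb, he, pt_idx]⟩
    have h4 := List.all_eq_true.1 hf (idx p) (List.mem_range.2 (idx_lt p))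
    rw [mem_ptSet.1 hp, Bool.not_true, Bool.false_or] at h4
    rw [mkPerm_apply (hv t ht), eq_of_beq h4, pt_idx]
  · rintro ⟨σ, hσ, hfix, rfl⟩
    obtain ⟨t, ht, rfl⟩ := (hH σ).1 hσ
    refine ⟨t, ⟨ht, List.all_eq_true.2 fun i hi => ?_⟩, ?_⟩
    · rw [List.mem_range] at hi
      by_cases hFi : F.testBit i = true
      · have hp := hfix (pt i) (by rw [mem_ptSet, idx_pt i hi]; exact hFi)
        rw [mkPerm_pt (hv t ht) hi] at hp
        rw [hFi, (pt_inj ((validT_bijective (hv t ht)).2 i hi) hi).1 hp]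
        simp
      · simp [hFi]
    · rw [mkPerm_pt (hv t ht) hb, idx_pt _ ((validT_bijective (hv t ht)).2 b hb)]

lemma orbQ_lt {L : List ℕ} (hv : ∀ t ∈ L, validT t = true) {F b : ℕ} (hb : b < 24) :
    orbQ L F b < 2 ^ 24 := by
  apply Nat.lt_pow_two_of_testBit
  intro j hj
  by_contra h
  rw [Bool.not_eq_false, orbQ, testBit_orbitMask] at h
  obtain ⟨t, ht, rfl⟩ := h
  have := (validT_bijective (hv t (List.mem_filter.1 ht).1)).2 b hb
  omega

/-- An element normalising `H` and fixing `F` carries orbits to orbits. -/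
lemma smul_orbQ {L : List ℕ} {H : Subgroup (Equiv.Perm GolayPt)}
    (hH : ∀ σ, σ ∈ H ↔ ∃ t ∈ L, mkPerm t = σ) (hv : ∀ t ∈ L, validT t = true) {F b : ℕ}
    (hb : b < 24) {m : Equiv.Perm GolayPt}
    (hm : m ∈ Subgroup.normalizer (H : Set (Equiv.Perm GolayPt)))
    (hF : ∀ p ∈ ptSet F, m p = p) :
    m • ptSet (orbQ L F b) = ptSet (orbQ L F (idx (m (pt b)))) := by
  have hFi : ∀ p ∈ ptSet F, m⁻¹ p = p := fun p hp => by
    rw [Equiv.Perm.coe_inv, Equiv.symm_apply_eq, hF p hp]
  ext q
  rw [mem_smul_finset_iff, mem_orbQ hH hv hb, mem_orbQ hH hv (idx_lt _), pt_idx]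
  constructor
  · rintro ⟨σ, hσ, hfix, he⟩
    refine ⟨m * σ * m⁻¹, (Subgroup.mem_normalizer_iff.1 hm σ).1 hσ, fun p hp => ?_, ?_⟩
    · rw [Equiv.Perm.mul_apply, Equiv.Perm.mul_apply, hFi p hp, hfix p hp, hF p hp]
    · simp only [Equiv.Perm.mul_apply, Equiv.Perm.coe_inv, Equiv.symm_apply_apply, he,
        Equiv.apply_symm_apply]
  · rintro ⟨σ, hσ, hfix, rfl⟩
    refine ⟨m⁻¹ * σ * m, ?_, fun p hp => ?_, ?_⟩
    · apply (Subgroup.mem_normalizer_iff.1 hm _).2
      rwa [show m * (m⁻¹ * σ * m) * m⁻¹ = σ by group]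
    · rw [Equiv.Perm.mul_apply, Equiv.Perm.mul_apply, hF p hp, hfix p hp, hFi p hp]
    · simp only [Equiv.Perm.mul_apply, Equiv.Perm.coe_inv]

/-- Sets checked to be invariant are invariant. -/
lemma smul_inv_set {L : List ℕ} {H : Subgroup (Equiv.Perm GolayPt)}
    (hH : ∀ σ, σ ∈ H ↔ ∃ t ∈ L, mkPerm t = σ) (hv : ∀ t ∈ L, validT t = true) {z : ℕ}
    (hz : validT z = true) {e : ℕ} (he : checkInv L z e = true) {m : Equiv.Perm GolayPt}
    (hm : m ∈ Subgroup.normalizer (H : Set (Equiv.Perm GolayPt)))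
    (hc : m * mkPerm z = mkPerm z * m) : m • ptSet e = ptSet e := by
  simp only [checkInv, Bool.or_eq_true, Bool.and_eq_true, List.all_eq_true, List.any_eq_true,
    decide_eq_true_eq, List.mem_range] at he
  rcases he with ⟨hfix, -⟩ | ⟨⟨b, hb, hbe⟩, huniq⟩
  · have hmem : ∀ p, p ∈ ptSet e ↔ mkPerm z p = p := by
      intro p
      rw [mem_ptSet, eq_of_beq (hfix (idx p) (idx_lt p)), beq_iff_eq, mkPerm_apply hz]
      constructor
      · intro h; rw [h, pt_idx]
      · intro h
        have := congrArg idx h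
        rwa [idx_pt _ ((validT_bijective hz).2 _ (idx_lt p))] at this
    ext p
    rw [mem_smul_finset_iff, hmem, hmem]
    have hcp := DFunLike.congr_fun hc (m.symm p)
    simp only [Equiv.Perm.mul_apply, Equiv.apply_symm_apply] at hcp
    constructor
    · intro h
      rw [h, Equiv.apply_symm_apply] at hcp
      exact hcp.symm
    · intro h
      rw [h] at hcp
      exact m.injective (hcp.trans (Equiv.apply_symm_apply m p).symm)
  · have hbe := eq_of_beq hbe
    have h0 : ∀ p ∈ ptSet 0, m p = p := by simp [ptSet_zero]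
    have hs := smul_orbQ hH hv hb hm h0
    rw [hbe] at hs
    have hcard : popCnt (orbQ L 0 (idx (m (pt b)))) = popCnt e := by
      rw [← card_ptSet, ← card_ptSet, ← hs, Finset.card_smul_finset]
    have := huniq (idx (m (pt b))) (idx_lt _)
    simp only [hcard, beq_self_eq_true, Bool.not_true, Bool.false_eq_true, false_or] at this
    rw [hs, eq_of_beq this]

/-- A group normalised by an element with a `2`-power in it, inside a group where it is Sylow. -/
lemma mem_of_pow_two_mem {α : Type*} [Group α] [Finite α] {H X : Subgroup α} {k n : ℕ} (hHX : H ≤ X)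
    (hcard : Nat.card H = 2 ^ k) (hn : ¬ 2 ∣ n) (hX : Nat.card X = 2 ^ k * n) {m : α}
    (hm : m ∈ Subgroup.normalizer (H : Set α)) (hmX : m ∈ X) {a : ℕ} (ha : m ^ (2 ^ a) = 1) :
    m ∈ H := by
  have hz : IsPGroup 2 (Subgroup.zpowers m) := by
    rintro ⟨_, i, rfl⟩
    refine ⟨a, Subtype.ext ?_⟩
    show (m ^ i) ^ (2 ^ a) = 1
    rw [← zpow_natCast, ← zpow_mul, mul_comm, zpow_mul, zpow_natCast, ha, one_zpow]
  have hJ : IsPGroup 2 (H ⊔ Subgroup.zpowers m : Subgroup α) :=
    (IsPGroup.of_card hcard).to_sup_of_normal_left' hz (Subgroup.zpowers_le.2 hm)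
  haveI : Fact (Nat.Prime 2) := ⟨Nat.prime_two⟩
  obtain ⟨j, hj⟩ := IsPGroup.iff_card.1 hJ
  have hdvd : (2 ^ j : ℕ) ∣ 2 ^ k * n := by
    rw [← hj, ← hX]
    exact Subgroup.card_dvd_of_le (sup_le hHX (Subgroup.zpowers_le.2 hmX))
  have hjk : j ≤ k := (Nat.pow_dvd_pow_iff_le_right (by norm_num : 1 < 2)).1
    ((Nat.Coprime.pow_left j (Nat.prime_two.coprime_iff_not_dvd.2 hn)).dvd_of_dvd_mul_right hdvd)
  have heq : H = H ⊔ Subgroup.zpowers m := Subgroup.eq_of_le_of_card_ge le_sup_left (by
    rw [hcard, hj]; exact Nat.pow_le_pow_right (by norm_num) hjk)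
  rw [heq]
  exact Subgroup.mem_sup_right (Subgroup.mem_zpowers m)

/-- An element with some odd part in a `2`-Sylow subgroup it normalises lies in it. -/
lemma mem_of_odd_parts {α : Type*} [Group α] [Finite α] {H X : Subgroup α} {k n : ℕ} (hHX : H ≤ X)
    (hcard : Nat.card H = 2 ^ k) (hn : ¬ 2 ∣ n) (hX : Nat.card X = 2 ^ k * n) {m : α}
    (hm : m ∈ Subgroup.normalizer (H : Set α)) (hmX : m ∈ X) {a : ℕ} (ha : m ^ (2 ^ a) ∈ H) :
    m ∈ H := by
  refine mem_of_pow_two_mem hHX hcard hn hX hm hmX (a := a + k) ?_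
  rw [pow_add, pow_mul]
  have : (⟨m ^ 2 ^ a, ha⟩ : H) ^ Nat.card H = 1 := pow_card_eq_one'
  rw [hcard] at this
  exact congrArg Subtype.val this

/-- The normaliser induction. -/
theorem normalizer_le_of_steps {L : List ℕ} {H : Subgroup (Equiv.Perm GolayPt)} {k n : ℕ}
    (hH : ∀ σ, σ ∈ H ↔ ∃ t ∈ L, mkPerm t = σ) (hv : ∀ t ∈ L, validT t = true) {z : ℕ}
    (hz : validT z = true) {X : Subgroup (Equiv.Perm GolayPt)} (hHX : H ≤ X)
    (hcard : Nat.card H = 2 ^ k) (hn : ¬ 2 ∣ n) (hX : Nat.card X = 2 ^ k * n)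
    (hstab : ∀ σ ∈ H, ∀ e ∈ E, σ • ptSet e = ptSet e)
    (hM : ∀ σ ∈ H, σ ∈ M24)
    (hHz : ∀ σ ∈ H, σ * mkPerm z = mkPerm z * σ) :
    ∀ (steps : List (ℕ × ℕ)) (F : ℕ), checkSteps L z E F steps = true →
      ∀ m ∈ Subgroup.normalizer (H : Set (Equiv.Perm GolayPt)), m ∈ X → m ∈ stabGrp E F →
        m * mkPerm z = mkPerm z * m → m ∈ H := by
  intro steps
  induction steps with
  | nil =>
    intro F h m _ _ hms _
    rw [stabGrp_eq_bot' h, Subgroup.mem_bot] at hms
    exact hms ▸ one_mem H
  | cons s rest ih =>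
    obtain ⟨b, O2⟩ := s
    intro F h
    simp only [checkSteps, Bool.and_eq_true, decide_eq_true_eq, Bool.not_eq_true',
      List.all_eq_true, List.mem_range] at h
    obtain ⟨⟨⟨hb, hFb⟩, hall⟩, hrest⟩ := h
    set O := orbQ L F b
    -- elements of odd order
    have hodd : ∀ m ∈ Subgroup.normalizer (H : Set (Equiv.Perm GolayPt)), m ∈ X → m ∈ stabGrp E F →
        m * mkPerm z = mkPerm z * m → Odd (orderOf m) → m ∈ H := by
      intro m hmn hmX hms hmz hmo
      obtain ⟨h1, h2, h3⟩ := hms
      have hcase : ∀ m' ∈ Subgroup.normalizer (H : Set (Equiv.Perm GolayPt)), m' ∈ stabGrp E F →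
          m' • ptSet O = ptSet O ∨ m' • ptSet O = ptSet O2 := by
        intro m' hm'n hm's
        obtain ⟨-, hE', hF'⟩ := hm's
        have hs := smul_orbQ hH hv hb hm'n hF'
        set y := idx (m' (pt b)) with hy
        have hyF : F.testBit y = false := by
          by_contra hc
          rw [Bool.not_eq_false] at hc
          have hp : m' (pt b) ∈ ptSet F := mem_ptSet.2 hc
          have h5 : m' (pt b) = pt b := m'.injective (hF' _ hp)
          rw [h5, mem_ptSet, idx_pt b hb] at hp
          rw [hp] at hFb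
          simp at hFb
        have hsig : (E.all fun e => e.testBit y == e.testBit b) = true := by
          rw [List.all_eq_true]
          intro e he
          rw [beq_iff_eq]
          refine Bool.eq_iff_iff.2 ?_
          rw [hy, ← mem_ptSet]
          conv_lhs => rw [← hE' e he, mem_smul_finset_iff, Equiv.symm_apply_apply, mem_ptSet,
            idx_pt b hb]
        have hcnt : popCnt (orbQ L F y) = popCnt O := by
          rw [← card_ptSet, ← card_ptSet, ← hs, Finset.card_smul_finset]
        have h4 := hall y (idx_lt _)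
        rw [hyF, hsig, hcnt] at h4
        simp only [Bool.and_self, beq_self_eq_true, Bool.not_true, Bool.false_or,
          Bool.or_eq_true] at h4
        rcases h4 with h4 | h4
        · exact Or.inl (by rw [hs, eq_of_beq h4])
        · exact Or.inr (by rw [hs, eq_of_beq h4])
      have hms : m ∈ stabGrp E F := ⟨h1, h2, h3⟩
      have hfixO : m • ptSet O = ptSet O := by
        rcases hcase m hmn hms with h | h
        · exact h
        rcases hcase (m * m) (mul_mem hmn hmn) (mul_mem hms hms) with h' | h'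
        · -- the square fixes the orbit and the order is odd
          obtain ⟨j, hj⟩ := hmo
          have hm2 : m = (m * m) ^ (j + 1) := by
            rw [← pow_two, ← pow_mul, show 2 * (j + 1) = orderOf m + 1 by omega, pow_succ,
              pow_orderOf_eq_one, one_mul]
          have hst : m * m ∈ MulAction.stabilizer (Equiv.Perm GolayPt) (ptSet O) := h'
          rw [hm2]
          exact pow_mem hst (j + 1)
        · rw [mul_smul, h, ← h] at h'
          exact MulAction.injective m h'
      obtain ⟨q, hq, hqF, hqb⟩ := (mem_orbQ hH hv hb (m (pt b))).1 (by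
        rw [← hfixO, mem_smul_finset_iff, Equiv.symm_apply_apply, mem_orbQ hH hv hb]
        exact ⟨1, one_mem H, fun _ _ => rfl, rfl⟩)
      have hqn : q ∈ Subgroup.normalizer (H : Set (Equiv.Perm GolayPt)) :=
        Subgroup.le_normalizer hq
      have hkz : q⁻¹ * m * mkPerm z = mkPerm z * (q⁻¹ * m) := by
        have h5 : q⁻¹ * mkPerm z = mkPerm z * q⁻¹ := hHz q⁻¹ (inv_mem hq)
        rw [mul_assoc, hmz, ← mul_assoc, h5, mul_assoc]
      have hkb : (q⁻¹ * m) (pt b) = pt b := by
        rw [Equiv.Perm.mul_apply, ← hqb, ← Equiv.Perm.mul_apply, inv_mul_cancel]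
        rfl
      have hzb : app z b < 24 := (validT_bijective hz).2 b hb
      have hkzb : (q⁻¹ * m) (pt (app z b)) = pt (app z b) := by
        rw [← mkPerm_pt hz hb, ← Equiv.Perm.mul_apply, hkz, Equiv.Perm.mul_apply, hkb]
      have hk := ih _ hrest (q⁻¹ * m) (mul_mem (inv_mem hqn) hmn)
        (mul_mem (inv_mem (hHX hq)) hmX) ?_ hkz
      · have := mul_mem hq hk
        rwa [mul_inv_cancel_left] at this
      · rw [stabGrp_or E _ hzb, stabGrp_or E _ hb]
        refine ⟨⟨?_, hkb⟩, hkzb⟩
        refine (stabGrp E F).mul_mem ((stabGrp E F).inv_mem ?_) hms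
        exact ⟨hM q hq, fun e he => hstab q hq e he, hqF⟩
    intro m hmn hmX hms hmz
    obtain ⟨a, o, ho, hord⟩ := Nat.exists_eq_pow_mul_and_not_dvd (orderOf_pos m).ne' 2 (by norm_num)
    refine mem_of_odd_parts hHX hcard hn hX hmn hmX (a := a) ?_
    refine hodd _ (pow_mem hmn _) (pow_mem hmX _) (pow_mem hms _) ?_ ?_
    · exact ((show Commute m (mkPerm z) from hmz).pow_left _).eq
    · rw [orderOf_pow, hord, Nat.gcd_eq_right (Dvd.intro o rfl),
        Nat.mul_div_cancel_left _ (by positivity)]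
      exact Nat.not_even_iff_odd.1 fun he => ho he.two_dvd

attribute [local irreducible] tblMul idTbl inStab tblEq memT

lemma wordT_mem {T : Subgroup (Equiv.Perm GolayPt)} {known : List ℕ}
    (hk : ∀ t ∈ known, validT t = true ∧ mkPerm t ∈ T) (w : List ℕ) :
    validT (wordT known w) = true ∧ mkPerm (wordT known w) ∈ T := by
  induction w with
  | nil =>
    have h0 : wordT known [] = idTbl := by rw [wordT, List.foldr_nil]
    rw [h0, idTbl_spec.2]
    exact ⟨idTbl_spec.1, one_mem T⟩
  | cons i w ih =>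
    have hi : validT (known.getD i idTbl) = true ∧ mkPerm (known.getD i idTbl) ∈ T := by
      by_cases h : i < known.length
      · rw [List.getD_eq_getElem _ _ h]
        exact hk _ (List.getElem_mem h)
      · rw [List.getD_eq_default _ _ (not_lt.1 h), idTbl_spec.2]
        exact ⟨idTbl_spec.1, one_mem T⟩
    have hs := tblMul_spec hi.1 ih.1
    have h0 : wordT known (i :: w) = tblMul (known.getD i idTbl) (wordT known w) := by
      rw [wordT, List.foldr_cons, wordT]
    rw [h0, hs.2]
    exact ⟨hs.1, mul_mem hi.2 ih.2⟩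

lemma runFus_mem {L : List ℕ} {H T X : Subgroup (Equiv.Perm GolayPt)}
    (hH : ∀ σ, σ ∈ H ↔ ∃ t ∈ L, mkPerm t = σ) (hv : ∀ t ∈ L, validT t = true)
    (hX : ∀ σ ∈ stabGrp E F, σ ∈ X)
    (hcl : ∀ x ∈ T, ∀ g ∈ X, g * x * g⁻¹ ∈ H → g * x * g⁻¹ ∈ T) :
    ∀ (steps : List (ℕ × ℕ × List ℕ)) (known res : List ℕ),
      runFus L E F known steps = some res → (∀ t ∈ known, validT t = true ∧ mkPerm t ∈ T) →
        ∀ t ∈ res, validT t = true ∧ mkPerm t ∈ T := by
  intro steps
  induction steps with
  | nil =>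
    intro known res h hk
    rw [runFus, Option.some.injEq] at h
    exact h ▸ hk
  | cons s rest ih =>
    obtain ⟨g, gi, w⟩ := s
    intro known res h hk
    rw [runFus] at h
    split at h
    · next hc =>
      simp only [Bool.and_eq_true] at hc
      obtain ⟨⟨⟨hg, hgi⟩, hinv⟩, hmem⟩ := hc
      refine ih _ res h fun t ht => ?_
      rcases List.mem_append.1 ht with ht | ht
      · exact hk t ht
      · rw [List.mem_singleton] at ht
        subst ht
        have hgv := valid_inStab hg
        have hgiv := valid_inStab hgi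
        have hw := wordT_mem hk w
        have h1 := tblMul_spec hgv hw.1
        have h2 := tblMul_spec h1.1 hgiv
        have hin : mkPerm (tblMul (tblMul g (wordT known w)) gi) ∈ H := by
          obtain ⟨u, hu, he⟩ := mkPerm_eq_of_memT hv h2.1 hmem
          exact (hH _).2 ⟨u, hu, he⟩
        refine ⟨h2.1, ?_⟩
        rw [h2.2, h1.2, inv_of_tblEq hgv hgiv hinv] at hin ⊢
        exact hcl _ hw.2 _ (hX _ (mem_stabGrp_of_inStab hg)) hin
    · exact absurd h (by simp)

/-- A checked certificate gives simplicity of the fusion system on every Sylow 2-subgroup. -/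
theorem isSimple_of_checkAll {pc : List (ℕ × ℕ)} {z : ℕ} {fus : List (ℕ × ℕ × List ℕ)}
    {words : List (List ℕ)} {inv : List ℕ} {steps : List (ℕ × ℕ)}
    (h : checkAll E F pc z fus words inv steps = true) {X : Subgroup (Equiv.Perm GolayPt)}
    (hXeq : X = stabGrp E F) {n : ℕ} (hn : ¬ 2 ∣ n) (hcard : Nat.card X = 2 ^ pc.length * n)
    (hlen : pc.length ≠ 0) (S : Sylow 2 X) :
    (groupFusionSystem (S : Subgroup X)).IsSimple 2 := by
  haveI : Fact (Nat.Prime 2) := ⟨Nat.prime_two⟩
  simp only [checkAll, Bool.and_eq_true, List.all_eq_true, Bool.or_eq_true, Bool.not_eq_true'] at h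
  obtain ⟨⟨⟨⟨⟨⟨⟨⟨hpc, hzX⟩, hz1⟩, hzm⟩, hzu⟩, hzc⟩, hfus⟩, hinv⟩, hsteps⟩ := h
  obtain ⟨H, hH, hHc, hHcard⟩ := exists_group pc hpc
  have hel := elems_valid pc hpc
  have hv : ∀ t ∈ elems pc, validT t = true := fun t ht => (hel t ht).1
  have hzv := valid_inStab hzX
  have hHX : H ≤ X := fun σ hσ => by
    obtain ⟨t, ht, rfl⟩ := (hH σ).1 hσ
    exact hXeq ▸ (hel t ht).2
  have hzH : mkPerm z ∈ H := by
    obtain ⟨u, hu, he⟩ := mkPerm_eq_of_memT hv hzv hzm
    exact (hH _).2 ⟨u, hu, he⟩
  have hzne : mkPerm z ≠ 1 := fun he => by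
    rw [tblEq_of_mkPerm_eq hzv idTbl_spec.1 (he.trans idTbl_spec.2.symm)] at hz1
    simp at hz1
  have hHz : ∀ σ ∈ H, σ * mkPerm z = mkPerm z * σ := by
    have hle : H ≤ Subgroup.centralizer {mkPerm z} := by
      rw [hHc, Subgroup.closure_le]
      rintro _ ⟨g, hg, rfl⟩
      have hgv := (fst_mem_elems pc hpc g hg).1
      have he := mkPerm_eq_of_tblEq (tblMul_spec hgv hzv).1 (tblMul_spec hzv hgv).1 (hzc g hg)
      rw [(tblMul_spec hgv hzv).2, (tblMul_spec hzv hgv).2] at he
      exact Subgroup.mem_centralizer_singleton_iff.2 he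
    exact fun σ hσ => Subgroup.mem_centralizer_singleton_iff.1 (hle hσ)
  -- the only nontrivial central element
  have hcent : ∀ x ∈ H, x ≠ 1 → (∀ s ∈ H, s * x = x * s) → x = mkPerm z := by
    intro x hx hx1 hxc
    obtain ⟨t, ht, rfl⟩ := (hH x).1 hx
    have htv := hv t ht
    rcases hzu t ht with (hbad | h1) | h1
    · exfalso
      rw [List.all_eq_false] at hbad
      obtain ⟨g, hg, hgt⟩ := hbad
      obtain ⟨hgv, hgm⟩ := fst_mem_elems pc hpc g hg
      refine hgt (tblEq_of_mkPerm_eq (tblMul_spec hgv htv).1 (tblMul_spec htv hgv).1 ?_)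
      rw [(tblMul_spec hgv htv).2, (tblMul_spec htv hgv).2]
      exact hxc _ ((hH _).2 hgm)
    · exact absurd ((mkPerm_eq_of_tblEq htv idTbl_spec.1 h1).trans idTbl_spec.2) hx1
    · exact mkPerm_eq_of_tblEq htv hzv h1
  have hnormz : ∀ m ∈ Subgroup.normalizer (H : Set (Equiv.Perm GolayPt)),
      m * mkPerm z = mkPerm z * m := by
    intro m hm
    have h1 : m * mkPerm z * m⁻¹ = mkPerm z := by
      refine hcent _ ((Subgroup.mem_normalizer_iff.1 hm _).1 hzH) (fun he => hzne ?_) fun s hs => ?_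
      · simpa using he
      · have hs' : m⁻¹ * s * m ∈ H := by
          apply (Subgroup.mem_normalizer_iff.1 hm _).2
          rwa [show m * (m⁻¹ * s * m) * m⁻¹ = s by group]
        calc s * (m * mkPerm z * m⁻¹) = m * ((m⁻¹ * s * m) * mkPerm z) * m⁻¹ := by group
          _ = m * (mkPerm z * (m⁻¹ * s * m)) * m⁻¹ := by rw [hHz _ hs']
          _ = _ := by group
    calc m * mkPerm z = (m * mkPerm z * m⁻¹) * m := by group
      _ = mkPerm z * m := by rw [h1]
  have hinvset : ∀ m ∈ Subgroup.normalizer (H : Set (Equiv.Perm GolayPt)), m ∈ X →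
      ∀ e ∈ inv ++ E, m • ptSet e = ptSet e := by
    intro m hm hmX e he
    rcases List.mem_append.1 he with he | he
    · exact smul_inv_set hH hv hzv (hinv e he) hm (hnormz m hm)
    · exact (hXeq ▸ hmX : m ∈ stabGrp E F).2.1 e he
  have hNH : ∀ m ∈ Subgroup.normalizer (H : Set (Equiv.Perm GolayPt)), m ∈ X → m ∈ H := by
    intro m hm hmX
    refine normalizer_le_of_steps hH hv hzv hHX hHcard hn hcard
      (fun σ hσ => hinvset σ (Subgroup.le_normalizer hσ) (hHX hσ))
      (fun σ hσ => (hXeq ▸ hHX hσ : σ ∈ stabGrp E F).1) hHz steps F hsteps m hm hmX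
      ⟨(hXeq ▸ hmX : m ∈ stabGrp E F).1, hinvset m hm hmX, (hXeq ▸ hmX : m ∈ stabGrp E F).2.2⟩
      (hnormz m hm)
  have hP : Nat.card (H.subgroupOf X) = 2 ^ pc.length := by
    rw [Nat.card_congr (Subgroup.subgroupOfEquivOfLe hHX).toEquiv, hHcard]
  refine isSimple_of_fusionRigid_conj (H.subgroupOf X) (IsPGroup.of_card hP) ?_ ?_ ?_ ?_ S
  · have hi := Subgroup.card_mul_index (H.subgroupOf X)
    rw [hP, hcard] at hi
    rwa [Nat.eq_of_mul_eq_mul_left (by positivity) hi]
  · intro hb
    rw [hb, Subgroup.card_bot] at hP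
    exact hlen (Nat.pow_eq_one.1 hP.symm |>.resolve_left (by norm_num))
  · intro m hm
    refine hNH m (Subgroup.mem_normalizer_iff.2 fun x => ?_) m.2
    constructor
    · intro hx
      exact (Subgroup.mem_normalizer_iff.1 hm ⟨x, hHX hx⟩).1 hx
    · intro hx
      have hxX : x ∈ X := by
        have := mul_mem (mul_mem (inv_mem m.2) (hHX hx)) m.2
        rwa [show (m : Equiv.Perm GolayPt)⁻¹ * (m * x * (m : Equiv.Perm GolayPt)⁻¹) * m = x by group]
          at this
      exact (Subgroup.mem_normalizer_iff.1 hm ⟨x, hxX⟩).2 hx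
  · intro T hT hcl ⟨w, hw, hw1, hwc⟩
    set T' := T.map X.subtype
    have hwz : (w : Equiv.Perm GolayPt) = mkPerm z :=
      hcent _ (hT hw) (fun he => hw1 (Subtype.ext he)) fun s hs =>
        congrArg Subtype.val (hwc ⟨s, hHX hs⟩ hs)
    have hcl' : ∀ x ∈ T', ∀ g ∈ X, g * x * g⁻¹ ∈ H → g * x * g⁻¹ ∈ T' := by
      rintro _ ⟨x, hx, rfl⟩ g hg hgx
      exact ⟨⟨g, hg⟩ * x * (⟨g, hg⟩ : X)⁻¹, hcl x hx ⟨g, hg⟩ hgx, rfl⟩
    revert hfus
    split
    · next known hknown =>
      intro hfus
      have hk := runFus_mem hH hv (fun σ hσ => hXeq ▸ hσ) hcl' fus [z] known hknown (by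
        intro t ht
        rw [List.mem_singleton] at ht
        subst ht
        exact ⟨hzv, w, hw, hwz⟩)
      rw [List.all_eq_true] at hfus
      have hle : H ≤ T' := by
        rw [hHc, Subgroup.closure_le]
        rintro _ ⟨g, hg, rfl⟩
        have hgv := (fst_mem_elems pc hpc g hg).1
        obtain ⟨u, hu, he⟩ := mkPerm_eq_of_memT (fun u hu => by
          obtain ⟨v, -, rfl⟩ := List.mem_map.1 hu
          exact (wordT_mem hk v).1) hgv (hfus g hg)
        obtain ⟨v, -, rfl⟩ := List.mem_map.1 hu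
        exact he ▸ (wordT_mem hk v).2
      refine le_antisymm hT fun x hx => ?_
      obtain ⟨y, hy, hyx⟩ := hle (show (x : Equiv.Perm GolayPt) ∈ H from hx)
      rwa [show x = y from Subtype.ext hyx.symm]
    · intro hfus
      simp at hfus

end Cfsg.Agent.H89.MathieuTwo
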