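import Cfsg.Agent.H89.ResidualNormal
import Cfsg.Agent.H89.Series

/-!
Maps of a normal subsystem extend over every normal subgroup, trivially modulo the subsystem's subgroup.
-/

set_option autoImplicit false
set_option linter.style.haveILetI false
set_option linter.unusedSectionVars false

namespace Cfsg.Agent.H89.NormalExtend

open Cfsg Cfsg.FusionSystem Cfsg.Agent.FusionSys Cfsg.Agent.H91.CentFocal
open Cfsg.Agent.H89.ResidualExtend Cfsg.Agent.H89.ResidualNormal
open Cfsg.FusionSystem (centralizerIn normalizerIn)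

variable {Ω : Type*} [Group Ω] {S T Q : Subgroup Ω} {F : FusionSystem S} {E : FusionSystem T} {p : ℕ}

/-- `f` extends to `P Q` trivially modulo `T`. -/
def Good (F : FusionSystem S) (T Q P : Subgroup Ω) (f : Ω → Ω) : Prop :=
  ∃ g, IsMap F (P ⊔ Q) g ∧ (∀ x ∈ P, g x = f x) ∧ ∀ q ∈ Q, q⁻¹ * g q ∈ T

theorem Good.congr {P : Subgroup Ω} {f g : Ω → Ω} (h : Good F T Q P f) (he : ∀ x ∈ P, g x = f x) :
    Good F T Q P g := by
  obtain ⟨k, hk, hke, hkq⟩ := h
  exact ⟨k, hk, fun x hx => (hke x hx).trans (he x hx).symm, hkq⟩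

theorem Good.mono {P R : Subgroup Ω} {f : Ω → Ω} (h : Good F T Q R f) (hle : P ≤ R) :
    Good F T Q P f := by
  obtain ⟨k, hk, hke, hkq⟩ := h
  exact ⟨k, hk.mono (sup_le_sup_right hle Q), fun x hx => hke x (hle hx), hkq⟩

theorem good_conjMap (hT : F.StronglyClosed T) (hQS : Q ≤ S) {P : Subgroup Ω} (hP : P ≤ S) {t : Ω}
    (ht : t ∈ T) : Good F T Q P (conjMap t) :=
  ⟨conjMap t, isMap_conj F (sup_le hP hQS) (hT.1 ht), fun _ _ => rfl, fun q hq => by
    have := T.mul_mem (conj_mem_closed hT (S.inv_mem (hQS hq)) ht) (T.inv_mem ht)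
    convert this using 1
    rw [conjMap_apply]
    group⟩

variable [Finite S]

theorem image_normal (hQ : F.IsNormal Q) {X : Subgroup Ω} {g : Ω → Ω} (hg : IsMap F X g) (hX : Q ≤ X) :
    g '' (Q : Set Ω) = Q := by
  haveI : Finite Q := finite_of_le hQ.1
  exact (hg.mono hX).image_eq_of_mapsTo fun x hx => mem_of_normal hQ (hg.mono hX) hx hx

theorem Good.comp (hQ : F.IsNormal Q) {P R : Subgroup Ω} {f g : Ω → Ω} (hf : Good F T Q P f)
    (hg : Good F T Q R g) (hm : ∀ x ∈ P, f x ∈ R) : Good F T Q P (g ∘ f) := by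
  obtain ⟨k₁, hk₁, he₁, hq₁⟩ := hf
  obtain ⟨k₂, hk₂, he₂, hq₂⟩ := hg
  have hQm : ∀ q ∈ Q, k₁ q ∈ Q := fun q hq =>
    mem_of_normal hQ hk₁ (Subgroup.mem_sup_right hq) hq
  have hmaps : ∀ y ∈ P ⊔ Q, k₁ y ∈ R ⊔ Q := fun y hy => hk₁.mapsTo_sup
    (fun x hx => Subgroup.mem_sup_left ((he₁ x hx).symm ▸ hm x hx))
    (fun q hq => Subgroup.mem_sup_right (hQm q hq)) hy
  refine ⟨k₂ ∘ k₁, hk₁.comp hk₂ hmaps, fun x hx => ?_, fun q hq => ?_⟩
  · rw [Function.comp_apply, he₁ x hx, he₂ _ (hm x hx), Function.comp_apply]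
  · have := T.mul_mem (hq₁ q hq) (hq₂ _ (hQm q hq))
    rw [mul_assoc, mul_inv_cancel_left] at this
    exact this

theorem Good.inv (hQ : F.IsNormal Q) {P R : Subgroup Ω} {f g : Ω → Ω} (hf : IsIso F P R f)
    (hgf : ∀ x ∈ P, g (f x) = x) (h : Good F T Q P f) : Good F T Q R g := by
  obtain ⟨k, hk, he, hq⟩ := h
  obtain ⟨k', hk', hk'e⟩ := hk.exists_inv
  have hle : R ⊔ Q ≤ imgSub k (P ⊔ Q) := sup_le
    (fun y hy => by
      obtain ⟨x, hx, rfl⟩ := hf.exists_preimage hy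
      exact hk.mem_imgSub.2 ⟨x, Subgroup.mem_sup_left hx, he x hx⟩)
    (fun y hy => by
      obtain ⟨x, hx, hxy⟩ := (image_normal hQ hk le_sup_right).ge hy
      exact hk.mem_imgSub.2 ⟨x, Subgroup.mem_sup_right hx, hxy⟩)
  refine ⟨k', hk'.mono hle, fun y hy => ?_, fun y hy => ?_⟩
  · obtain ⟨x, hx, rfl⟩ := hf.exists_preimage hy
    rw [← he x hx, hk'e x (Subgroup.mem_sup_left hx), he x hx, hgf x hx]
  · obtain ⟨x, hx, rfl⟩ := (image_normal hQ hk le_sup_right).ge hy
    rw [hk'e x (Subgroup.mem_sup_right hx)]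
    have := T.inv_mem (hq x hx)
    rwa [_root_.mul_inv_rev, inv_inv] at this

/-- Transport along an isomorphism of the ambient system. -/
theorem Good.transport (hT : F.StronglyClosed T) (hQ : F.IsNormal Q) {R P : Subgroup Ω} {g : Ω → Ω}
    (hi : IsIso F R P g) {δ : MulAut R} (h : Good F T Q R (autMap δ)) :
    Good F T Q P (autMap (hi.autEquiv δ)) := by
  obtain ⟨G, hG, hGe, hGQ⟩ := (Cfsg.Agent.FusionSys.isNormal_iff.1 hQ).2 R g hi.isMap
  obtain ⟨d, hd, hde, hdq⟩ := h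
  obtain ⟨k, hk, hkG⟩ := hG.exists_inv
  have hle : P ⊔ Q ≤ imgSub G (R ⊔ Q) := sup_le
    (fun y hy => by
      obtain ⟨x, hx, rfl⟩ := hi.exists_preimage hy
      exact hG.mem_imgSub.2 ⟨x, Subgroup.mem_sup_left hx, hGe x hx⟩)
    (fun y hy => by
      obtain ⟨x, hx, hxy⟩ := hGQ.ge hy
      exact hG.mem_imgSub.2 ⟨x, Subgroup.mem_sup_right hx, hxy⟩)
  have hkm : ∀ y ∈ P ⊔ Q, k y ∈ R ⊔ Q := fun y hy => by
    obtain ⟨x, hx, rfl⟩ := hG.mem_imgSub.1 (hle hy)
    rw [hkG x hx]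
    exact hx
  have hdQ : ∀ q ∈ Q, d q ∈ Q := fun q hq => mem_of_normal hQ hd (Subgroup.mem_sup_right hq) hq
  have hdm : ∀ y ∈ R ⊔ Q, d y ∈ R ⊔ Q := fun y hy => hd.mapsTo_sup
    (fun x hx => Subgroup.mem_sup_left ((hde x hx).symm ▸ autMap_mem _ hx))
    (fun q hq => Subgroup.mem_sup_right (hdQ q hq)) hy
  refine ⟨G ∘ (d ∘ k), ((hk.mono hle).comp hd hkm).comp hG fun y hy => hdm _ (hkm y hy),
    fun y hy => ?_, fun y hy => ?_⟩
  · obtain ⟨x, hx, rfl⟩ := hi.exists_preimage hy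
    rw [hi.autMap_autEquiv δ hx, Function.comp_apply, Function.comp_apply, ← hGe x hx,
      hkG x (Subgroup.mem_sup_left hx), hde x hx, hGe _ (autMap_mem _ hx)]
  · obtain ⟨x, hx, rfl⟩ := hGQ.ge hy
    rw [Function.comp_apply, Function.comp_apply, hkG x (Subgroup.mem_sup_right hx)]
    have hxm : x ∈ R ⊔ Q := Subgroup.mem_sup_right hx
    have hz : x⁻¹ * d x ∈ R ⊔ Q := mul_mem (inv_mem hxm) (hdm x hxm)
    have h1 : G (x⁻¹ * d x) ∈ T := (stronglyClosed_iff.1 hT).2 ((R ⊔ Q) ⊓ T) G inf_le_right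
      (hG.mono inf_le_left) _ ⟨hz, hdq x hx⟩
    rwa [hG.map_mul (inv_mem hxm) (hdm x hxm), hG.map_inv hxm] at h1

variable [Fact p.Prime]

/-- The automorphisms of `T` extending to `T Q` trivially modulo `T`. -/
def topSub (hT : F.StronglyClosed T) (hQ : F.IsNormal Q) : Subgroup (MulAut T) where
  carrier := {a | Good F T Q T (autMap a)}
  one_mem' := ⟨id, isMap_id F (sup_le hT.1 hQ.1), fun _ hx => (FusionSys.autMap_one hx).symm,
    fun q _ => by rw [id_eq, inv_mul_cancel]; exact T.one_mem⟩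
  mul_mem' := fun {a b} ha hb => (Good.comp hQ hb ha fun _ hx => autMap_mem b hx).congr
    fun _ hx => autMap_mul a b hx
  inv_mem' := fun {a} ha => by
    haveI : Finite T := finite_of_le hT.1
    obtain ⟨k, hk, he, -⟩ := id ha
    have hi : IsIso F T T (autMap a) :=
      ⟨(hk.mono le_sup_left).congr fun x hx => (he x hx).symm, image_autMap a⟩
    exact Good.inv hQ hi (fun _ hx => S5114.inv_autMap_apply a hx) ha

/-- An automorphism of `T` in a normal subsystem extends to `T Q` trivially modulo `T`. -/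
theorem mem_topSub (hS : IsPGroup p S) (hF : F.IsSaturated p) (hE : E.IsNormalIn F p)
    (hQ : F.IsNormal Q) {α : MulAut T} (hα : α ∈ E.autGroup T) :
    α ∈ topSub hE.1.2.2.2.1 hQ := by
  have hinv := hE.1.2.2
  have hT := hinv.2.1
  have hTS := hT.1
  have hQS := hQ.1
  haveI : Finite T := finite_of_le hTS
  have hTp : IsPGroup p T := hS.to_le hTS
  set X := T ⊔ centralizerIn S T with hX
  have hXS : X ≤ S := sup_cent_le hTS le_rfl
  haveI : Finite X := finite_of_le hXS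
  have hTX : T ≤ X := le_sup_left
  haveI := finite_autGroup F hXS
  obtain ⟨β, hβ, hβT, hβC⟩ := hE.2 α hα
  have hβm : IsMap F X (autMap β) := (mem_autGroup_iff hXS).1 hβ
  have hβe : ∀ t ∈ T, autMap β t = autMap α t := fun t ht => by
    rw [autMap_apply β (hTX ht), autMap_apply α ht]; exact hβT ⟨t, ht⟩
  have hβi : ∀ t ∈ T, autMap β⁻¹ t = autMap α⁻¹ t := fun t ht => by
    have h1 := hβe _ (autMap_mem α⁻¹ ht)
    rw [autMap_inv_apply α ht] at h1
    nth_rw 1 [← h1]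
    exact S5114.inv_autMap_apply β (hTX (autMap_mem _ ht))
  have hBmod : (⟨β, hβ⟩ : F.autGroup X) ∈ modSub hT hXS := fun y hy =>
    modT_sup hT hβm (fun x hx => modT_of_le hT hβm le_rfl hTX hx)
      (fun c hc => by
        rw [autMap_apply β (Subgroup.mem_sup_right hc)]
        exact (hβC ⟨c, Subgroup.mem_sup_right hc⟩ hc).1) hy
  set W := modSub hT hXS ⊓ fixSub F T hTX with hW
  haveI hWn : W.Normal := ⟨fun γ hγ δ => ⟨modSub_conj hT hXS hγ.1, fun x hx => by
    have hδm : IsMap F X (autMap ((δ⁻¹ : F.autGroup X) : MulAut X)) :=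
      (mem_autGroup_iff hXS).1 (δ⁻¹).2
    have h1 : autMap ((δ⁻¹ : F.autGroup X) : MulAut X) x ∈ T :=
      (stronglyClosed_iff.1 hT).2 T _ le_rfl (hδm.mono hTX) x hx
    rw [Subgroup.coe_inv] at h1
    rw [Subgroup.coe_mul, Subgroup.coe_mul, Subgroup.coe_inv, autMap_mul _ _ (hTX hx),
      autMap_mul _ _ (autMap_mem _ (hTX hx)), hγ.2 _ h1, autMap_inv_apply _ (hTX hx)]⟩⟩
  have hWp : IsPGroup p W := by
    intro γ
    obtain ⟨a, ha⟩ := IsPGroup.iff_card.1 hTp
    refine ⟨a, Subtype.ext (Subtype.ext (aut_ext fun y hy => ?_))⟩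
    set γ' : MulAut X := ((γ : F.autGroup X) : MulAut X)
    have hγm : IsMap F X (autMap γ') := (mem_autGroup_iff hXS).1 (γ : F.autGroup X).2
    set d := y⁻¹ * autMap γ' y
    have hd : d ∈ T := γ.2.1 y hy
    have key : ∀ j : ℕ, autMap (γ' ^ j) y = y * d ^ j := by
      intro j
      induction j with
      | zero => rw [pow_zero, FusionSys.autMap_one hy, pow_zero, mul_one]
      | succ j ihj =>
        rw [pow_succ', autMap_mul _ _ hy, ihj, hγm.map_mul hy (hTX (T.pow_mem hd j)),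
          γ.2.2 _ (T.pow_mem hd j), pow_succ', ← mul_assoc y, mul_inv_cancel_left]
    simp only [SubgroupClass.coe_pow, Subgroup.coe_one]
    rw [key, ← ha, show d ^ Nat.card T = 1 from
      congrArg Subtype.val (pow_card_eq_one' (x := (⟨d, hd⟩ : T))), mul_one, FusionSys.autMap_one hy]
  have hXn : F.IsFullyNormalized X := ⟨hXS, fun Y hY => by
    obtain ⟨f, hf⟩ := isConj_iff.1 hY
    have hle : Y ≤ X := fun y hy => by
      obtain ⟨x, hx, rfl⟩ := hf.exists_preimage hy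
      exact maps_top hT hf.isMap hx
    rw [Subgroup.eq_of_le_of_card_ge hle hf.card_eq.le]⟩
  obtain ⟨-, Sy, hSy⟩ := isFullyAutomized_of_isFullyNormalized hS hF hXn
  have hWS : W ≤ (Sy : Subgroup (F.autGroup X)) := le_sylow_of_normal hWp Sy
  rw [hSy] at hWS
  haveI := finite_autGroup E (le_refl T)
  set N := (autInducedBy T T).subgroupOf (E.autGroup T) with hN
  haveI : N.Normal := ⟨fun x hx y => by
    obtain ⟨t, ht, hn, hxe⟩ := mem_autInducedBy.1 hx
    refine mem_autInducedBy.2 ⟨autMap (y : MulAut T) t, autMap_mem _ ht,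
      Subgroup.le_normalizer (autMap_mem _ ht), aut_ext fun z hz => ?_⟩
    have hym : IsMap E T (autMap (y : MulAut T)) := autGroup_set_subgroup le_rfl y.2
    simp only [Subgroup.coe_subtype, Subgroup.coe_mul, Subgroup.coe_inv] at hxe ⊢
    rw [autMap_mul _ _ hz, autMap_mul _ _ (autMap_mem _ hz), hxe, autMap_conjAut _ (autMap_mem _ hz),
      autMap_conjAut _ hz, conjMap_apply, conjMap_apply, hym.map_conj ht (autMap_mem _ hz),
      autMap_inv_apply _ hz]⟩
  have hpn : ¬ p ∣ N.index := by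
    have hTn : E.IsFullyNormalized T := ⟨le_rfl, fun Q hQ => by rw [eq_S_of_isConj hQ]⟩
    exact ((isFullyAutomized_iff hTp).1 (isFullyAutomized_of_isFullyNormalized hTp hE.1.1 hTn)).2
  have hinner : ∀ {x : E.autGroup T}, x ∈ N → (x : MulAut T) ∈ topSub hT hQ := fun {x} hx => by
    obtain ⟨t, ht, hn, hxe⟩ := mem_autInducedBy.1 hx
    exact (good_conjMap hT hQS hTS ht).congr fun z hz => by
      rw [show (x : MulAut T) = conjAut hn from hxe, autMap_conjAut _ hz]
  obtain ⟨g, hg, hge, hgQ⟩ := (Cfsg.Agent.FusionSys.isNormal_iff.1 hQ).2 T (autMap α)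
    (isMap_of_sub hinv.1 (autGroup_set_subgroup le_rfl hα))
  set B : F.autGroup X := ⟨β, hβ⟩
  have hqn : ∀ q ∈ Q, q ∈ Subgroup.normalizer (X : Set Ω) := fun q hq =>
    mem_normalizer_of_maps fun y hy => maps_top hT (isMap_conj F hXS (hQS hq)) hy
  have hdata : ∀ q (hq : q ∈ Q), ∃ h ∈ S, ∃ hh : h ∈ Subgroup.normalizer (X : Set Ω),
      β * conjAut (hqn q hq) * β⁻¹ = conjAut hh ∧
      ∃ t ∈ T, ∀ x ∈ T, autMap (β * conjAut (hqn q hq) * β⁻¹) x = t * (q * x * q⁻¹) * t⁻¹ := by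
    intro q hq
    have hqS := hQS hq
    have hqT : q ∈ Subgroup.normalizer (T : Set Ω) := mem_normalizer_of_maps fun y hy =>
      conj_mem_closed hT hqS hy
    set cq : F.autGroup X := ⟨conjAut (hqn q hq), conjAut_mem_autGroup F hXS ⟨hqS, hqn q hq⟩⟩
    set a := α * conjAut hqT * α⁻¹ * (conjAut hqT)⁻¹ with ha
    have hαF : α ∈ F.autGroup T :=
      mem_autGroup_of_isMap (isMap_of_sub hinv.1 (autGroup_set_subgroup le_rfl hα))
    have hcT : conjAut hqT ∈ F.autGroup T := conjAut_mem_autGroup F hTS ⟨hqS, hqT⟩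
    have haE : a ∈ E.autGroup T := by
      rw [ha, mul_assoc, mul_assoc, ← mul_assoc (conjAut hqT)]
      exact mul_mem hα (WeakResidual.conj_mem_autGroup hinv le_rfl hcT (inv_mem hα))
    have hgq : g q ∈ Q := hgQ.le ⟨q, hq, rfl⟩
    have hgqT : g q ∈ Subgroup.normalizer (T : Set Ω) := mem_normalizer_of_maps fun y hy =>
      conj_mem_closed hT (hQS hgq) hy
    have haQ : a ∈ autInducedBy S T := by
      have h1 : α * conjAut hqT * α⁻¹ = conjAut hgqT := by
        refine aut_ext fun y hy => ?_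
        obtain ⟨x, hx, rfl⟩ := (isIso_autMap hTS hαF).exists_preimage hy
        have hqx : q * x * q⁻¹ ∈ T := conj_mem_closed hT hqS hx
        rw [autMap_mul _ _ hy, S5114.inv_autMap_apply α hx, autMap_mul _ _ hx, autMap_conjAut _ hx,
          conjMap_apply, autMap_conjAut _ hy, conjMap_apply, ← hge x hx, ← hge _ hqx,
          hg.map_conj (Subgroup.mem_sup_right hq) (Subgroup.mem_sup_left hx)]
      rw [ha, h1]
      exact mul_mem (mem_autInducedBy.2 ⟨_, hQS hgq, hgqT, rfl⟩)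
        (inv_mem (mem_autInducedBy.2 ⟨_, hqS, hqT, rfl⟩))
    have haN : (⟨a, haE⟩ : E.autGroup T) ∈ N := by
      obtain ⟨i, hi⟩ := isPGroup_autInducedBy hS T ⟨a, haQ⟩
      have h3 : (⟨a, haE⟩ : E.autGroup T) ^ p ^ i = 1 :=
        Subtype.ext (by rw [SubgroupClass.coe_pow, Subgroup.coe_one]; exact congrArg Subtype.val hi)
      have hb1 := Nat.gcd_eq_gcd_ab (p ^ i) N.index
      rw [(((Fact.out : p.Prime).coprime_iff_not_dvd.2 hpn).pow_left i : Nat.Coprime _ _).gcd_eq_one,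
        Nat.cast_one] at hb1
      rw [← zpow_one (⟨a, haE⟩ : E.autGroup T), hb1, zpow_add, zpow_mul, zpow_mul, zpow_natCast,
        zpow_natCast, h3, one_zpow, one_mul]
      exact zpow_mem (N.pow_index_mem _) _
    obtain ⟨t, ht, htn, hte⟩ := mem_autInducedBy.1 haN
    have htX : t ∈ Subgroup.normalizer (X : Set Ω) := Subgroup.le_normalizer (hTX ht)
    set ct : F.autGroup X := ⟨conjAut htX, conjAut_mem_autGroup F hXS ⟨hTS ht, htX⟩⟩
    have hctmod : ct ∈ modSub hT hXS := fun y hy => by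
      rw [autMap_conjAut _ hy, conjMap_apply]
      have := T.mul_mem (conj_mem_closed hT (S.inv_mem (hXS hy)) ht) (T.inv_mem ht)
      convert this using 1
      group
    have hωT : ∀ x ∈ T, autMap (β * conjAut (hqn q hq) * β⁻¹) x = t * (q * x * q⁻¹) * t⁻¹ := by
      intro x hx
      have hqx : q * x * q⁻¹ ∈ T := conj_mem_closed hT hqS hx
      have hy : autMap α⁻¹ x ∈ T := autMap_mem _ hx
      rw [autMap_mul _ _ (hTX hx), hβi x hx, autMap_mul _ _ (hTX hy), autMap_conjAut _ (hTX hy),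
        conjMap_apply, hβe _ (conj_mem_closed hT hqS hy)]
      have h1 := congrArg (fun e : MulAut T => autMap e (q * x * q⁻¹)) hte
      simp only [Subgroup.coe_subtype, ha] at h1
      have hcx : autMap (conjAut hqT)⁻¹ (q * x * q⁻¹) = x := by
        have h2 := S5114.inv_autMap_apply (conjAut hqT) hx
        rwa [autMap_conjAut _ hx, conjMap_apply] at h2
      rw [autMap_mul _ _ hqx, hcx, autMap_mul _ _ hx, autMap_mul _ _ hy, autMap_conjAut _ hy,
        conjMap_apply, autMap_conjAut _ hqx, conjMap_apply] at h1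
      exact h1
    set w : F.autGroup X := ct⁻¹ * (B * cq * B⁻¹ * cq⁻¹) with hw
    have hwW : w ∈ W := by
      refine ⟨mul_mem (Subgroup.inv_mem _ hctmod) ?_, fun x hx => ?_⟩
      · rw [mul_assoc, mul_assoc, ← mul_assoc cq]
        exact mul_mem hBmod (modSub_conj hT hXS (Subgroup.inv_mem _ hBmod))
      · have hcx : autMap (conjAut (hqn q hq))⁻¹ x = q⁻¹ * x * q := by
          have h1 : q⁻¹ * x * q ∈ T := by
            have := conj_mem_closed hT (S.inv_mem hqS) hx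
            rwa [inv_inv] at this
          have h2 := S5114.inv_autMap_apply (conjAut (hqn q hq)) (hTX h1)
          rw [autMap_conjAut _ (hTX h1), conjMap_apply,
            show q * (q⁻¹ * x * q) * q⁻¹ = x by group] at h2
          exact h2
        have h1 : q⁻¹ * x * q ∈ T := by
          have := conj_mem_closed hT (S.inv_mem hqS) hx
          rwa [inv_inv] at this
        simp only [hw, Subgroup.coe_mul, Subgroup.coe_inv, ct, cq, B]
        rw [autMap_mul _ _ (hTX hx), autMap_mul _ _ (hTX hx), hcx, hωT _ h1,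
          show q * (q⁻¹ * x * q) * q⁻¹ = x by group]
        have h3 := S5114.inv_autMap_apply (conjAut htX) (hTX hx)
        rw [autMap_conjAut _ (hTX hx), conjMap_apply] at h3
        exact h3
    have hmem : ((B * cq * B⁻¹ : F.autGroup X) : MulAut X) ∈ autInducedBy S X := by
      rw [show B * cq * B⁻¹ = ct * w * cq by rw [hw]; group, Subgroup.coe_mul, Subgroup.coe_mul]
      exact mul_mem (mul_mem (mem_autInducedBy.2 ⟨t, hTS ht, htX, rfl⟩) (hWS hwW))
        (mem_autInducedBy.2 ⟨q, hqS, hqn q hq, rfl⟩)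
    obtain ⟨h, hh, hhn, hhe⟩ := mem_autInducedBy.1 hmem
    refine ⟨h, hh, hhn, hhe, t, ht, hωT⟩
  have hext : ∀ q ∈ Q, InExt S X (autMap β) q := fun q hq => by
    obtain ⟨h, hh, hhn, hhe, -⟩ := hdata q hq
    refine ⟨hQS hq, hqn q hq, h, hh, fun y hy => ?_⟩
    have h1 := congrArg (fun e : MulAut X => autMap e (autMap β y)) hhe
    rw [autMap_mul _ _ (autMap_mem _ hy), S5114.inv_autMap_apply β hy, autMap_mul _ _ hy,
      autMap_conjAut _ hy, conjMap_apply, autMap_conjAut _ (autMap_mem _ hy), conjMap_apply] at h1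
    exact h1
  obtain ⟨ψ, hψ, hψe⟩ := receptive_extend (receptive_of_isFullyNormalized hS hF hXn)
    (isIso_autMap hXS hβ) hext
  set Z := Q ⊔ X with hZ
  have hψq : ∀ q ∈ Q, q⁻¹ * ψ q ∈ X := fun q hq => by
    obtain ⟨h, hh, hhn, hhe, t, ht, hωT⟩ := hdata q hq
    have hqZ : q ∈ Z := Subgroup.mem_sup_left hq
    have hqS := hQS hq
    have hc : q⁻¹ * t⁻¹ * ψ q ∈ centralizerIn S T := by
      refine FusionSys.mem_centralizerIn.2 ⟨S.mul_mem (S.mul_mem (S.inv_mem hqS)
        (S.inv_mem (hTS ht))) (hψ.mem_S hqZ), fun x hx => ?_⟩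
      have hxa : autMap α⁻¹ x ∈ T := autMap_mem _ hx
      have hxq : q * autMap α⁻¹ x * q⁻¹ ∈ X :=
        (Subgroup.mem_normalizer_iff.1 (hqn q hq) _).1 (hTX hxa)
      have h1 : ψ (q * autMap α⁻¹ x * q⁻¹) = t * (q * x * q⁻¹) * t⁻¹ := by
        rw [hψe _ hxq, ← hωT x hx, autMap_mul _ _ (hTX hx), hβi x hx, autMap_mul _ _ (hTX hxa),
          autMap_conjAut _ (hTX hxa), conjMap_apply]
      rw [hψ.map_conj hqZ (Subgroup.mem_sup_right (hTX hxa)), hψe _ (hTX hxa), hβe _ hxa,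
        autMap_inv_apply α hx] at h1
      calc x * (q⁻¹ * t⁻¹ * ψ q) = q⁻¹ * t⁻¹ * (t * (q * x * q⁻¹) * t⁻¹) * ψ q := by group
        _ = _ := by rw [← h1]; group
    have h2 := X.mul_mem (hTX (show q⁻¹ * t * q ∈ T by
      have := conj_mem_closed hT (S.inv_mem hqS) ht
      rwa [inv_inv] at this)) (Subgroup.mem_sup_right hc)
    convert h2 using 1
    group
  have hψm : ∀ y ∈ Z, ψ y ∈ Z := fun y hy => hψ.mapsTo_sup
    (fun q hq => by
      have := mul_mem (Subgroup.mem_sup_left (T := X) hq) (Subgroup.mem_sup_right (hψq q hq))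
      rwa [mul_inv_cancel_left] at this)
    (fun x hx => Subgroup.mem_sup_right ((hψe x hx).symm ▸ autMap_mem _ hx)) hy
  have hZS : Z ≤ S := sup_le hQS hXS
  haveI : Finite Z := finite_of_le hZS
  obtain ⟨Ψ, hΨ, hΨe⟩ := (isIso_of_mapsTo hψ hψm).exists_aut
  have hΨm : IsMap F Z (autMap Ψ) := (mem_autGroup_iff hZS).1 hΨ
  have hXZ : X ≤ Z := le_sup_right
  have hΨX : ∀ y ∈ X, autMap Ψ y = autMap β y := fun y hy => (hΨe y (hXZ hy)).trans (hψe y hy)
  have hpowT : ∀ j : ℕ, ∀ t ∈ T, autMap (Ψ ^ j) t = autMap (α ^ j) t := by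
    intro j
    induction j with
    | zero =>
      intro t ht
      rw [pow_zero, pow_zero, FusionSys.autMap_one (hXZ (hTX ht)), FusionSys.autMap_one ht]
    | succ j ihj =>
      intro t ht
      rw [pow_succ', pow_succ', autMap_mul _ _ (hXZ (hTX ht)), autMap_mul _ _ ht, ihj t ht,
        hΨX _ (hTX (autMap_mem _ ht)), hβe _ (autMap_mem _ ht)]
  have hpowq : ∀ q ∈ Q, ∀ j : ℕ, ∃ t ∈ T, autMap (Ψ ^ j) q = q * (q⁻¹ * ψ q) ^ j * t := by
    intro q hq j
    have hqZ : q ∈ Z := Subgroup.mem_sup_left hq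
    set x := q⁻¹ * ψ q with hx
    have hxX : x ∈ X := hψq q hq
    induction j with
    | zero => exact ⟨1, T.one_mem, by rw [pow_zero, FusionSys.autMap_one hqZ, pow_zero, mul_one, mul_one]⟩
    | succ j ihj =>
      obtain ⟨t, ht, hte⟩ := ihj
      have hxj : x ^ j ∈ X := X.pow_mem hxX j
      refine ⟨(x ^ j)⁻¹ * autMap β (x ^ j) * autMap β t,
        T.mul_mem (hBmod _ hxj) (by rw [hβe t ht]; exact autMap_mem _ ht), ?_⟩
      rw [pow_succ', autMap_mul _ _ hqZ, hte,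
        hΨm.map_mul (mul_mem hqZ (hXZ hxj)) (hXZ (hTX ht)), hΨm.map_mul hqZ (hXZ hxj),
        hΨe q hqZ, hΨX _ hxj, hΨX _ (hTX ht), pow_succ', show ψ q = q * x by rw [hx, mul_inv_cancel_left]]
      group
  obtain ⟨k, hk⟩ := IsPGroup.iff_card.1 (hS.to_le hXS)
  have hpow : α ^ p ^ k ∈ topSub hT hQ := by
    have hTQ : T ⊔ Q ≤ Z := sup_le (hTX.trans hXZ) le_sup_left
    refine ⟨autMap (Ψ ^ p ^ k), ((mem_autGroup_iff hZS).1 (pow_mem hΨ _)).mono hTQ, hpowT _,
      fun q hq => ?_⟩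
    obtain ⟨t, ht, hte⟩ := hpowq q hq (p ^ k)
    rw [hte, ← hk, show (q⁻¹ * ψ q) ^ Nat.card X = 1 from
      congrArg Subtype.val (pow_card_eq_one' (x := (⟨_, hψq q hq⟩ : X))), mul_one, inv_mul_cancel_left]
    exact ht
  set α' : E.autGroup T := ⟨α, hα⟩
  set H := (topSub hT hQ).subgroupOf (E.autGroup T) with hH
  have h2 : α' ^ N.index ∈ H := hinner (N.pow_index_mem α')
  have h3 : α' ^ p ^ k ∈ H := hpow
  have hco : Nat.Coprime (p ^ k) N.index :=
    ((Fact.out : p.Prime).coprime_iff_not_dvd.2 hpn).pow_left k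
  have hb1 := Nat.gcd_eq_gcd_ab (p ^ k) N.index
  rw [hco.gcd_eq_one, Nat.cast_one] at hb1
  have h4 : α' ∈ H := by
    rw [← zpow_one α', hb1, zpow_add, zpow_mul, zpow_mul, zpow_natCast, zpow_natCast]
    exact mul_mem (zpow_mem h3 _) (zpow_mem h2 _)
  exact h4

/-- Every map of a normal subsystem extends over a normal subgroup trivially modulo `T`. -/
theorem good_of_isMap (hS : IsPGroup p S) (hF : F.IsSaturated p) (hE : E.IsNormalIn F p)
    (hQ : F.IsNormal Q) {P : Subgroup Ω} {f : Ω → Ω} (hf : IsMap E P f) : Good F T Q P f := by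
  have hinv := hE.1.2.2
  have hT := hinv.2.1
  have hTS := hT.1
  haveI : Finite T := finite_of_le hTS
  have hTp : IsPGroup p T := hS.to_le hTS
  let G : FusionSystem T := subSys E (fun P f => Good F T Q P f) (fun _ _ _ h he => h.congr he)
    (fun _ _ hP ha => good_conjMap hT hQ.1 (hP.trans hTS) ha)
    (fun _ _ _ _ _ _ hm h1 h2 => h1.comp hQ h2 hm)
    (fun _ _ _ _ hi _ hgf h => h.inv hQ (isIso_of_sub hinv.1 hi) hgf)
  have hG : S5114.Hyp0 p E G := by
    intro P hP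
    rw [S5114.opAut, MonoidHom.map_closure, Subgroup.closure_le]
    rintro _ ⟨α, ⟨i, hi⟩, rfl⟩
    suffices hα : Good F T Q P (autMap (α : MulAut P)) by
      obtain ⟨φ, hφ, hφe⟩ := (mem_autGroup_iff hP.1).1 α.2
      exact mem_autGroup_of_isMap ⟨φ, ⟨hφ, hα.congr fun x hx => by
        rw [homFun_mem φ hx]; exact hφe ⟨x, hx⟩⟩, hφe⟩
    obtain ⟨R, hRc, hRn⟩ := exists_isFullyNormalized E hP.1
    obtain ⟨g, hg⟩ := isConj_iff.1 (isConj_symm hRc)
    obtain ⟨δ, hδ, hδα⟩ : (α : MulAut P) ∈ (E.autGroup R).map hg.autEquiv.toMonoidHom := by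
      rw [hg.map_autGroup]; exact α.2
    haveI := finite_autGroup E hRn.1
    obtain ⟨-, Sy, hSy⟩ := isFullyAutomized_of_isFullyNormalized hTp hE.1.1 hRn
    set δ' : E.autGroup R := ⟨δ, hδ⟩
    have hδo : orderOf δ' = p ^ i := by
      rw [← Subgroup.orderOf_coe]
      show orderOf δ = _
      rw [← hi, ← Subgroup.orderOf_coe, ← hδα]
      exact (hg.autEquiv.orderOf_eq δ).symm
    have hz : IsPGroup p (Subgroup.zpowers δ') :=
      IsPGroup.of_card (n := i) (by rw [Nat.card_zpowers, hδo])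
    obtain ⟨Sy', hSy'⟩ := hz.exists_le_sylow
    obtain ⟨γ, hγ⟩ := MulAction.exists_smul_eq (E.autGroup R) Sy' Sy
    have hmem : γ * δ' * γ⁻¹ ∈ (Sy : Subgroup (E.autGroup R)) := by
      rw [← hγ, Sylow.coe_subgroup_smul]
      exact ⟨δ', hSy' (Subgroup.mem_zpowers _), rfl⟩
    rw [hSy] at hmem
    obtain ⟨t, ht, htn, hte⟩ := mem_autInducedBy.1 hmem
    have hRS : R ≤ S := hRn.1.trans hTS
    have h1 : Good F T Q R (autMap (conjAut htn)) :=
      (good_conjMap hT hQ.1 hRS ht).congr fun x hx => autMap_conjAut _ hx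
    have hγF : (γ : MulAut R) ∈ F.autGroup R :=
      mem_autGroup_of_isMap (isMap_of_sub hinv.1 (autGroup_set_subgroup hRn.1 γ.2))
    have hγi := isIso_autMap hRS (inv_mem hγF)
    have h2 := h1.transport hT hQ hγi
    have hδe : hγi.autEquiv (conjAut htn) = δ := by
      refine aut_ext fun y hy => ?_
      obtain ⟨x, hx, rfl⟩ := hγi.exists_preimage hy
      rw [hγi.autMap_autEquiv _ hx, ← hte]
      simp only [Subgroup.coe_subtype, Subgroup.coe_mul, Subgroup.coe_inv, δ']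
      rw [autMap_mul _ _ hx, autMap_mul _ _ (autMap_mem _ hx),
        S5114.inv_autMap_apply (γ : MulAut R) (autMap_mem _ (autMap_mem _ hx))]
    rw [hδe] at h2
    have hgF := isIso_of_sub hinv.1 hg
    have h3 := h2.transport hT hQ hgF
    refine h3.congr fun y hy => ?_
    obtain ⟨x, hx, rfl⟩ := hg.exists_preimage hy
    rw [hgF.autMap_autEquiv δ hx, ← hδα]
    exact hg.autMap_autEquiv δ hx
  obtain ⟨β, hβ, f₀, hf₀, hfe⟩ := S5114.fac_of_map hTp hE.1.1 hf
  obtain ⟨φ, ⟨-, hφG⟩, hφe⟩ := hf₀ G hG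
  have h0 : Good F T Q P f₀ :=
    hφG.congr fun x hx => by rw [homFun_mem φ hx]; exact (hφe ⟨x, hx⟩).symm
  exact (h0.comp hQ (mem_topSub hS hF hE hQ hβ) fun x hx => hf₀.isMap.mem_S hx).congr hfe

end Cfsg.Agent.H89.NormalExtend
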