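import Cfsg.Agent.H89.WeakResidual

/-!
The extension condition for the `p'`-residual of a weakly normal subsystem.

For `C = C_S(T)`: a map of order prime to `p` on `R C`, `R ≤ T` self-centralizing, fixing `R` pointwise
extends to a map on `T C` fixing `T` pointwise.  Automorphisms of `p`-power order of centric subgroups
extend trivially modulo `T`, so all of the residual does.
-/

set_option autoImplicit false
set_option linter.style.haveILetI false
set_option linter.unusedSectionVars false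

namespace Cfsg.Agent.H89.ResidualExtend

open Cfsg Cfsg.FusionSystem Cfsg.Agent.FusionSys Cfsg.Agent.H91.CentFocal Cfsg.Agent.H91.CentSE
open Cfsg.FusionSystem (centralizerIn normalizerIn)

variable {Ω : Type*} [Group Ω] {S T : Subgroup Ω} {F : FusionSystem S} {E : FusionSystem T} {p : ℕ}

theorem exists_decomp {A X : Subgroup Ω} (hc : ∀ x ∈ X, ∀ a ∈ A, a * x = x * a) {y : Ω}
    (hy : y ∈ A ⊔ X) : ∃ a ∈ A, ∃ c ∈ X, y = a * c := by
  rw [Subgroup.sup_eq_closure] at hy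
  induction hy using Subgroup.closure_induction with
  | mem y hy =>
    rcases hy with hy | hy
    · exact ⟨y, hy, 1, X.one_mem, (mul_one y).symm⟩
    · exact ⟨1, A.one_mem, y, hy, (one_mul y).symm⟩
  | one => exact ⟨1, A.one_mem, 1, X.one_mem, (one_mul 1).symm⟩
  | mul y z _ _ h1 h2 =>
    obtain ⟨a, ha, c, hc', rfl⟩ := h1
    obtain ⟨b, hb, d, hd, rfl⟩ := h2
    refine ⟨a * b, A.mul_mem ha hb, c * d, X.mul_mem hc' hd, ?_⟩
    rw [mul_assoc a c, ← mul_assoc c b, ← hc c hc' b hb]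
    group
  | inv y _ h1 =>
    obtain ⟨a, ha, c, hc', rfl⟩ := h1
    exact ⟨a⁻¹, A.inv_mem ha, c⁻¹, X.inv_mem hc', by rw [hc c hc' a ha, _root_.mul_inv_rev]⟩

theorem cent_comm {A : Subgroup Ω} (hA : A ≤ T) {c a : Ω} (hc : c ∈ centralizerIn S T) (ha : a ∈ A) :
    a * c = c * a :=
  (FusionSys.mem_centralizerIn.1 hc).2 a (hA ha)

theorem cent_le {A : Subgroup Ω} (hA : A ≤ T) : centralizerIn S T ≤ centralizerIn S A := fun _ hc =>
  FusionSys.mem_centralizerIn.2 ⟨(FusionSys.mem_centralizerIn.1 hc).1, fun _ ha => cent_comm hA hc ha⟩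

theorem sup_cent_le {A : Subgroup Ω} (hTS : T ≤ S) (hA : A ≤ T) : A ⊔ centralizerIn S T ≤ S :=
  sup_le (hA.trans hTS) centralizerIn_le

theorem mem_of_ctr {R : Subgroup Ω} (hTS : T ≤ S) (hRT : R ≤ T) (hR : Ctr F T R) {z : Ω}
    (hzT : z ∈ T) (hz : ∀ a ∈ R, a * z = z * a) : z ∈ R :=
  hR R (isConj_refl F (hRT.trans hTS)) (FusionSys.mem_centralizerIn.2 ⟨hzT, hz⟩)

theorem sup_cent_inf {R : Subgroup Ω} (hTS : T ≤ S) (hRT : R ≤ T) (hR : Ctr F T R) {y : Ω}
    (hy : y ∈ R ⊔ centralizerIn S T) (hyT : y ∈ T) : y ∈ R := by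
  obtain ⟨a, ha, c, hc, rfl⟩ := exists_decomp (fun _ hx _ hb => cent_comm hRT hx hb) hy
  have hcT : c ∈ T := by
    have := T.mul_mem (T.inv_mem (hRT ha)) hyT
    rwa [inv_mul_cancel_left] at this
  exact R.mul_mem ha (mem_of_ctr hTS hRT hR hcT fun b hb => cent_comm hRT hc hb)

/-- Being trivial modulo `T` is checked on generators. -/
theorem modT_sup (hT : F.StronglyClosed T) {A B : Subgroup Ω} {g : Ω → Ω} (hg : IsMap F (A ⊔ B) g)
    (hA : ∀ x ∈ A, x⁻¹ * g x ∈ T) (hB : ∀ x ∈ B, x⁻¹ * g x ∈ T) {y : Ω} (hy : y ∈ A ⊔ B) :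
    y⁻¹ * g y ∈ T := by
  let K : Subgroup Ω :=
    { carrier := {y | y ∈ A ⊔ B ∧ y⁻¹ * g y ∈ T}
      one_mem' := ⟨one_mem _, by rw [hg.map_one, inv_one, one_mul]; exact T.one_mem⟩
      mul_mem' := fun {a b} ha hb => ⟨mul_mem ha.1 hb.1, by
        have h := T.mul_mem (conj_mem_closed hT (S.inv_mem (hg.le hb.1)) ha.2) hb.2
        rw [inv_inv] at h
        rw [hg.map_mul ha.1 hb.1]
        convert h using 1
        group⟩
      inv_mem' := fun {a} ha => ⟨inv_mem ha.1, by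
        have h := conj_mem_closed hT (hg.le ha.1) (T.inv_mem ha.2)
        rw [hg.map_inv ha.1]
        convert h using 1
        group⟩ }
  have hle : A ⊔ B ≤ K := sup_le (fun x hx => ⟨Subgroup.mem_sup_left hx, hA x hx⟩)
    (fun x hx => ⟨Subgroup.mem_sup_right hx, hB x hx⟩)
  exact (hle hy).2

theorem modT_of_le (hT : F.StronglyClosed T) {A X : Subgroup Ω} {g : Ω → Ω} (hg : IsMap F X g)
    (hA : A ≤ T) (hAX : A ≤ X) {x : Ω} (hx : x ∈ A) : x⁻¹ * g x ∈ T :=
  T.mul_mem (T.inv_mem (hA hx)) ((stronglyClosed_iff.1 hT).2 A g hA (hg.mono hAX) x hx)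

/-- Automorphisms trivial modulo `T`. -/
def modSub (hT : F.StronglyClosed T) {X : Subgroup Ω} (hX : X ≤ S) : Subgroup (F.autGroup X) where
  carrier := {γ | ∀ y ∈ X, y⁻¹ * autMap (γ : MulAut X) y ∈ T}
  one_mem' := fun y hy => by
    rw [Subgroup.coe_one, FusionSys.autMap_one hy, inv_mul_cancel]; exact T.one_mem
  mul_mem' := fun {a b} ha hb y hy => by
    have := T.mul_mem (hb y hy) (ha _ (autMap_mem (b : MulAut X) hy))
    rw [mul_assoc, mul_inv_cancel_left] at this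
    rw [Subgroup.coe_mul, autMap_mul _ _ hy]
    exact this
  inv_mem' := fun {a} ha y hy => by
    have := T.inv_mem (ha _ (autMap_mem (a : MulAut X)⁻¹ hy))
    rw [autMap_inv_apply _ hy, _root_.mul_inv_rev, inv_inv] at this
    rw [Subgroup.coe_inv]
    exact this

theorem modSub_conj (hT : F.StronglyClosed T) {X : Subgroup Ω} (hX : X ≤ S) {γ δ : F.autGroup X}
    (hγ : γ ∈ modSub hT hX) : δ * γ * δ⁻¹ ∈ modSub hT hX := fun y hy => by
  set x := autMap (δ : MulAut X)⁻¹ y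
  have hx : x ∈ X := autMap_mem _ hy
  have hd : x⁻¹ * autMap (γ : MulAut X) x ∈ X := X.mul_mem (X.inv_mem hx) (autMap_mem _ hx)
  have hδm : IsMap F X (autMap (δ : MulAut X)) := (mem_autGroup_iff hX).1 δ.2
  have h1 : autMap (δ : MulAut X) (x⁻¹ * autMap (γ : MulAut X) x) ∈ T :=
    (stronglyClosed_iff.1 hT).2 (X ⊓ T) _ inf_le_right (hδm.mono inf_le_left) _ ⟨hd, hγ x hx⟩
  rw [hδm.map_mul (X.inv_mem hx) (autMap_mem _ hx), hδm.map_inv hx, autMap_inv_apply _ hy] at h1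
  rw [Subgroup.coe_mul, Subgroup.coe_mul, Subgroup.coe_inv, autMap_mul _ _ hy, autMap_mul _ _ hx]
  exact h1

/-- Automorphisms fixing `R` pointwise. -/
def fixSub {X : Subgroup Ω} (F : FusionSystem S) (R : Subgroup Ω) (hRX : R ≤ X) :
    Subgroup (F.autGroup X) where
  carrier := {γ | ∀ x ∈ R, autMap (γ : MulAut X) x = x}
  one_mem' := fun x hx => by rw [Subgroup.coe_one, FusionSys.autMap_one (hRX hx)]
  mul_mem' := fun {a b} ha hb x hx => by
    rw [Subgroup.coe_mul, autMap_mul _ _ (hRX hx), hb x hx, ha x hx]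
  inv_mem' := fun {a} ha x hx => by
    rw [Subgroup.coe_inv]
    nth_rw 1 [← ha x hx]
    exact S5114.inv_autMap_apply (a : MulAut X) (hRX hx)

variable [Finite S] [Fact p.Prime]

theorem le_sylow_of_normal {G : Type*} [Group G] [Finite G] {W : Subgroup G} [W.Normal]
    (hW : IsPGroup p W) (Sy : Sylow p G) : W ≤ (Sy : Subgroup G) := by
  obtain ⟨S0, hS0⟩ := hW.exists_le_sylow
  obtain ⟨g, hg⟩ := MulAction.exists_smul_eq G S0 Sy
  intro x hx
  rw [← hg, Sylow.coe_subgroup_smul, Subgroup.mem_pointwise_smul_iff_inv_smul_mem]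
  apply hS0
  rw [← map_inv, MulAut.smul_def, MulAut.conj_apply]
  exact Subgroup.Normal.conj_mem ‹W.Normal› x hx g⁻¹

/-- A map on `R C_S(T)` of order prime to `p` fixing `R` extends to one fixing `T`. -/
theorem exists_extend (hS : IsPGroup p S) (hF : F.IsSaturated p) (hT : F.StronglyClosed T)
    (R : Subgroup Ω) (hRT : R ≤ T) (hR : Ctr F T R) (u : Ω → Ω)
    (hu : IsMap F (R ⊔ centralizerIn S T) u)
    (hum : ∀ y ∈ R ⊔ centralizerIn S T, u y ∈ R ⊔ centralizerIn S T) (huR : ∀ x ∈ R, u x = x)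
    (m : ℕ) (hpm : Nat.Coprime p m) (hup : ∀ y ∈ R ⊔ centralizerIn S T, u^[m] y = y) :
    ∃ κ, IsMap F (T ⊔ centralizerIn S T) κ ∧ (∀ t ∈ T, κ t = t) ∧
      ∀ y ∈ R ⊔ centralizerIn S T, κ y = u y := by
  have hTS := hT.1
  haveI : Finite T := finite_of_le hTS
  have hTp : IsPGroup p T := hS.to_le hTS
  induction hn : Nat.card T - Nat.card R using Nat.strong_induction_on generalizing R u with
  | _ n ih =>
  rcases hRT.eq_or_lt with hRe | hRlt
  · subst hRe
    exact ⟨u, hu, huR, fun _ _ => rfl⟩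
  set C := centralizerIn S T with hC
  set Y := R ⊔ C with hY
  set R₂ := normalizerIn T R with hR₂
  have hlt : R < R₂ := lt_inf_normalizer_of_lt hTp hRlt
  have hR₂T : R₂ ≤ T := inf_le_left
  have hYS : Y ≤ S := sup_cent_le hTS hRT
  haveI : Finite Y := finite_of_le hYS
  haveI : Finite R := finite_of_le (hRT.trans hTS)
  have hRY : R ≤ Y := le_sup_left
  have hnY : ∀ t ∈ R₂, t ∈ Subgroup.normalizer (Y : Set Ω) := fun t ht => by
    refine mem_normalizer_of_maps fun y hy => ?_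
    obtain ⟨a, ha, c, hc, rfl⟩ := exists_decomp (fun _ hx _ hb => cent_comm hRT hx hb) hy
    rw [show t * (a * c) * t⁻¹ = t * a * t⁻¹ * (t * c * t⁻¹) by group,
      cent_comm le_rfl hc ht.1, mul_inv_cancel_right]
    exact Y.mul_mem (hRY ((Subgroup.mem_normalizer_iff.1 ht.2 a).1 ha)) (Subgroup.mem_sup_right hc)
  obtain ⟨α, hα, hαu⟩ := (isIso_of_mapsTo hu hum).exists_aut
  obtain ⟨Y', hY'c, hY'n⟩ := exists_isFullyNormalized F hYS
  obtain ⟨g, hg, hgi, hgm⟩ := exists_map_to_fullyNormalized hS hF hY'n hY'c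
  haveI := finite_autGroup F hY'n.1
  haveI := finite_autGroup F hYS
  obtain ⟨-, Sy, hSy⟩ := isFullyAutomized_of_isFullyNormalized hS hF hY'n
  let Φ : F.autGroup Y →* F.autGroup Y' :=
    (hgi.autEquiv.toMonoidHom.comp (F.autGroup Y).subtype).codRestrict (F.autGroup Y')
      fun a => hgi.autEquiv_mem_autGroup a.2
  have hΦ : Function.Surjective Φ := fun b => by
    have hb : (b : MulAut Y') ∈ (F.autGroup Y).map hgi.autEquiv.toMonoidHom := by
      rw [hgi.map_autGroup]; exact b.2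
    obtain ⟨a, ha, hab⟩ := hb
    exact ⟨⟨a, ha⟩, Subtype.ext hab⟩
  set W := modSub hT hYS ⊓ fixSub F R hRY with hW
  haveI hWn : W.Normal := ⟨fun γ hγ δ => ⟨modSub_conj hT hYS hγ.1, fun x hx => by
    have hδm : IsMap F Y (autMap ((δ⁻¹ : F.autGroup Y) : MulAut Y)) :=
      (mem_autGroup_iff hYS).1 (δ⁻¹).2
    have h1 : autMap ((δ⁻¹ : F.autGroup Y) : MulAut Y) x ∈ R :=
      sup_cent_inf hTS hRT hR (autMap_mem _ (hRY hx))
        ((stronglyClosed_iff.1 hT).2 R _ hRT (hδm.mono hRY) x hx)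
    rw [Subgroup.coe_inv] at h1
    rw [Subgroup.coe_mul, Subgroup.coe_mul, Subgroup.coe_inv, autMap_mul _ _ (hRY hx),
      autMap_mul _ _ (autMap_mem _ (hRY hx)), hγ.2 _ h1, autMap_inv_apply _ (hRY hx)]⟩⟩
  have hWp : IsPGroup p W := by
    intro γ
    obtain ⟨a, ha⟩ := IsPGroup.iff_card.1 (hS.to_le (hRT.trans hTS))
    refine ⟨a, Subtype.ext (Subtype.ext (aut_ext fun y hy => ?_))⟩
    set γ' : MulAut Y := ((γ : F.autGroup Y) : MulAut Y)
    have hγm : IsMap F Y (autMap γ') := (mem_autGroup_iff hYS).1 (γ : F.autGroup Y).2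
    set d := y⁻¹ * autMap γ' y
    have hd : d ∈ R := sup_cent_inf hTS hRT hR (Y.mul_mem (Y.inv_mem hy) (autMap_mem _ hy)) (γ.2.1 y hy)
    have key : ∀ j : ℕ, autMap (γ' ^ j) y = y * d ^ j := by
      intro j
      induction j with
      | zero => rw [pow_zero, FusionSys.autMap_one hy, pow_zero, mul_one]
      | succ j ihj =>
        rw [pow_succ', autMap_mul _ _ hy, ihj, hγm.map_mul hy (hRY (R.pow_mem hd j)),
          γ.2.2 _ (R.pow_mem hd j), pow_succ', ← mul_assoc y, mul_inv_cancel_left]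
    simp only [SubgroupClass.coe_pow, Subgroup.coe_one]
    rw [key, ← ha, show d ^ Nat.card R = 1 from
      congrArg Subtype.val (pow_card_eq_one' (x := (⟨d, hd⟩ : R))), mul_one, FusionSys.autMap_one hy]
  have hWS : W.map Φ ≤ (Sy : Subgroup (F.autGroup Y')) := by
    haveI : (W.map Φ).Normal := hWn.map Φ hΦ
    exact le_sylow_of_normal (hWp.map Φ) Sy
  rw [hSy] at hWS
  set α' : F.autGroup Y := ⟨α, hα⟩
  have hext : ∀ t ∈ R₂, InExt S Y (g ∘ u) t := by
    intro t ht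
    have htS : t ∈ normalizerIn S Y := ⟨hTS (hR₂T ht), hnY t ht⟩
    set cT : F.autGroup Y := ⟨conjAut (hnY t ht), conjAut_mem_autGroup F hYS htS⟩
    have hcT : cT ∈ modSub hT hYS := fun y hy => by
      rw [autMap_conjAut _ hy, conjMap_apply]
      have := T.mul_mem (conj_mem_closed hT (S.inv_mem (hYS hy)) (hR₂T ht)) (T.inv_mem (hR₂T ht))
      convert this using 1
      group
    have hω : α' * cT * α'⁻¹ * cT⁻¹ ∈ W := by
      refine ⟨mul_mem (modSub_conj hT hYS hcT) (Subgroup.inv_mem _ hcT), fun x hx => ?_⟩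
      have hαi : ∀ r ∈ R, autMap α⁻¹ r = r := fun r hr => by
        nth_rw 1 [show r = autMap α r from ((hαu r (hRY hr)).trans (huR r hr)).symm]
        exact S5114.inv_autMap_apply α (hRY hr)
      have hc1 : autMap (conjAut (hnY t ht))⁻¹ x = t⁻¹ * x * t := by
        have h1 : t⁻¹ * x * t ∈ R := by
          simpa using (Subgroup.mem_normalizer_iff.1 (inv_mem ht.2) x).1 hx
        have h2 := S5114.inv_autMap_apply (conjAut (hnY t ht)) (hRY h1)
        rw [autMap_conjAut _ (hRY h1), conjMap_apply,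
          show t * (t⁻¹ * x * t) * t⁻¹ = x by group] at h2
        exact h2
      have h1 : t⁻¹ * x * t ∈ R := by
        simpa using (Subgroup.mem_normalizer_iff.1 (inv_mem ht.2) x).1 hx
      simp only [Subgroup.coe_mul, Subgroup.coe_inv, α', cT]
      rw [autMap_mul _ _ (hRY hx), hc1, autMap_mul _ _ (hRY h1), hαi _ h1, autMap_mul _ _ (hRY h1),
        autMap_conjAut _ (hRY h1), conjMap_apply, show t * (t⁻¹ * x * t) * t⁻¹ = x by group,
        hαu x (hRY hx), huR x hx]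
    have hcS : ((Φ cT : F.autGroup Y') : MulAut Y') ∈ autInducedBy S Y' := by
      have hgt := hgm t htS
      refine mem_autInducedBy.2 ⟨g t, hgt.1, hgt.2, aut_ext fun z hz => ?_⟩
      obtain ⟨y, hy, rfl⟩ := hgi.exists_preimage hz
      show autMap (hgi.autEquiv (conjAut (hnY t ht))) (g y) = _
      rw [hgi.autMap_autEquiv _ hy, autMap_conjAut _ hy, autMap_conjAut _ hz, conjMap_apply,
        conjMap_apply, hg.map_conj htS (le_normalizerIn_self hYS hy)]
    have hβ : ((Φ (α' * cT * α'⁻¹) : F.autGroup Y') : MulAut Y') ∈ autInducedBy S Y' := by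
      have h := mul_mem (hWS (Subgroup.mem_map_of_mem Φ hω)) (show Φ cT ∈
        (autInducedBy S Y').subgroupOf (F.autGroup Y') from hcS)
      rw [← map_mul, inv_mul_cancel_right] at h
      exact h
    obtain ⟨h, hh, hhn, hhe⟩ := mem_autInducedBy.1 hβ
    refine ⟨htS.1, htS.2, h, hh, fun y hy => ?_⟩
    have hty : t * y * t⁻¹ ∈ Y := (Subgroup.mem_normalizer_iff.1 htS.2 y).1 hy
    have hgy : g (u y) ∈ Y' := hgi.mem (hum y hy)
    have h2 : autMap ((Φ (α' * cT * α'⁻¹) : F.autGroup Y') : MulAut Y') (g (u y)) =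
        g (u (t * y * t⁻¹)) := by
      show autMap (hgi.autEquiv ((α' * cT * α'⁻¹ : F.autGroup Y) : MulAut Y)) (g (u y)) = _
      rw [hgi.autMap_autEquiv _ (hum y hy)]
      simp only [Subgroup.coe_mul, Subgroup.coe_inv, α', cT]
      rw [← hαu y hy, autMap_mul _ _ (autMap_mem _ hy), S5114.inv_autMap_apply α hy,
        autMap_mul _ _ hy, autMap_conjAut _ hy, conjMap_apply, hαu _ hty]
    rw [hhe, autMap_conjAut _ hgy, conjMap_apply] at h2
    exact h2.symm
  have hcomp : IsIso F Y Y' (g ∘ u) := (isIso_of_mapsTo hu hum).comp hgi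
  obtain ⟨ψ, hψ, hψe⟩ := receptive_extend (receptive_of_isFullyNormalized hS hF hY'n) hcomp hext
  set Y2 := R₂ ⊔ Y with hY2
  have hY2S : Y2 ≤ S := sup_le (hR₂T.trans hTS) hYS
  haveI : Finite Y2 := finite_of_le hY2S
  have hg2 : IsMap F Y2 g := hg.mono
    (sup_le (fun t ht => ⟨hTS (hR₂T ht), hnY t ht⟩) (le_normalizerIn_self hYS))
  have hR₂Y2 : R₂ ≤ Y2 := le_sup_left
  have hYY2 : Y ≤ Y2 := le_sup_right
  have hgR : Ctr F T (imgSub g R) := hR.of_isConj (hg2.mono (hRY.trans hYY2)).isIso.isConj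
  have hgRT : ∀ x ∈ R₂, g x ∈ T := (stronglyClosed_iff.1 hT).2 R₂ g hR₂T (hg2.mono hR₂Y2)
  have hψT : ∀ x ∈ R₂, ψ x ∈ T := (stronglyClosed_iff.1 hT).2 R₂ ψ hR₂T (hψ.mono hR₂Y2)
  have hψR : ∀ x ∈ R, ψ x = g x := fun x hx => by
    rw [hψe x (hRY hx), Function.comp_apply, huR x hx]
  have hψt : ∀ t ∈ R₂, ∃ r ∈ R, ψ t = g (t * r) := by
    intro t ht
    have h1 : (g t)⁻¹ * ψ t ∈ imgSub g R := by
      refine hgR _ (isConj_refl F (hg2.mono (hRY.trans hYY2)).imgSub_le) (FusionSys.mem_centralizerIn.2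
        ⟨T.mul_mem (T.inv_mem (hgRT t ht)) (hψT t ht), fun z hz => ?_⟩)
      obtain ⟨x, hx, rfl⟩ := (hg2.mono (hRY.trans hYY2)).mem_imgSub.1 hz
      have hx' : t * x * t⁻¹ ∈ R := (Subgroup.mem_normalizer_iff.1 ht.2 x).1 hx
      have h2 := hψ.map_conj (hR₂Y2 ht) (hYY2 (hRY hx))
      rw [hψR _ hx', hψR x hx, hg2.map_conj (hR₂Y2 ht) (hYY2 (hRY hx))] at h2
      calc g x * ((g t)⁻¹ * ψ t) = (g t)⁻¹ * (g t * g x * (g t)⁻¹) * ψ t := by group
        _ = _ := by rw [h2]; group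
    obtain ⟨r, hr, hre⟩ := (hg2.mono (hRY.trans hYY2)).mem_imgSub.1 h1
    exact ⟨r, hr, by rw [hg2.map_mul (hR₂Y2 ht) (hYY2 (hRY hr)), hre, mul_inv_cancel_left]⟩
  obtain ⟨k, hk, hkg⟩ := hg2.exists_inv
  have hψim : ∀ y ∈ Y2, ψ y ∈ imgSub g Y2 := fun y hy => hψ.mapsTo_sup
    (fun t ht => by
      obtain ⟨r, hr, hre⟩ := hψt t ht
      exact hg2.mem_imgSub.2 ⟨t * r, mul_mem (hR₂Y2 ht) (hYY2 (hRY hr)), hre.symm⟩)
    (fun z hz => hg2.mem_imgSub.2 ⟨u z, hYY2 (hum z hz), (hψe z hz).symm⟩) hy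
  have hv0 : IsMap F Y2 (k ∘ ψ) := hψ.comp hk hψim
  have hv0m : ∀ y ∈ Y2, (k ∘ ψ) y ∈ Y2 := fun y hy => by
    obtain ⟨z, hz, hze⟩ := hg2.mem_imgSub.1 (hψim y hy)
    rw [Function.comp_apply, ← hze, hkg z hz]; exact hz
  obtain ⟨ν, hν, hνe⟩ := (isIso_of_mapsTo hv0 hv0m).exists_aut
  have hνm : IsMap F Y2 (autMap ν) := (mem_autGroup_iff hY2S).1 hν
  have hνY : ∀ y ∈ Y, autMap ν y = u y := fun y hy => by
    rw [hνe y (hYY2 hy), Function.comp_apply, hψe y hy, Function.comp_apply,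
      hkg _ (hYY2 (hum y hy))]
  have hνt : ∀ t ∈ R₂, ∃ r ∈ R, autMap ν t = t * r := fun t ht => by
    obtain ⟨r, hr, hre⟩ := hψt t ht
    exact ⟨r, hr, by rw [hνe t (hR₂Y2 ht), Function.comp_apply, hre,
      hkg _ (mul_mem (hR₂Y2 ht) (hYY2 (hRY hr)))]⟩
  have hpowY : ∀ j : ℕ, ∀ y ∈ Y, autMap (ν ^ j) y = u^[j] y ∧ u^[j] y ∈ Y := by
    intro j
    induction j with
    | zero => intro y hy; exact ⟨by rw [pow_zero, FusionSys.autMap_one (hYY2 hy)]; rfl, hy⟩
    | succ j ihj =>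
      intro y hy
      rw [pow_succ', autMap_mul _ _ (hYY2 hy), (ihj y hy).1, Function.iterate_succ_apply',
        hνY _ (ihj y hy).2]
      exact ⟨rfl, hum _ (ihj y hy).2⟩
  have hfix0 : ∀ t ∈ R₂, autMap (ν ^ Nat.card R) t = t := fun t ht => by
    obtain ⟨r, hr, hre⟩ := hνt t ht
    have key : ∀ j : ℕ, autMap (ν ^ j) t = t * r ^ j := by
      intro j
      induction j with
      | zero => rw [pow_zero, FusionSys.autMap_one (hR₂Y2 ht), pow_zero, mul_one]
      | succ j ihj =>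
        rw [pow_succ', autMap_mul _ _ (hR₂Y2 ht), ihj,
          hνm.map_mul (hR₂Y2 ht) (hYY2 (hRY (R.pow_mem hr j))), hre,
          hνY _ (hRY (R.pow_mem hr j)), huR _ (R.pow_mem hr j), pow_succ', mul_assoc]
    rw [key, show r ^ Nat.card R = 1 from
      congrArg Subtype.val (pow_card_eq_one' (x := (⟨r, hr⟩ : R))), mul_one]
  have hmpos : 0 < m := Nat.pos_of_ne_zero fun h => by
    rw [h, Nat.coprime_zero_right] at hpm
    exact (Fact.out : p.Prime).ne_one hpm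
  set e := Nat.card R ^ Nat.totient m with he
  have he1 : e % m = 1 % m := by
    obtain ⟨a, ha⟩ := IsPGroup.iff_card.1 (hS.to_le (hRT.trans hTS))
    exact Nat.ModEq.pow_totient (by rw [ha]; exact hpm.pow_left a)
  have hfix : ∀ j : ℕ, ∀ t ∈ R₂, autMap ((ν ^ Nat.card R) ^ j) t = t := by
    intro j
    induction j with
    | zero => intro t ht; rw [pow_zero, FusionSys.autMap_one (hR₂Y2 ht)]
    | succ j ihj => intro t ht; rw [pow_succ', autMap_mul _ _ (hR₂Y2 ht), ihj t ht, hfix0 t ht]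
  obtain ⟨e', he'⟩ : ∃ e', e = Nat.card R * e' :=
    dvd_pow_self _ (Nat.totient_pos.2 hmpos).ne'
  have hper : ∀ j : ℕ, ∀ y ∈ Y, u^[j] y = u^[j % m] y := fun j y hy => by
    have hq : ∀ q : ℕ, u^[m * q] y = y := by
      intro q
      induction q with
      | zero => rw [mul_zero]; rfl
      | succ q ihq => rw [Nat.mul_succ, Function.iterate_add_apply, hup y hy, ihq]
    conv_lhs => rw [← Nat.mod_add_div j m, Function.iterate_add_apply, hq]
  have hve : ∀ y ∈ Y, autMap (ν ^ e) y = u y := fun y hy => by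
    rw [(hpowY e y hy).1, hper e y hy, he1, ← hper 1 y hy, Function.iterate_one]
  have hY2eq : R₂ ⊔ C = Y2 := by rw [hY2, hY, ← sup_assoc, sup_eq_left.2 hlt.le]
  have hv : IsMap F Y2 (autMap (ν ^ e)) := (mem_autGroup_iff hY2S).1 (pow_mem hν e)
  obtain ⟨κ, hκ, hκT, hκe⟩ := ih (Nat.card T - Nat.card R₂) (by
      have h1 : Nat.card R < Nat.card R₂ := by
        haveI : Finite R₂ := finite_of_le (hR₂T.trans hTS)
        exact Cfsg.Agent.H89.card_lt_card_of_lt hlt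
      have h2 : Nat.card R₂ ≤ Nat.card T := Subgroup.card_le_of_le hR₂T
      omega) R₂ hR₂T (hR.mono hlt.le) (autMap (ν ^ e)) (hv.mono hY2eq.le)
    (fun y hy => hY2eq.symm ▸ autMap_mem _ (hY2eq.le hy))
    (fun t ht => by rw [he', pow_mul]; exact hfix e' t ht)
    (fun y hy => by
      rw [autMap_pow _ (fun _ _ => rfl) m (hY2eq.le hy), ← pow_mul]
      have hv1 : IsMap F (R₂ ⊔ Y) (autMap (ν ^ (e * m))) :=
        (mem_autGroup_iff hY2S).1 (pow_mem hν _)
      refine hv1.eqOn_sup (isMap_id F hY2S) (fun t ht => ?_) (fun z hz => ?_) (hY2eq.le hy)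
      · rw [he', mul_assoc, pow_mul, hfix _ t ht, id_eq]
      · rw [(hpowY _ z hz).1, hper _ z hz, Nat.mul_mod_left, Function.iterate_zero_apply, id_eq]) rfl
  exact ⟨κ, hκ, hκT, fun y hy => (hκe y (hY2eq.symm ▸ hYY2 hy)).trans (hve y hy)⟩

end Cfsg.Agent.H89.ResidualExtend
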