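import Cfsg.Agent.H89.SURadical
import Cfsg.Agent.Unitary.Center

/-!
Sylow subgroups of `SU_n` in defining characteristic, through a flag of two isotropic vectors, and
their subgroups closed under fusion.
-/

set_option autoImplicit false
set_option linter.unusedSectionVars false

namespace Cfsg.Agent.H89.SUSylow

open Cfsg Matrix Cfsg.Agent.Unitary
open scoped Pointwise

variable {F : Type*} [Field F] [Fintype F] {n q p : ℕ}

/-- The action of an element on vectors, as a linear map. -/
def apL (g : SU n F q) : (Fin n → F) →ₗ[F] (Fin n → F) := (mat g).mulVecLin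

theorem apL_apply (g : SU n F q) (x : Fin n → F) : apL g x = ap g x := rfl

/-- A `p`-group stabilising `E ≤ Y`, `E ≠ Y`, fixes a vector of `Y \ E` modulo `E`. -/
theorem exists_fixed_mod [Fact p.Prime] [CharP F p] {P : Subgroup (SU n F q)} (hP : IsPGroup p P)
    {E Y : Submodule F (Fin n → F)} (hE : ∀ g ∈ P, ∀ x ∈ E, ap g x ∈ E)
    (hY : ∀ g ∈ P, ∀ x ∈ Y, ap g x ∈ Y) (hne : ¬ Y ≤ E) :
    ∃ x ∈ Y, x ∉ E ∧ ∀ g ∈ P, ap g x - x ∈ E := by
  classical
  haveI : Finite ((Fin n → F) ⧸ E) := Finite.of_surjective _ E.mkQ_surjective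
  let a : P → Y.map E.mkQ → Y.map E.mkQ := fun g z =>
    ⟨E.mapQ E (apL (g : SU n F q)) (fun x hx => hE g g.2 x hx) z, by
      obtain ⟨x, hx, hxz⟩ := Submodule.mem_map.1 z.2
      exact Submodule.mem_map.2 ⟨ap (g : SU n F q) x, hY g g.2 x hx, by rw [← hxz]; rfl⟩⟩
  letI : MulAction P (Y.map E.mkQ) :=
    { smul := a
      one_smul := fun z => Subtype.ext (by
        obtain ⟨x, hx⟩ := E.mkQ_surjective z.1
        show E.mapQ E (apL ((1 : P) : SU n F q)) _ z.1 = z.1
        rw [← hx]
        show E.mkQ (ap (1 : SU n F q) x) = _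
        rw [ap_one])
      mul_smul := fun g h z => Subtype.ext (by
        obtain ⟨x, hx⟩ := E.mkQ_surjective z.1
        show E.mapQ E (apL ((g * h : P) : SU n F q)) _ z.1 =
          E.mapQ E (apL (g : SU n F q)) _ (E.mapQ E (apL (h : SU n F q)) _ z.1)
        rw [← hx]
        show E.mkQ (ap ((g : SU n F q) * (h : SU n F q)) x) = E.mkQ (ap (g : SU n F q) (ap (h : SU n F q) x))
        rw [ap_mul]) }
  obtain ⟨y, hy, hyE⟩ := SetLike.not_le_iff_exists.1 hne
  have hd : p ∣ Nat.card (Y.map E.mkQ) := by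
    set z : Y.map E.mkQ := ⟨E.mkQ y, Submodule.mem_map_of_mem hy⟩ with hz
    have hz0 : z ≠ 0 := fun e => hyE ((Submodule.Quotient.mk_eq_zero E).1 (congrArg Subtype.val e))
    have hpz : p • z = 0 := by
      rw [← Nat.cast_smul_eq_nsmul F, CharP.cast_eq_zero F p, zero_smul]
    rw [← addOrderOf_eq_prime hpz hz0]
    exact addOrderOf_dvd_natCard z
  obtain ⟨b, hb, hb0⟩ := hP.exists_fixed_point_of_prime_dvd_card_of_fixed_point (Y.map E.mkQ) hd
    (a := 0) (fun g => Subtype.ext (map_zero _))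
  obtain ⟨x, hx, hxb⟩ := Submodule.mem_map.1 b.2
  refine ⟨x, hx, fun hxE => hb0 (Subtype.ext ?_), fun g hg => ?_⟩
  · show (0 : (Fin n → F) ⧸ E) = b.1
    rw [← hxb]
    exact ((Submodule.Quotient.mk_eq_zero E).2 hxE).symm
  · have h1 := congrArg Subtype.val (hb ⟨g, hg⟩)
    change E.mapQ E (apL g) _ b.1 = b.1 at h1
    rw [← hxb] at h1
    exact (Submodule.Quotient.eq E).1 h1

theorem ap_inv_mem {E : Submodule F (Fin n → F)} {g : SU n F q} (h : ∀ x ∈ E, ap g x ∈ E)
    {x : Fin n → F} (hx : x ∈ E) : ap g⁻¹ x ∈ E := by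
  have hinj : Function.Injective fun z : E => (⟨ap g z, h z z.2⟩ : E) := fun a b e =>
    Subtype.ext (ap_injective g (congrArg Subtype.val e))
  obtain ⟨⟨z, hz⟩, hze⟩ := Finite.surjective_of_injective hinj ⟨x, hx⟩
  have hze' : ap g z = x := congrArg Subtype.val hze
  subst hze'
  rw [ap_inv_ap]
  exact hz

theorem ap_mem_perp {E : Submodule F (Fin n → F)} {g : SU n F q} (h : ∀ x ∈ E, ap g x ∈ E)
    {y : Fin n → F} (hy : y ∈ perp q (E : Set (Fin n → F))) :
    ap g y ∈ perp q (E : Set (Fin n → F)) := fun x hx => by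
  rw [← ap_ap_inv g x, herm_ap]
  exact hy _ (ap_inv_mem h hx)

/-- The radical of a subspace stabilised by a Sylow subgroup lies in it. -/
theorem rad_le_sylow (hF : Fintype.card F = q ^ 2) [Fact p.Prime] [CharP F p] (hn : 0 < n)
    (P : Sylow p (SU n F q)) {E : Submodule F (Fin n → F)}
    (hE : ∀ g ∈ (P : Subgroup (SU n F q)), ∀ x ∈ E, ap g x ∈ E) :
    rad q E ≤ (P : Subgroup (SU n F q)) := by
  have h : (P : Subgroup (SU n F q)) ≤ Subgroup.normalizer (rad q E : Set (SU n F q)) := fun g hg =>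
    Subgroup.mem_normalizer_fintype fun r hr => conj_mem_rad_self hr (hE g hg)
  have hp := P.2.to_sup_of_normal_right' (isPGroup_rad hF hn E) h
  exact (P.3 hp le_sup_left) ▸ le_sup_right

theorem exists_perp_one (hF : Fintype.card F = q ^ 2) {E : Submodule F (Fin n → F)} {x : Fin n → F}
    (hx : x ∉ E) : ∃ w ∈ perp q (E : Set (Fin n → F)), hermForm n F q w x = 1 := by
  classical
  let b := Module.finBasis F E
  have hbi : LinearIndependent F (fun i => (b i : Fin n → F)) :=
    b.linearIndependent.map' E.subtype E.ker_subtype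
  have hspan : Submodule.span F (Set.range fun i => (b i : Fin n → F)) = E := by
    rw [show (fun i => (b i : Fin n → F)) = E.subtype ∘ b from rfl, Set.range_comp,
      Submodule.span_image, b.span_eq, Submodule.map_top, Submodule.range_subtype]
  have hbi' : LinearIndependent F (Fin.cons x fun i => (b i : Fin n → F)) := by
    rw [linearIndependent_finCons, hspan]
    exact ⟨hbi, hx⟩
  obtain ⟨w, -, hw⟩ := exists_herm_eq_mem hF (nondeg_top hF) hbi' (fun _ => Submodule.mem_top)
    (Fin.cons 1 fun _ => 0)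
  refine ⟨w, ?_, by simpa using hw 0⟩
  rw [← hspan, perp_span hF]
  rintro _ ⟨i, rfl⟩
  simpa using hw i.succ

/-- A flag of two isotropic vectors fixed by a Sylow subgroup. -/
structure Flag (P : Subgroup (SU n F q)) where
  u : Fin n → F
  u' : Fin n → F
  hu : hermForm n F q u u = 0
  hu' : hermForm n F q u' u' = 0
  huu : hermForm n F q u u' = 0
  hind : LinearIndependent F ![u, u']
  fix : ∀ g ∈ P, ap g u = u
  fix' : ∀ g ∈ P, ap g u' - u' ∈ Submodule.span F {u}

theorem Flag.u_ne {P : Subgroup (SU n F q)} (D : Flag P) : D.u ≠ 0 := by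
  intro e
  exact (LinearIndependent.ne_zero 0 D.hind) (by simpa using e)

theorem Flag.pair_le_perp (hF : Fintype.card F = q ^ 2) {P : Subgroup (SU n F q)} (D : Flag P) :
    Submodule.span F ({D.u, D.u'} : Set (Fin n → F)) ≤
      perp q (Submodule.span F ({D.u, D.u'} : Set (Fin n → F)) : Set (Fin n → F)) := by
  have h : hermForm n F q D.u' D.u = 0 := (herm_eq_zero_symm hF).1 D.huu
  rw [perp_span hF, Submodule.span_le]
  rintro y (rfl | rfl)
  · exact mem_perp_pair.2 ⟨D.hu, D.huu⟩
  · exact mem_perp_pair.2 ⟨h, D.hu'⟩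

theorem Flag.pair_stable {P : Subgroup (SU n F q)} (D : Flag P) :
    ∀ g ∈ P, ∀ x ∈ Submodule.span F ({D.u, D.u'} : Set (Fin n → F)),
      ap g x ∈ Submodule.span F ({D.u, D.u'} : Set (Fin n → F)) := by
  intro g hg x hx
  obtain ⟨a, b, rfl⟩ := Submodule.mem_span_pair.1 hx
  obtain ⟨c, hc⟩ := Submodule.mem_span_singleton.1 (D.fix' g hg)
  refine Submodule.mem_span_pair.2 ⟨a + b * c, b, ?_⟩
  rw [ap_add, ap_smul, ap_smul, D.fix g hg, show ap g D.u' = c • D.u + D.u' by rw [hc]; abel]
  module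

theorem Flag.line_stable {P : Subgroup (SU n F q)} (D : Flag P) :
    ∀ g ∈ P, ∀ x ∈ Submodule.span F {D.u}, ap g x ∈ Submodule.span F {D.u} := by
  intro g hg x hx
  obtain ⟨a, rfl⟩ := Submodule.mem_span_singleton.1 hx
  rw [ap_smul, D.fix g hg]
  exact hx

/-- Every Sylow subgroup has a flag. -/
theorem exists_flag (hF : Fintype.card F = q ^ 2) [Fact p.Prime] [CharP F p] (hn : 4 ≤ n)
    (P : Sylow p (SU n F q)) : Nonempty (Flag (P : Subgroup (SU n F q))) := by
  suffices h : ∃ P0 : Sylow p (SU n F q), Nonempty (Flag (P0 : Subgroup (SU n F q))) by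
    obtain ⟨P0, ⟨D⟩⟩ := h
    obtain ⟨c, hc⟩ := MulAction.exists_smul_eq (SU n F q) P0 P
    have hmem : ∀ g ∈ (P : Subgroup (SU n F q)), c⁻¹ * g * c ∈ (P0 : Subgroup (SU n F q)) := by
      intro g hg
      rw [← hc, Sylow.coe_subgroup_smul, Subgroup.mem_pointwise_smul_iff_inv_smul_mem] at hg
      simpa [MulAut.smul_def, MulAut.inv_apply, MulAut.conj_symm_apply] using hg
    refine ⟨⟨ap c D.u, ap c D.u', by rw [herm_ap, D.hu], by rw [herm_ap, D.hu'],
      by rw [herm_ap, D.huu], ?_, fun g hg => ?_, fun g hg => ?_⟩⟩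
    · rw [LinearIndependent.pair_iff]
      intro a b h
      refine LinearIndependent.pair_iff.1 D.hind a b (ap_injective c ?_)
      rw [ap_zero, ← h, ap_add, ap_smul, ap_smul]
    · have := congrArg (ap c) (D.fix _ (hmem g hg))
      rwa [← ap_mul, show c * (c⁻¹ * g * c) = g * c by group, ap_mul] at this
    · obtain ⟨k, hk⟩ := Submodule.mem_span_singleton.1 (D.fix' _ (hmem g hg))
      refine Submodule.mem_span_singleton.2 ⟨k, ?_⟩
      have := congrArg (ap c) hk
      rwa [ap_smul, ap_sub, ← ap_mul, show c * (c⁻¹ * g * c) = g * c by group, ap_mul] at this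
  have hn0 : 0 < n := by omega
  obtain ⟨u, -, hu0, hu⟩ := exists_isotropic hF (W := (⊤ : Submodule F (Fin n → F))) (nondeg_top hF)
    (by rw [finrank_top, Module.finrank_fin_fun]; omega)
  obtain ⟨v, -, hv, hvu⟩ := exists_partner hF (nondeg_top hF) Submodule.mem_top hu0 hu
  have huv : hermForm n F q u v = 1 := by rw [← herm_swap hF v u, hvu, one_pow]
  have hPn := nondeg_pair hF hu hv (by rw [huv]; exact one_ne_zero)
  have hd := finrank_perp_add hF hPn
  rw [finrank_pair (indep_pair hF hu (by rw [huv]; exact one_ne_zero)), perp_span hF] at hd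
  obtain ⟨u', hu'W, hu'0, hu'⟩ := exists_isotropic hF
    (W := perp q ({u, v} : Set (Fin n → F))) (by rw [← perp_span hF]; exact nondeg_perp hF hPn) (by omega)
  obtain ⟨hu'u, hu'v⟩ := mem_perp_pair.1 hu'W
  have huu : hermForm n F q u u' = 0 := (herm_eq_zero_symm hF).1 hu'u
  have hind : LinearIndependent F ![u, u'] := by
    rw [LinearIndependent.pair_iff' hu0]
    intro a ha
    rw [← ha, herm_smul_left, huv, mul_one] at hu'v
    exact hu'0 (by rw [← ha, hu'v, zero_smul])
  set L := Submodule.span F ({u} : Set (Fin n → F)) with hL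
  set E := Submodule.span F ({u, u'} : Set (Fin n → F)) with hE
  have hnorm : rad q E ≤ Subgroup.normalizer (rad q L : Set (SU n F q)) := fun g hg =>
    Subgroup.mem_normalizer_fintype fun r hr => conj_mem_rad_self hr fun x hx => by
      have hle : L ≤ E := Submodule.span_mono (Set.singleton_subset_iff.2 (Set.mem_insert u {u'}))
      rw [hg.1 x (hle hx)]
      exact hx
  obtain ⟨P0, hP0⟩ := ((isPGroup_rad hF hn0 L).to_sup_of_normal_left' (isPGroup_rad hF hn0 E)
    hnorm).exists_le_sylow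
  have hQ1 : rad q L ≤ (P0 : Subgroup (SU n F q)) := le_sup_left.trans hP0
  have hQ2 : rad q E ≤ (P0 : Subgroup (SU n F q)) := le_sup_right.trans hP0
  have hfix : ∀ g ∈ (P0 : Subgroup (SU n F q)), ap g u = u := by
    obtain ⟨x, -, hx0, hx⟩ := exists_fixed_mod P0.2 (E := ⊥) (Y := ⊤)
      (fun g _ x hx => by rw [(Submodule.mem_bot F).1 hx, ap_zero]; exact Submodule.zero_mem _)
      (fun _ _ _ _ => Submodule.mem_top) (fun h => hu0 ((Submodule.mem_bot F).1 (h Submodule.mem_top)))
    have hx' : ∀ g ∈ (P0 : Subgroup (SU n F q)), ap g x = x := fun g hg =>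
      sub_eq_zero.1 ((Submodule.mem_bot F).1 (hx g hg))
    obtain ⟨a, rfl⟩ := Submodule.mem_span_singleton.1
      (mem_line_of_fixed hF hu0 hu fun g hg => hx' g (hQ1 hg))
    have ha : a ≠ 0 := by rintro rfl; exact hx0 (by rw [zero_smul]; exact Submodule.zero_mem _)
    intro g hg
    have := hx' g hg
    rw [ap_smul] at this
    exact smul_right_injective _ ha this
  refine ⟨P0, ⟨⟨u, u', hu, hu', huu, hind, hfix, ?_⟩⟩⟩
  have hLs : ∀ g ∈ (P0 : Subgroup (SU n F q)), ∀ x ∈ L, ap g x ∈ L := fun g hg x hx => by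
    obtain ⟨a, rfl⟩ := Submodule.mem_span_singleton.1 hx
    rw [ap_smul, hfix g hg]
    exact hx
  obtain ⟨x, hxY, hxL, hx⟩ := exists_fixed_mod P0.2 hLs
    (Y := perp q (L : Set (Fin n → F))) (fun g hg y hy => ap_mem_perp (hLs g hg) hy) (fun h => by
      obtain ⟨a, ha⟩ := Submodule.mem_span_singleton.1 (h (mem_perp_line.2 hu'u))
      rw [← ha, herm_smul_left, huv, mul_one] at hu'v
      exact hu'0 (by rw [← ha, hu'v, zero_smul]))
  obtain ⟨a, b, rfl⟩ := Submodule.mem_span_pair.1
    (mem_pair_of_fixed hF hind hu hu' huu (mem_perp_line.1 hxY) fun g hg => hx g (hQ2 hg))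
  have hb : b ≠ 0 := by
    rintro rfl
    exact hxL (Submodule.mem_span_singleton.2 ⟨a, by rw [zero_smul, add_zero]⟩)
  intro g hg
  obtain ⟨c, hc⟩ := Submodule.mem_span_singleton.1 (hx g hg)
  refine Submodule.mem_span_singleton.2 ⟨b⁻¹ * c, ?_⟩
  rw [mul_smul, hc, ap_add, ap_smul, ap_smul, hfix g hg, add_sub_add_left_eq_sub, ← smul_sub,
    inv_smul_smul₀ hb]

section Closed

variable [Fact p.Prime] [CharP F p]

/-- A subgroup of a Sylow subgroup containing all its Eichler elements is the Sylow subgroup. -/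
theorem le_of_eSU_mem (hF : Fintype.card F = q ^ 2) (hn : 0 < n) (P : Sylow p (SU n F q))
    (T : Subgroup (SU n F q))
    (hT : ∀ a w α, ∀ h : ESpec q a w α, a ≠ 0 → eSU hF h ∈ (P : Subgroup (SU n F q)) →
      eSU hF h ∈ T) : (P : Subgroup (SU n F q)) ≤ T := by
  suffices key : ∀ (k : ℕ) (E : Submodule F (Fin n → F)), n - Module.finrank F E = k →
      E ≤ perp q (E : Set (Fin n → F)) → (∀ g ∈ (P : Subgroup (SU n F q)), ∀ x ∈ E, ap g x ∈ E) →
      ∀ s ∈ (P : Subgroup (SU n F q)), (∀ x ∈ E, ap s x = x) → s ∈ T by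
    intro s hs
    refine key _ ⊥ rfl bot_le (fun g _ x hx => ?_) s hs fun x hx => ?_
    · rw [(Submodule.mem_bot F).1 hx, ap_zero]
      exact Submodule.zero_mem _
    · rw [(Submodule.mem_bot F).1 hx, ap_zero]
  intro k
  induction k using Nat.strong_induction_on with
  | h k ih =>
  intro E hk hEE hstab s hs hfix
  have hradP := rad_le_sylow hF hn P hstab
  set Y := perp q (E : Set (Fin n → F)) with hY
  by_cases hext : ∃ x ∈ Y, x ∉ E ∧ hermForm n F q x x = 0 ∧
      ∀ g ∈ (P : Subgroup (SU n F q)), ap g x - x ∈ E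
  · obtain ⟨x, hxY, hxE, hxx, hxP⟩ := hext
    set e := ap s x - x with he
    have heE : e ∈ E := hxP s hs
    set E' := E ⊔ Submodule.span F ({x} : Set (Fin n → F)) with hE'
    have hxE' : x ∈ E' := Submodule.mem_sup_right (Submodule.mem_span_singleton_self x)
    have hE'perp : E' ≤ perp q (E' : Set (Fin n → F)) := by
      intro y hy z hz
      obtain ⟨y₁, hy₁, y₂, hy₂, rfl⟩ := Submodule.mem_sup.1 hy
      obtain ⟨z₁, hz₁, z₂, hz₂, rfl⟩ := Submodule.mem_sup.1 hz
      obtain ⟨c, rfl⟩ := Submodule.mem_span_singleton.1 hy₂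
      obtain ⟨d, rfl⟩ := Submodule.mem_span_singleton.1 hz₂
      simp only [herm_add_left, herm_add_right hF, herm_smul_left, herm_smul_right, hEE hy₁ z₁ hz₁,
        hxY z₁ hz₁, (herm_eq_zero_symm hF).1 (hxY y₁ hy₁), hxx, mul_zero, add_zero]
    have hstab' : ∀ g ∈ (P : Subgroup (SU n F q)), ∀ z ∈ E', ap g z ∈ E' := by
      intro g hg z hz
      obtain ⟨z₁, hz₁, z₂, hz₂, rfl⟩ := Submodule.mem_sup.1 hz
      obtain ⟨d, rfl⟩ := Submodule.mem_span_singleton.1 hz₂
      rw [ap_add, ap_smul, show ap g x = (ap g x - x) + x by abel]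
      exact E'.add_mem (Submodule.mem_sup_left (hstab g hg z₁ hz₁))
        (E'.smul_mem d (E'.add_mem (Submodule.mem_sup_left (hxP g hg)) hxE'))
    have hlt : n - Module.finrank F E' < k := by
      have h1 : Module.finrank F E < Module.finrank F E' :=
        Submodule.finrank_lt_finrank_of_lt (lt_of_le_of_ne le_sup_left fun h => hxE (h ▸ hxE'))
      have h2 : Module.finrank F E' ≤ n := le_trans (Submodule.finrank_le E')
        (le_of_eq (Module.finrank_fin_fun F))
      omega
    by_cases he0 : e = 0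
    · refine ih _ hlt E' rfl hE'perp hstab' s hs fun z hz => ?_
      obtain ⟨z₁, hz₁, z₂, hz₂, rfl⟩ := Submodule.mem_sup.1 hz
      obtain ⟨d, rfl⟩ := Submodule.mem_span_singleton.1 hz₂
      rw [ap_add, ap_smul, hfix z₁ hz₁, sub_eq_zero.1 he0]
    obtain ⟨w, hwE, hwx⟩ := exists_perp_one hF hxE
    have hwe : hermForm n F q (-w) e = 0 := by rw [herm_neg_left, hwE e heE, neg_zero]
    obtain ⟨α, hspec⟩ := exists_alpha hF (hEE heE e heE) hwe
    have hxr := eSU_mem_rad hF hEE hspec heE (Y.neg_mem hwE)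
    have hxw : hermForm n F q x (-w) = -1 := by
      rw [herm_neg_right hF, ← herm_swap hF w x, hwx, one_pow]
    have hmap : ap (eSU hF hspec) x = ap s x := by
      rw [ap_eSU, hxY e heE, hxw, he]
      module
    have hnew : (eSU hF hspec)⁻¹ * s ∈ T := by
      refine ih _ hlt E' rfl hE'perp hstab' _ (mul_mem (inv_mem (hradP hxr)) hs) fun z hz => ?_
      obtain ⟨z₁, hz₁, z₂, hz₂, rfl⟩ := Submodule.mem_sup.1 hz
      obtain ⟨d, rfl⟩ := Submodule.mem_span_singleton.1 hz₂
      rw [ap_add, ap_smul, ap_mul, ap_mul, hfix z₁ hz₁, (inv_mem hxr : _ ∈ rad q E).1 z₁ hz₁,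
        ← hmap, ap_inv_ap]
    rw [show s = eSU hF hspec * ((eSU hF hspec)⁻¹ * s) by group]
    exact mul_mem (hT _ _ _ hspec he0 (hradP hxr)) hnew
  · push Not at hext
    refine rad_le_closure hF E hEE T (fun a w α h ha hw ha0 =>
      hT a w α h ha0 (hradP (eSU_mem_rad hF hEE h ha hw))) ⟨hfix, fun y hy => ?_⟩
    by_cases hYE : Y ≤ E
    · exact E.sub_mem (hYE (ap_mem_perp (hstab s hs) hy)) (hYE hy)
    obtain ⟨x, hxY, hxE, hxP⟩ := exists_fixed_mod P.2 hstab
      (fun g hg z hz => ap_mem_perp (hstab g hg) hz) hYE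
    have hxx : hermForm n F q x x ≠ 0 := fun h0 =>
      let ⟨g, hg, hne⟩ := hext x hxY hxE h0; hne (hxP g hg)
    set X := Y ⊓ perp q ({x} : Set (Fin n → F)) with hX
    have hXE : X ≤ E := by
      by_contra hne
      have hXs : ∀ g ∈ (P : Subgroup (SU n F q)), ∀ z ∈ X, ap g z ∈ X := by
        intro g hg z hz
        refine ⟨ap_mem_perp (hstab g hg) hz.1, mem_perp_singleton.2 ?_⟩
        have h1 : ap g z ∈ Y := ap_mem_perp (hstab g hg) hz.1
        rw [show x = ap g x - (ap g x - x) by abel, herm_sub_right hF, herm_ap,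
          mem_perp_singleton.1 hz.2, h1 _ (hxP g hg), sub_zero]
      obtain ⟨y', hy'X, hy'E, hy'P⟩ := exists_fixed_mod P.2 hstab hXs hne
      have hy'y' : hermForm n F q y' y' ≠ 0 := fun h0 =>
        let ⟨g, hg, hne⟩ := hext y' hy'X.1 hy'E h0; hne (hy'P g hg)
      obtain ⟨l, hl⟩ := exists_norm_eq hF (a := -hermForm n F q x x / hermForm n F q y' y')
        (by rw [div_pow, neg_pow_q hF, herm_self_fixed hF, herm_self_fixed hF])
      have hxy : hermForm n F q x y' = 0 := (herm_eq_zero_symm hF).1 (mem_perp_singleton.1 hy'X.2)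
      have hzz : hermForm n F q (x + l • y') (x + l • y') = 0 := by
        rw [herm_self_add hF, herm_self_smul, herm_smul_right, hxy, hl, mul_zero,
          zero_pow (q_ne_zero hF), div_mul_cancel₀ _ hy'y', add_zero, add_zero, add_neg_cancel]
      obtain ⟨g, hg, hne'⟩ := hext (x + l • y') (Y.add_mem hxY (Y.smul_mem l hy'X.1))
        (fun h => hxx (by
          have := hxY _ h
          rwa [herm_add_right hF, herm_smul_right, hxy, mul_zero, add_zero] at this)) hzz
      refine hne' ?_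
      rw [ap_add, ap_smul, show ap g x + l • ap g y' - (x + l • y') = (ap g x - x) + l • (ap g y' - y')
        by rw [smul_sub]; abel]
      exact E.add_mem (hxP g hg) (E.smul_mem l (hy'P g hg))
    set c := hermForm n F q y x / hermForm n F q x x with hc
    have h1 : y - c • x ∈ X := ⟨Y.sub_mem hy (Y.smul_mem _ hxY), mem_perp_singleton.2 (by
      rw [herm_sub_left, herm_smul_left, hc, div_mul_cancel₀ _ hxx, sub_self])⟩
    have h2 : ap s y - y = (ap s (y - c • x) - (y - c • x)) + c • (ap s x - x) := by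
      rw [ap_sub, ap_smul, smul_sub]; abel
    rw [h2, hfix _ (hXE h1), sub_self, zero_add]
    exact E.smul_mem c (hxP s hs)

/-- A subgroup closed under fusion containing a nontrivial central element is the Sylow subgroup. -/
theorem le_of_closed (hF : Fintype.card F = q ^ 2) (hn : 4 ≤ n) (P : Sylow p (SU n F q))
    (D : Flag (P : Subgroup (SU n F q))) (T : Subgroup (SU n F q))
    (hcl : ∀ x ∈ T, ∀ g, g * x * g⁻¹ ∈ (P : Subgroup (SU n F q)) → g * x * g⁻¹ ∈ T)
    (hTP : T ≤ (P : Subgroup (SU n F q))) {w : SU n F q} (hwT : w ∈ T) (hw1 : w ≠ 1)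
    (hwc : ∀ s ∈ (P : Subgroup (SU n F q)), s * w = w * s) : (P : Subgroup (SU n F q)) ≤ T := by
  have hn0 : 0 < n := by omega
  have hu := D.hu
  have hu0 := D.u_ne
  obtain ⟨v, -, hv, hvu⟩ := exists_partner hF (nondeg_top hF) Submodule.mem_top hu0 hu
  have huv : hermForm n F q D.u v = 1 := by rw [← herm_swap hF v D.u, hvu, one_pow]
  have hL : rad q (Submodule.span F {D.u}) ≤ (P : Subgroup (SU n F q)) :=
    rad_le_sylow hF hn0 P D.line_stable
  have hE : rad q (Submodule.span F ({D.u, D.u'} : Set (Fin n → F))) ≤ (P : Subgroup (SU n F q)) :=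
    rad_le_sylow hF hn0 P D.pair_stable
  have heP : ∀ b α, ∀ h : ESpec q D.u b α, eSU hF h ∈ (P : Subgroup (SU n F q)) := fun b α h =>
    hL (eSU_mem_rad_line hF h)
  -- the central element is a transvection
  obtain ⟨k, hk⟩ := P.2 ⟨w, hTP hwT⟩
  obtain ⟨hwu, hwb⟩ := ap_of_commute hF hu0 hu (show w ^ (p ^ k) = 1 from congrArg Subtype.val hk)
    fun c h => (hwc _ (heP _ _ h)).symm
  have hwrad : w ∈ rad q (Submodule.span F {D.u}) := by
    refine ⟨fun x hx => ?_, fun y hy => ?_⟩
    · obtain ⟨a, rfl⟩ := Submodule.mem_span_singleton.1 hx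
      rw [ap_smul, hwu]
    · obtain ⟨α, h⟩ := exists_alpha hF hu (mem_perp_line.1 hy)
      exact hwb y α h (hwc _ (heP _ _ h)).symm
  obtain ⟨b, α, hb, rfl⟩ := exists_eSU_of_mem_rad hF hu0 hu hwrad
  have hsym : ∀ b', hermForm n F q b' D.u = 0 → hermForm n F q b' b = hermForm n F q b b' := by
    intro b' hb'
    obtain ⟨α', h'⟩ := exists_alpha hF hu hb'
    have h1 := congrArg (fun A => ap A v) (hwc _ (heP _ _ h'))
    simp only [ap_mul, ap_eSU, hvu, hu, hb.orth, hb', (herm_eq_zero_symm hF).1 hb.orth,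
      (herm_eq_zero_symm hF).1 hb', herm_add_left, herm_sub_left, herm_smul_left, one_smul, mul_one,
      mul_zero, add_zero, sub_zero, zero_smul] at h1
    have h2 : (hermForm n F q b' b - hermForm n F q b b') • D.u = 0 := by
      linear_combination (norm := module) h1
    exact sub_eq_zero.1 ((smul_eq_zero.1 h2).resolve_right hu0)
  have hbperp : ∀ b', hermForm n F q b' D.u = 0 → hermForm n F q b' b = 0 := by
    intro b' hb'
    obtain ⟨l, hl⟩ : ∃ l : F, l ^ q - l ≠ 0 := by
      obtain ⟨x, hx⟩ := exists_trace_ne_zero hF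
      obtain ⟨δ, hδ0, hδ⟩ := exists_skew hF
      refine ⟨δ * x, ?_⟩
      rw [mul_pow, hδ, show -δ * x ^ q - δ * x = -(δ * (x + x ^ q)) by ring]
      exact neg_ne_zero.2 (mul_ne_zero hδ0 hx)
    have h1 := hsym (l • b') (by rw [herm_smul_left, hb', mul_zero])
    rw [herm_smul_left, herm_smul_right, ← hsym b' hb'] at h1
    have h2 : (l ^ q - l) * hermForm n F q b' b = 0 := by linear_combination -h1
    exact (mul_eq_zero.1 h2).resolve_left hl
  obtain ⟨m, hm⟩ : ∃ m : F, b = m • D.u := by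
    refine ⟨hermForm n F q b v, sub_eq_zero.1 (eq_zero_of_forall_right hF fun y => ?_)⟩
    have h2 := hbperp (y - hermForm n F q y D.u • v) (by
      rw [herm_sub_left, herm_smul_left, hvu, mul_one, sub_self])
    have h3 := congrArg (fun z : F => z ^ q) h2
    simp only [herm_swap hF, zero_pow (q_ne_zero hF)] at h3
    rw [herm_sub_right hF, herm_smul_right] at h3
    rw [herm_sub_left, herm_smul_left, ← herm_swap hF y D.u]
    linear_combination h3
  subst hm
  obtain ⟨c, hc⟩ : ∃ c, c = α + m - m ^ q := ⟨_, rfl⟩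
  have hct : c + c ^ q = 0 := by
    have := hb.tr
    rw [herm_self_smul, hu, mul_zero, add_zero] at this
    rw [hc, sub_pow_q hF, add_pow_q hF, pow_q_q hF]
    linear_combination this
  have hwtv : eSU hF hb = tv hF hu hct := ap_ext fun x => by
    simp only [ap_eSU, ap_tv, herm_smul_right, hc]
    module
  rw [hwtv] at hwT hw1
  have hc0 : c ≠ 0 := by
    rintro rfl
    exact hw1 (ap_ext fun x => by rw [ap_tv, zero_mul, zero_smul, add_zero, ap_one])
  -- the transvection with centre u'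
  have ht' : tv hF D.hu' hct ∈ T := by
    obtain ⟨g, -, hgu⟩ := exists_map_isotropic hF (nondeg_top hF)
      (by rw [finrank_top, Module.finrank_fin_fun]; omega)
      (Submodule.mem_top (x := D.u)) (Submodule.mem_top (x := D.u')) hu D.hu' hu0
      (fun e => (LinearIndependent.ne_zero 1 D.hind) (by simpa using e))
    have hconj : g * tv hF hu hct * g⁻¹ = tv hF D.hu' hct := by
      rw [mul_inv_eq_iff_eq_mul]
      refine ap_ext fun x => ?_
      simp only [ap_mul, ap_tv, ap_add, ap_smul, hgu, ← herm_ap g x D.u]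
    rw [← hconj]
    refine hcl _ hwT g ?_
    rw [hconj]
    exact hE (eSU_mem_rad hF (D.pair_le_perp hF) _ (Submodule.subset_span (Or.inr rfl))
      (Submodule.zero_mem _))
  -- multiples of u'
  have hu'u : hermForm n F q D.u' D.u = 0 := (herm_eq_zero_symm hF).1 D.huu
  have hTn : ∀ s ∈ (P : Subgroup (SU n F q)), ∀ t ∈ T, s * t * s⁻¹ ∈ T := fun s hs t ht =>
    hcl t ht s (mul_mem (mul_mem hs (hTP ht)) (inv_mem hs))
  have hmul : ∀ m : F, ∃ γ, ∃ h : ESpec q D.u (m • D.u') γ, eSU hF h ∈ T := by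
    intro m
    obtain ⟨z, -, hz⟩ := exists_herm_eq_mem hF (nondeg_top hF) D.hind
      (fun _ => Submodule.mem_top) ![(0 : F), m / c]
    obtain ⟨hz1, hz2⟩ := Fin.forall_fin_two.1 hz
    simp only [Matrix.cons_val_zero, Matrix.cons_val_one] at hz1 hz2
    obtain ⟨β, hβ⟩ := exists_alpha hF hu hz1
    set t := tv hF D.hu' hct with htdef
    have htz : ap t z = z + m • D.u' := by rw [htdef, ap_tv, hz2, mul_div_cancel₀ _ hc0]
    have htu : ap t D.u = D.u := by rw [htdef, ap_tv, D.huu, mul_zero, zero_smul, add_zero]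
    have hconjspec : ESpec q D.u (z + m • D.u') β := by
      have := eSpec_ap t hβ
      rwa [htu, htz] at this
    have htr := hconjspec.tr
    rw [herm_self_add hF, herm_self_smul, D.hu', mul_zero, add_zero, herm_smul_right] at htr
    have hγ : ESpec q D.u (m • D.u') (hermForm n F q z (m • D.u')) := by
      refine ⟨hu, by rw [herm_smul_left, hu'u, mul_zero], ?_⟩
      rw [herm_self_smul, D.hu', mul_zero, add_zero, herm_smul_right]
      linear_combination htr - hβ.tr
    refine ⟨_, hγ, ?_⟩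
    have he : eSU hF hconjspec = eSU hF hγ * eSU hF hβ := by
      rw [eSU_mul hF hγ hβ (eSpec_add hF hγ hβ)]
      exact ap_ext fun x => by simp only [ap_eSU, add_comm (m • D.u') z]; module
    have hconj : t * eSU hF hβ * t⁻¹ = eSU hF hconjspec := by
      rw [conj_eSU hF t hβ (eSpec_ap t hβ)]
      exact ap_ext fun x => by simp only [ap_eSU, htu, htz]
    rw [show eSU hF hγ = t * (eSU hF hβ * t⁻¹ * (eSU hF hβ)⁻¹) by
      rw [← mul_assoc, ← mul_assoc, hconj, he, mul_inv_cancel_right]]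
    exact mul_mem ht' (hTn _ (heP _ _ hβ) _ (inv_mem ht'))
  -- closure under sums and conjugation
  let M : (Fin n → F) → Prop := fun b =>
    hermForm n F q b D.u = 0 ∧ ∃ γ, ∃ h : ESpec q D.u b γ, eSU hF h ∈ T
  have hMadd : ∀ b b', M b → M b' → M (b + b') := by
    rintro b b' ⟨hb1, γ, h, hT1⟩ ⟨hb2, γ', h', hT2⟩
    refine ⟨by rw [herm_add_left, hb1, hb2, add_zero], _, eSpec_add hF h h', ?_⟩
    rw [← eSU_mul hF h h' (eSpec_add hF h h')]
    exact mul_mem hT1 hT2
  have hstep : ∀ b, hermForm n F q b D.u = 0 → hermForm n F q b b = 0 →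
      hermForm n F q b v = 0 → hermForm n F q D.u' b ≠ 0 → M b := by
    intro b hb1 hb2 _ hb3
    obtain ⟨δ, hδ0, hδ⟩ := exists_skew hF
    -- scale `u'` so that the product with `b` has trace zero
    obtain ⟨l, hl⟩ : ∃ l : F, l = δ / hermForm n F q D.u' b := ⟨_, rfl⟩
    have hlub : hermForm n F q (l • D.u') b = δ := by
      rw [herm_smul_left, hl, div_mul_cancel₀ _ hb3]
    obtain ⟨γ, hγ, hγT⟩ := hmul l
    set z := l • D.u' - b with hz
    have hzz : hermForm n F q z z = 0 := by
      rw [hz, herm_sub_left, herm_sub_right hF, herm_sub_right hF, herm_self_smul, D.hu', hb2, hlub,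
        ← herm_swap hF (l • D.u') b, hlub, hδ]
      ring
    have hzu : hermForm n F q D.u z = 0 := by
      rw [hz, herm_sub_right hF, herm_smul_right, D.huu, (herm_eq_zero_symm hF).1 hb1, mul_zero,
        sub_zero]
    have hct' : δ⁻¹ + (δ⁻¹) ^ q = 0 := by rw [inv_pow, hδ, inv_neg, add_neg_cancel]
    set g := tv hF hzz hct'
    have hgu : ap g D.u = D.u := by rw [ap_tv, hzu, mul_zero, zero_smul, add_zero]
    have hgb : ap g (l • D.u') = b := by
      rw [ap_tv, show hermForm n F q (l • D.u') z = -δ by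
        rw [hz, herm_sub_right hF, herm_self_smul, D.hu', hlub, mul_zero, zero_sub],
        mul_neg, inv_mul_cancel₀ hδ0, neg_one_smul, hz]
      abel
    have hspec : ESpec q D.u b γ := by
      have := eSpec_ap g hγ
      rwa [hgu, hgb] at this
    refine ⟨hb1, γ, hspec, ?_⟩
    have hconj : g * eSU hF hγ * g⁻¹ = eSU hF hspec := by
      rw [conj_eSU hF g hγ (eSpec_ap g hγ)]
      exact ap_ext fun x => by simp only [ap_eSU, hgu, hgb]
    rw [← hconj]
    exact hcl _ hγT g (by rw [hconj]; exact heP _ _ hspec)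
  have hPn := nondeg_pair hF hu hv (by rw [huv]; exact one_ne_zero)
  have hd := finrank_perp_add hF hPn
  rw [finrank_pair (indep_pair hF hu (by rw [huv]; exact one_ne_zero)), perp_span hF] at hd
  set W := perp q ({D.u, v} : Set (Fin n → F)) with hWdef
  have hW : Nondeg q W := by rw [hWdef, ← perp_span hF]; exact nondeg_perp hF hPn
  set u0 := D.u' - hermForm n F q D.u' v • D.u with hu0def
  have hu0W : u0 ∈ W := mem_perp_pair.2 ⟨by
    rw [hu0def, herm_sub_left, herm_smul_left, hu'u, hu, mul_zero, sub_zero], by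
    rw [hu0def, herm_sub_left, herm_smul_left, huv, mul_one, sub_self]⟩
  have hu00 : u0 ≠ 0 := fun e => one_ne_zero (α := F)
    ((LinearIndependent.pair_iff.1 D.hind) (-hermForm n F q D.u' v) 1
      (by rw [one_smul, neg_smul, neg_add_eq_sub]; exact e)).2
  have hu0u0 : hermForm n F q u0 u0 = 0 := by
    simp [hu0def, herm_sub_left, herm_sub_right hF, herm_smul_left, herm_smul_right, hu, hu'u,
      D.huu, D.hu']
  have hu'0eq : ∀ x ∈ W, hermForm n F q D.u' x = hermForm n F q u0 x := fun x hx => by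
    rw [hu0def, herm_sub_left, herm_smul_left, (herm_eq_zero_symm hF).1 (mem_perp_pair.1 hx).1,
      mul_zero, sub_zero]
  obtain ⟨v', hv'W, hv', hv'u0⟩ := exists_partner hF hW hu0W hu00 hu0u0
  have hMW : ∀ x ∈ W, M x := by
    refine exists_add_isotropic hF hW (by omega) (fun b hbW hbb => ?_) fun a _ b _ => hMadd a b
    by_cases h0 : hermForm n F q D.u' b = 0
    swap
    · exact hstep b (mem_perp_pair.1 hbW).1 hbb (mem_perp_pair.1 hbW).2 h0
    -- split off a multiple of v'
    obtain ⟨k, hk0, hk⟩ : ∃ k : F, k ≠ 0 ∧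
        hermForm n F q (k • v') b + hermForm n F q (k • v') b ^ q = 0 := by
      by_cases hvb : hermForm n F q v' b = 0
      · exact ⟨1, one_ne_zero, by rw [one_smul, hvb, zero_pow (q_ne_zero hF), add_zero]⟩
      · obtain ⟨δ, hδ0, hδ⟩ := exists_skew hF
        refine ⟨δ / hermForm n F q v' b, div_ne_zero hδ0 hvb, ?_⟩
        rw [herm_smul_left, div_mul_cancel₀ _ hvb, hδ, add_neg_cancel]
    have hkW : k • v' ∈ W := W.smul_mem k hv'W
    have h1 : hermForm n F q D.u' (k • v') ≠ 0 := by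
      rw [hu'0eq _ hkW, herm_smul_right, ← herm_swap hF v' u0, hv'u0, one_pow, mul_one]
      exact (pow_q_eq_zero_iff hF).not.2 hk0
    have hkk : hermForm n F q (k • v') (k • v') = 0 := by rw [herm_self_smul, hv', mul_zero]
    have hM1 := hstep (k • v' + b) (mem_perp_pair.1 (W.add_mem hkW hbW)).1 (by
        rw [herm_self_add hF, hkk, hbb]; linear_combination hk)
      (mem_perp_pair.1 (W.add_mem hkW hbW)).2 (by rw [herm_add_right hF, h0, add_zero]; exact h1)
    have hM2 := hstep (-(k • v')) (mem_perp_pair.1 (W.neg_mem hkW)).1 (by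
        rw [herm_neg_left, herm_neg_right hF, hkk, neg_zero, neg_zero])
      (mem_perp_pair.1 (W.neg_mem hkW)).2 (by rw [herm_neg_right hF]; exact neg_ne_zero.2 h1)
    simpa using hMadd _ _ hM1 hM2
  -- all transvections with centre u
  have htvT : ∀ d : F, ∀ hd : d + d ^ q = 0, tv hF hu hd ∈ T := by
    intro d hd
    obtain ⟨δ, hδ0, hδ⟩ := exists_skew hF
    have hdq : d ^ q = -d := eq_neg_of_add_eq_zero_right hd
    obtain ⟨y, hy⟩ := exists_trace_eq hF (a := -d / δ) (by rw [div_pow, neg_pow_q hF, hdq, hδ, neg_neg, div_neg, neg_div])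
    obtain ⟨z, -, hz⟩ := exists_herm_eq_mem hF (nondeg_top hF) D.hind
      (fun _ => Submodule.mem_top) ![(0 : F), δ * y]
    obtain ⟨hz1, hz2⟩ := Fin.forall_fin_two.1 hz
    simp only [Matrix.cons_val_zero, Matrix.cons_val_one] at hz1 hz2
    obtain ⟨β, hβ⟩ := exists_alpha hF hu hz1
    obtain ⟨γ, hγ, hγT⟩ := hmul 1
    have hγ' : ESpec q D.u D.u' γ := by simpa using hγ
    have hγT' : eSU hF hγ' ∈ T := by
      rwa [show eSU hF hγ' = eSU hF hγ from ap_ext fun x => by simp only [ap_eSU, one_smul]]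
    have hcomm : eSU hF hγ' * eSU hF hβ = eSU hF hβ * eSU hF hγ' * tv hF hu hd := by
      rw [eSU_mul hF hγ' hβ (eSpec_add hF hγ' hβ), eSU_mul hF hβ hγ' (eSpec_add hF hβ hγ')]
      have hd' : d = hermForm n F q D.u' z - hermForm n F q z D.u' := by
        rw [← herm_swap hF z D.u', hz2, mul_pow, hδ]
        have h2 : δ * (y + y ^ q) = -d := by rw [hy, mul_div_cancel₀ _ hδ0]
        linear_combination h2
      refine ap_ext fun x => ?_
      simp only [ap_mul, ap_eSU, ap_tv, herm_add_left, herm_add_right hF, herm_smul_left, hu, hu'u,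
        hz1, (herm_eq_zero_symm hF).1 hu'u, (herm_eq_zero_symm hF).1 hz1, mul_zero, add_zero, hd']
      module
    rw [show tv hF hu hd = (eSU hF hγ')⁻¹ * ((eSU hF hβ)⁻¹ * eSU hF hγ' * (eSU hF hβ)⁻¹⁻¹) by
        rw [inv_inv, mul_assoc (eSU hF hβ)⁻¹, hcomm]; group]
    exact mul_mem (inv_mem hγT') (hTn _ (inv_mem (heP _ _ hβ)) _ hγT')
  have hradT : rad q (Submodule.span F {D.u}) ≤ T := by
    intro g hg
    obtain ⟨b, β, hb, rfl⟩ := exists_eSU_of_mem_rad hF hu0 hu hg
    set k := hermForm n F q b v with hk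
    obtain ⟨-, γ, h1, hT1⟩ := hMW (b - k • D.u) (mem_perp_pair.2 ⟨by
      rw [herm_sub_left, herm_smul_left, hb.orth, hu, mul_zero, sub_zero], by
      rw [herm_sub_left, herm_smul_left, huv, mul_one, hk, sub_self]⟩)
    have hd : (β - γ + k - k ^ q) + (β - γ + k - k ^ q) ^ q = 0 := by
      have e := h1.tr
      have hbu := hb.orth
      have hub : hermForm n F q D.u b = 0 := (herm_eq_zero_symm hF).1 hbu
      simp only [herm_sub_left, herm_sub_right hF, herm_smul_left, herm_smul_right, hbu, hub, hu,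
        mul_zero, sub_zero] at e
      rw [sub_pow_q hF, add_pow_q hF, sub_pow_q hF, pow_q_q hF]
      linear_combination hb.tr - e
    have he : eSU hF hb = eSU hF h1 * tv hF hu hd := ap_ext fun x => by
      simp only [ap_mul, ap_eSU, ap_tv, herm_add_left, herm_sub_left, herm_sub_right hF,
        herm_smul_left, herm_smul_right, hu, (herm_eq_zero_symm hF).1 hb.orth, mul_zero, sub_zero,
        add_zero]
      module
    rw [he]
    exact mul_mem hT1 (htvT _ hd)
  -- conjugates
  refine le_of_eSU_mem hF hn0 P T fun a b β h ha0 hP => ?_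
  obtain ⟨g, -, hga⟩ := exists_map_isotropic hF (nondeg_top hF)
    (by rw [finrank_top, Module.finrank_fin_fun]; omega)
    (Submodule.mem_top (x := a)) (Submodule.mem_top (x := D.u)) h.iso hu ha0 hu0
  have h' : ESpec q D.u (ap g b) β := by
    have := eSpec_ap g h
    rwa [hga] at this
  have hconj : g * eSU hF h * g⁻¹ = eSU hF h' := by
    rw [conj_eSU hF g h (eSpec_ap g h)]
    exact ap_ext fun x => by simp only [ap_eSU, hga]
  have hT1 := hcl _ (hradT (eSU_mem_rad_line hF h')) g⁻¹
  rw [← hconj, show g⁻¹ * (g * eSU hF h * g⁻¹) * g⁻¹⁻¹ = eSU hF h by group] at hT1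
  exact hT1 hP

end Closed

end Cfsg.Agent.H89.SUSylow
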