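import Cfsg.Agent.Unitary.Generation

/-!
Inside a non-degenerate subspace `W`, the elements of `SU` fixing `W^⊥` are generated by the Eichler
elements with parameters in `W`; these are `p`-elements. (Variant of `Unitary.Generation` keeping track
of the support and valid for all dimensions.)
-/

set_option autoImplicit false
set_option linter.unusedSectionVars false

namespace Cfsg.Agent.H89.SUSylow

open Cfsg Matrix Cfsg.Agent.Unitary

variable {F : Type*} [Field F] [Fintype F] {n q : ℕ}

/-- The subgroup generated by the Eichler elements with parameters in `W`. -/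
def egroup (hF : Fintype.card F = q ^ 2) (W : Submodule F (Fin n → F)) : Subgroup (SU n F q) :=
  Subgroup.closure {A : SU n F q | ∃ (u w : Fin n → F) (α : F) (h : ESpec q u w α),
    u ∈ W ∧ w ∈ W ∧ A = eSU hF h}

theorem eSU_mem_egroup (hF : Fintype.card F = q ^ 2) {W : Submodule F (Fin n → F)} {u w : Fin n → F}
    {α : F} (h : ESpec q u w α) (hu : u ∈ W) (hw : w ∈ W) : eSU hF h ∈ egroup hF W :=
  Subgroup.subset_closure ⟨u, w, α, h, hu, hw, rfl⟩

theorem tv_mem_egroup (hF : Fintype.card F = q ^ 2) {W : Submodule F (Fin n → F)} {v : Fin n → F}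
    {c : F} (hv : hermForm n F q v v = 0) (hc : c + c ^ q = 0) (hvW : v ∈ W) :
    tv hF hv hc ∈ egroup hF W :=
  eSU_mem_egroup hF _ hvW W.zero_mem

theorem egroup_mono (hF : Fintype.card F = q ^ 2) {V W : Submodule F (Fin n → F)} (h : V ≤ W) :
    egroup hF V ≤ egroup hF W :=
  (Subgroup.closure_le _).2 fun _ ⟨_, _, _, hs, hu, hw, he⟩ => he ▸ eSU_mem_egroup hF hs (h hu) (h hw)

theorem egroup_le_fixer (hF : Fintype.card F = q ^ 2) {W : Submodule F (Fin n → F)} :
    egroup hF W ≤ fixer n F q (perp q (W : Set (Fin n → F))) :=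
  (Subgroup.closure_le _).2 fun _ ⟨_, _, _, hs, hu, hw, he⟩ =>
    he ▸ eSU_mem_fixer hF hs (perp_herm_eq_zero hF hu) (perp_herm_eq_zero hF hw)

/-- One transvection maps `x` to `y` when `h(x,y)` is non-zero of trace zero. -/
theorem egroup_step (hF : Fintype.card F = q ^ 2) {W : Submodule F (Fin n → F)}
    {x y : Fin n → F} (hxW : x ∈ W) (hyW : y ∈ W) (hx : hermForm n F q x x = 0)
    (hy : hermForm n F q y y = 0) (ht : hermForm n F q x y + hermForm n F q x y ^ q = 0)
    (h0 : hermForm n F q x y ≠ 0) :
    ∃ g ∈ egroup hF W, ap g x = y := by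
  have hz : hermForm n F q (x - y) (x - y) = 0 := by
    rw [herm_sub_left, herm_sub_right hF, herm_sub_right hF, hx, hy, ← herm_swap hF x y]
    linear_combination -ht
  let t := hermForm n F q x y
  have htne : t ≠ 0 := h0
  have htq : t ^ q = -t := eq_neg_of_add_eq_zero_right ht
  have hc : (t⁻¹) + (t⁻¹) ^ q = 0 := by rw [inv_pow, htq, inv_neg, add_neg_cancel]
  refine ⟨tv hF hz hc, tv_mem_egroup hF hz hc (W.sub_mem hxW hyW), ?_⟩
  rw [ap_tv, herm_sub_right hF, hx, zero_sub]
  rw [show t⁻¹ * -hermForm n F q x y = -1 by rw [mul_neg, inv_mul_cancel₀ htne], neg_one_smul]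
  abel

/-- Transvections supported on `W` act transitively on the non-zero isotropic vectors of `W`. -/
theorem egroup_map_isotropic (hF : Fintype.card F = q ^ 2) {W : Submodule F (Fin n → F)}
    (hW : Nondeg q W) (h3 : 3 ≤ Module.finrank F W) {x y : Fin n → F} (hxW : x ∈ W) (hyW : y ∈ W)
    (hx : hermForm n F q x x = 0) (hy : hermForm n F q y y = 0) (hx0 : x ≠ 0) (hy0 : y ≠ 0) :
    ∃ g ∈ egroup hF W, ap g x = y := by
  obtain ⟨δ, hδ0, hδ⟩ := exists_skew hF
  have hδt : δ + δ ^ q = 0 := by rw [hδ, add_neg_cancel]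
  have two : ∀ {x y : Fin n → F}, x ∈ W → y ∈ W → hermForm n F q x x = 0 →
      hermForm n F q y y = 0 → LinearIndependent F ![x, y] →
      ∃ g ∈ egroup hF W, ap g x = y := by
    intro x y hxW hyW hx hy hind
    obtain ⟨z, hzW, hz, hzx, hzy⟩ :=
      exists_iso_pair hF hW h3 hxW hyW hx hy hind (a := δ) (b := δ) hδ0
    obtain ⟨g, hg, hgx⟩ := egroup_step hF hxW hzW hx hz
      (by rw [← herm_swap hF z x, hzx, pow_q_q hF, add_comm, hδt])
      (by rw [← herm_swap hF z x, hzx]; exact (pow_q_eq_zero_iff hF).not.2 hδ0)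
    obtain ⟨g', hg', hgz⟩ := egroup_step hF hzW hyW hz hy (by rw [hzy, hδt]) (by rw [hzy]; exact hδ0)
    exact ⟨g' * g, mul_mem hg' hg, by rw [ap_mul, hgx, hgz]⟩
  by_cases hind : LinearIndependent F ![x, y]
  · exact two hxW hyW hx hy hind
  · rw [LinearIndependent.pair_iff' hx0] at hind
    push Not at hind
    obtain ⟨a, rfl⟩ := hind
    obtain ⟨v, hvW, hv, hvx⟩ := exists_partner hF hW hxW hx0 hx
    have ha : a ≠ 0 := by rintro rfl; exact hy0 (zero_smul F x)
    obtain ⟨g, hg, hgx⟩ := two hxW hvW hx hv (indep_pair hF hx (by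
      rw [← herm_swap hF v x, hvx, one_pow]; exact one_ne_zero))
    obtain ⟨g', hg', hgv⟩ := two hvW hyW hv hy (indep_pair hF hv (by
      rw [herm_smul_right, hvx, mul_one]; exact (pow_q_eq_zero_iff hF).not.2 ha))
    exact ⟨g' * g, mul_mem hg' hg, by rw [ap_mul, hgx, hgv]⟩

/-- The element swapping the two axes of a hyperbolic pair. -/
theorem egroup_weyl (hF : Fintype.card F = q ^ 2) {u v : Fin n → F}
    (hu : hermForm n F q u u = 0) (hv : hermForm n F q v v = 0) (hvu : hermForm n F q v u = 1)
    {W : Submodule F (Fin n → F)} (huW : u ∈ W) (hvW : v ∈ W)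
    {b : F} (hb0 : b ≠ 0) (hb : b + b ^ q = 0) :
    ∃ g ∈ egroup hF W,
      ap g u = (-b⁻¹) • v ∧ ap g v = b • u := by
  have huv : hermForm n F q u v = 1 := by rw [← herm_swap hF v u, hvu, one_pow]
  have hbq : b ^ q = -b := eq_neg_of_add_eq_zero_right hb
  have hs : -b⁻¹ + (-b⁻¹) ^ q = 0 := by rw [neg_pow_q hF, inv_pow, hbq, inv_neg, neg_neg, neg_add_cancel]
  refine ⟨tv hF hu hb * tv hF hv hs * tv hF hu hb,
    mul_mem (mul_mem (tv_mem_egroup hF hu hb huW) (tv_mem_egroup hF hv hs hvW))
      (tv_mem_egroup hF hu hb huW), ?_, ?_⟩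
  · simp only [ap_mul, ap_tv, hu, huv, hvu, herm_add_left, herm_smul_left, mul_zero, mul_one,
      zero_smul, add_zero, zero_add]
    match_scalars <;> field_simp
    all_goals ring
  · simp only [ap_mul, ap_tv, hu, hv, huv, hvu, herm_add_left, herm_smul_left, mul_zero, mul_one,
      add_zero, zero_add]
    match_scalars <;> field_simp
    all_goals ring

/-- The torus element `u ↦ a u`, for `a` in the fixed field. -/
theorem egroup_torus (hF : Fintype.card F = q ^ 2) {u v : Fin n → F}
    (hu : hermForm n F q u u = 0) (hv : hermForm n F q v v = 0) (hvu : hermForm n F q v u = 1)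
    {W : Submodule F (Fin n → F)} (huW : u ∈ W) (hvW : v ∈ W)
    {a : F} (ha0 : a ≠ 0) (ha : a ^ q = a) :
    ∃ g ∈ egroup hF W, ap g u = a • u := by
  obtain ⟨δ, hδ0, hδ⟩ := exists_skew hF
  have hb1 : δ + δ ^ q = 0 := by rw [hδ, add_neg_cancel]
  have hb2 : -(a * δ) + (-(a * δ)) ^ q = 0 := by
    rw [neg_pow_q hF, mul_pow, ha, hδ]; ring
  obtain ⟨g₁, hg₁, h1u, -⟩ := egroup_weyl hF hu hv hvu huW hvW hδ0 hb1
  obtain ⟨g₂, hg₂, -, h2v⟩ := egroup_weyl hF hu hv hvu huW hvW (neg_ne_zero.2 (mul_ne_zero ha0 hδ0)) hb2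
  refine ⟨g₂ * g₁, mul_mem hg₂ hg₁, ?_⟩
  rw [ap_mul, h1u, ap_smul, h2v, smul_smul]
  congr 1
  field_simp

/-- Every element supported on a hyperbolic plane is a product of transvections. -/
theorem plane_mem_egroup (hF : Fintype.card F = q ^ 2) {u v : Fin n → F}
    (hu : hermForm n F q u u = 0) (hv : hermForm n F q v v = 0) (hvu : hermForm n F q v u = 1)
    {g : SU n F q} (hg : g ∈ fixer n F q (perp q ({u, v} : Set (Fin n → F)))) :
    g ∈ egroup hF (Submodule.span F ({u, v} : Set (Fin n → F))) := by
  have huP : u ∈ Submodule.span F ({u, v} : Set (Fin n → F)) := Submodule.subset_span (Or.inl rfl)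
  have hvP : v ∈ Submodule.span F ({u, v} : Set (Fin n → F)) := Submodule.subset_span (Or.inr rfl)
  have huv : hermForm n F q u v = 1 := by rw [← herm_swap hF v u, hvu, one_pow]
  let S : Set (Fin n → F) := (perp q ({u, v} : Set (Fin n → F)) : Set (Fin n → F))
  let Pl := Submodule.span F ({u, v} : Set (Fin n → F))
  have hPl : Nondeg q Pl := nondeg_pair hF hu hv (by rw [huv]; exact one_ne_zero)
  have hmemPl : ∀ {g : SU n F q}, g ∈ fixer n F q S → ∀ x ∈ Pl, ∃ a b : F,
      ap g x = a • u + b • v := by
    intro g hg x hx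
    obtain ⟨a, b, hab⟩ := Submodule.mem_span_pair.1
      (ap_mem_of_fixer hF hPl (by rw [perp_span hF]; exact hg) hx)
    exact ⟨a, b, hab.symm⟩
  have heS : egroup hF Pl ≤ fixer n F q S := fun x hx => by
    have := egroup_le_fixer hF hx
    rwa [perp_span hF] at this
  -- step 1: reduce to `g u = l u`
  obtain ⟨t, htT, l, htu⟩ : ∃ t ∈ egroup hF Pl, ∃ l : F,
      ap (t * g) u = l • u := by
    obtain ⟨a, b, hab⟩ := hmemPl hg u (Submodule.subset_span (Or.inl rfl))
    by_cases hb : b = 0
    · exact ⟨1, one_mem _, a, by rw [one_mul, hab, hb, zero_smul, add_zero]⟩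
    · have hiso : a * b ^ q + b * a ^ q = 0 := by
        have := herm_ap g u u
        rw [hab, hu] at this
        simp only [herm_add_left, herm_add_right hF, herm_smul_left, herm_smul_right, hu, hv, huv,
          hvu, mul_zero, mul_one, zero_add, add_zero] at this
        linear_combination this
      have hc : -(a / b) + (-(a / b)) ^ q = 0 := by
        rw [neg_pow_q hF, div_pow]
        have := (pow_q_eq_zero_iff hF).not.2 hb
        field_simp
        linear_combination -hiso
      obtain ⟨d, hd0, hd⟩ := exists_skew hF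
      obtain ⟨w, hw, -, hwv⟩ := egroup_weyl hF hu hv hvu huP hvP hd0 (by rw [hd, add_neg_cancel])
      refine ⟨w * tv hF hu hc, mul_mem hw (tv_mem_egroup hF hu hc huP),
        b * d, ?_⟩
      have h1 : ap (tv hF hu hc) (a • u + b • v) = b • v := by
        rw [ap_tv, herm_add_left, herm_smul_left, herm_smul_left, hu, hvu]
        match_scalars <;> field_simp
        all_goals ring
      rw [ap_mul, ap_mul, hab, h1, ap_smul, hwv, smul_smul]
  rw [← Subgroup.mul_mem_cancel_left _ htT]
  replace hg : t * g ∈ fixer n F q S := mul_mem (heS htT) hg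
  generalize t * g = g at hg htu ⊢
  clear t htT
  obtain ⟨m, k, hgv'⟩ := hmemPl hg v (Submodule.subset_span (Or.inr rfl))
  have hl : hermForm n F q (ap g u) u = 0 := by rw [htu, herm_smul_left, hu, mul_zero]
  have hdet := det_hyperbolic hF hu hv hvu hg
  rw [hl, mul_zero, sub_zero, htu, hgv', herm_smul_left, huv, herm_add_left, herm_smul_left,
    herm_smul_left, hu, hvu] at hdet
  simp only [mul_zero, mul_one, zero_add] at hdet
  have hunit := herm_ap g v u
  rw [htu, hgv', hvu, herm_smul_right, herm_add_left, herm_smul_left, herm_smul_left, hu, hvu] at hunit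
  simp only [mul_zero, mul_one, zero_add] at hunit
  have hl0 : l ≠ 0 := left_ne_zero_of_mul (hdet.trans_ne one_ne_zero)
  have hlq : l ^ q = l := by
    have hk0 : k ≠ 0 := right_ne_zero_of_mul (hdet.trans_ne one_ne_zero)
    apply mul_left_cancel₀ hk0
    linear_combination hunit - hdet
  -- step 2: reduce to `g u = u`
  obtain ⟨t, htT, htl⟩ := egroup_torus hF hu hv hvu huP hvP (inv_ne_zero hl0)
    (by rw [inv_pow, hlq])
  have htu' : ap (t * g) u = u := by rw [ap_mul, htu, ap_smul, htl, smul_smul, mul_inv_cancel₀ hl0, one_smul]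
  rw [← Subgroup.mul_mem_cancel_left _ htT]
  replace hg : t * g ∈ fixer n F q S := mul_mem (heS htT) hg
  generalize t * g = g at hg htu' ⊢
  -- step 3: a transvection
  obtain ⟨a, b, hgv⟩ := hmemPl hg v (Submodule.subset_span (Or.inr rfl))
  have hb : b = 1 := by
    have := herm_ap g v u
    rw [htu', hgv, hvu, herm_add_left, herm_smul_left, herm_smul_left, hu, hvu] at this
    simpa using this
  rw [hb, one_smul] at hgv
  have ha : a + a ^ q = 0 := by
    have := herm_ap g v v
    rw [hgv, hv, herm_self_add hF, herm_self_smul, hu, hv, herm_smul_left, huv] at this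
    simpa using this
  have key : g = tv hF hu ha := by
    refine ap_ext fun x => ?_
    have h := hg _ (sub_pair_mem_perp hu hv huv hvu x)
    rw [ap_sub, ap_sub, ap_smul, ap_smul, htu', hgv] at h
    rw [ap_tv]
    linear_combination (norm := module) h
  rw [key]
  exact tv_mem_egroup hF hu ha huP

/-- Elements of `SU` supported on a non-degenerate subspace are products of transvections. -/
theorem fixer_le_egroup (hF : Fintype.card F = q ^ 2)
    (W : Submodule F (Fin n → F)) (hW : Nondeg q W) :
    fixer n F q (perp q (W : Set (Fin n → F))) ≤ egroup hF W := by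
  induction hd : Module.finrank F W using Nat.strong_induction_on generalizing W with
  | h d ih =>
  intro g hg
  obtain hd1 | hd2 := lt_or_ge d 2
  · obtain ⟨f, hf, hspan⟩ := exists_ON_basis hF W hW
    revert f
    rw [hd]
    intro f hf hspan
    suffices g = 1 by rw [this]; exact one_mem _
    have key : ∀ i, ap g (f i) = f i := by
      intro i
      have hd' : d = 1 := by have := i.pos; omega
      subst hd'
      obtain rfl : i = 0 := Subsingleton.elim _ _
      obtain ⟨c, hc⟩ := (Submodule.mem_span_range_iff_exists_fun F).1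
        (hspan.symm ▸ ap_mem_of_fixer hF hW hg (hspan ▸ Submodule.subset_span ⟨0, rfl⟩) :
          ap g (f 0) ∈ Submodule.span F (Set.range f))
      rw [Fin.sum_univ_one] at hc
      suffices c 0 = 1 by rw [← hc, this, one_smul]
      have hmat : mat g = 1 + vecMulVec ((c 0 - 1) • f 0) (cj q (f 0)) := by
        refine Matrix.ext_iff_mulVec.2 fun x => ?_
        have hx : x - projON q f x ∈ perp q (W : Set (Fin n → F)) := by
          rw [← hspan, perp_span hF]
          exact hf.sub_proj_mem_perp x
        have h := hg _ hx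
        rw [ap_sub, projON, Fin.sum_univ_one, ap_smul, ← hc] at h
        rw [add_mulVec, one_mulVec, vecMulVec_mulVec, op_smul_eq_smul,
          dotProduct_comm, ← herm_eq_dot, ← ap_def]
        linear_combination (norm := module) h
      have hdet : (mat g).det = 1 := (g : Matrix.SpecialLinearGroup (Fin n) F).2
      have e : (Matrix.replicateRow (Fin 1) (cj q (f 0))
          * Matrix.replicateCol (Fin 1) ((c 0 - 1) • f 0)) 0 0
          = hermForm n F q ((c 0 - 1) • f 0) (f 0) := by
        rw [herm_eq_dot, dotProduct_comm]; rfl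
      rw [hmat, Matrix.vecMulVec_eq (Fin 1), det_one_add_mul_comm, Matrix.det_unique, Matrix.add_apply, Matrix.one_apply_eq, Fin.default_eq_zero, e,
        herm_smul_left, hf, if_pos rfl] at hdet
      linear_combination hdet
    refine ap_ext fun x => ?_
    have hx : x - projON q f x ∈ perp q (W : Set (Fin n → F)) := by
      rw [← hspan, perp_span hF]
      exact hf.sub_proj_mem_perp x
    have h := hg _ hx
    have hp : ap g (projON q f x) = projON q f x := by
      simp only [ap_def, projON, Matrix.mulVec_sum, Matrix.mulVec_smul]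
      simp only [← ap_def, key]
    rw [ap_sub, hp] at h
    rw [ap_one]
    linear_combination (norm := module) h
  obtain ⟨u, huW, hu0, hu⟩ := exists_isotropic hF hW (hd.symm ▸ hd2)
  obtain ⟨v, hvW, hv, hvu⟩ := exists_partner hF hW huW hu0 hu
  have huv : hermForm n F q u v = 1 := by rw [← herm_swap hF v u, hvu, one_pow]
  have hne : hermForm n F q u v ≠ 0 := by rw [huv]; exact one_ne_zero
  have hP := nondeg_pair hF hu hv hne
  have hPW := span_pair_le huW hvW
  have hPd := finrank_pair (indep_pair hF hu hne)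
  obtain hd3 | hd3 := lt_or_ge d 3
  · refine egroup_mono hF hPW (plane_mem_egroup hF hu hv hvu (fun s hs => hg s ?_))
    have hWP : W = Submodule.span F ({u, v} : Set (Fin n → F)) :=
      (Submodule.eq_of_le_of_finrank_le hPW (by omega)).symm
    rw [hWP, SetLike.mem_coe, perp_span hF]
    exact hs
  · -- move `u` back, then `v`
    obtain ⟨t, htT, htu⟩ := egroup_map_isotropic hF hW (hd.symm ▸ hd3)
      (ap_mem_of_fixer hF hW hg huW) huW (by rw [herm_ap, hu]) hu
      (fun h => hu0 (ap_injective g (h.trans (ap_zero g).symm))) hu0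
    rw [← Subgroup.mul_mem_cancel_left _ htT]
    replace hg := mul_mem (egroup_le_fixer hF htT) hg
    have hgu : ap (t * g) u = u := by rw [ap_mul, htu]
    generalize t * g = g at hg hgu ⊢
    clear t htT htu
    let v' := ap g v
    have hv'W : v' ∈ W := ap_mem_of_fixer hF hW hg hvW
    have hv'u : hermForm n F q v' u = 1 := by
      have := herm_ap g v u
      rwa [hgu, hvu] at this
    let w := v' - v - hermForm n F q (v' - v) v • u
    have hwu : hermForm n F q w u = 0 := by
      simp only [w, herm_sub_left, herm_smul_left, hv'u, hvu, hu, mul_zero, sub_self]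
    have hwv : hermForm n F q w v = 0 := by
      simp only [w, herm_sub_left, herm_smul_left, huv, mul_one, sub_self]
    have hwW : w ∈ W := W.sub_mem (W.sub_mem hv'W hvW) (W.smul_mem _ huW)
    have hspec : ESpec q u w (hermForm n F q (v' - v) v) := by
      refine ⟨hu, hwu, ?_⟩
      have h1 : hermForm n F q v' v' = 0 := by rw [herm_ap, hv]
      rw [show v' = (v + hermForm n F q (v' - v) v • u) + w by simp only [w]; abel,
        herm_self_add hF, herm_self_add hF, herm_self_smul, hu, hv, herm_smul_right, hvu,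
        herm_add_left, herm_smul_left, (herm_eq_zero_symm hF).1 hwu, (herm_eq_zero_symm hF).1 hwv,
        mul_one, mul_zero, pow_q_q hF] at h1
      simp only [mul_zero, add_zero, zero_add, zero_pow (q_ne_zero hF)] at h1
      linear_combination h1
    let E := eSU hF hspec
    have hEv : ap E v = v' := by
      simp only [E, ap_eSU, hvu, (herm_eq_zero_symm hF).1 hwv, w]
      module
    have hEu : ap E u = u := by
      simp only [E, ap_eSU, hu, (herm_eq_zero_symm hF).1 hwu]
      module
    have hET : E ∈ egroup hF W := eSU_mem_egroup hF hspec huW hwW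
    have hEW : E ∈ fixer n F q (perp q (W : Set (Fin n → F))) :=
      eSU_mem_fixer hF hspec (perp_herm_eq_zero hF huW) (perp_herm_eq_zero hF hwW)
    rw [← Subgroup.mul_mem_cancel_left _ (inv_mem hET)]
    replace hg := mul_mem (inv_mem hEW) hg
    have hgu' : ap (E⁻¹ * g) u = u := by
      rw [ap_mul, hgu]; nth_rw 1 [← hEu]; exact ap_inv_ap E u
    have hgv' : ap (E⁻¹ * g) v = v := by
      rw [ap_mul, show ap g v = ap E v from hEv.symm, ap_inv_ap]
    generalize E⁻¹ * g = g at hg hgu' hgv' ⊢
    have hlt := inf_perp_finrank hF hP hPW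
    refine egroup_mono hF inf_le_left (ih _ (by omega) _ (inf_perp_nondeg hF hW hP hPW) rfl ?_)
    intro x hx
    obtain ⟨a, ha, b, hb, rfl⟩ :=
      Submodule.mem_sup.1 ((isCompl_perp hF hW).sup_eq_top.symm ▸ Submodule.mem_top (x := x))
    have ha' : a - hermForm n F q a v • u - hermForm n F q a u • v = 0 := by
      have hp := sub_pair_mem_perp hu hv huv hvu a
      have hmem : a - hermForm n F q a v • u - hermForm n F q a u • v
          ∈ W ⊓ perp q (Submodule.span F ({u, v} : Set (Fin n → F)) : Set (Fin n → F)) :=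
        ⟨W.sub_mem (W.sub_mem ha (W.smul_mem _ huW)) (W.smul_mem _ hvW),
          by rw [perp_span hF]; exact hp⟩
      refine inf_perp_nondeg hF hW hP hPW _ hmem fun y hy => ?_
      have h1 := hx y hy
      rw [herm_add_left, hb y hy.1, add_zero] at h1
      have hyu : hermForm n F q u y = 0 :=
        (herm_eq_zero_symm hF).1 (hy.2 u (Submodule.subset_span (Or.inl rfl)))
      have hyv : hermForm n F q v y = 0 :=
        (herm_eq_zero_symm hF).1 (hy.2 v (Submodule.subset_span (Or.inr rfl)))
      simp only [herm_sub_left, herm_smul_left, hyu, hyv, h1, mul_zero, sub_zero]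
    have hga : ap g a = a := by
      rw [sub_sub, sub_eq_zero] at ha'
      rw [ha', ap_add, ap_smul, ap_smul, hgu', hgv']
    rw [ap_add, hga, hg b hb]


end Cfsg.Agent.H89.SUSylow
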