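import Cfsg.Agent.H89.SUFusion
import Cfsg.Agent.H89.SimpleTools

/-!
The fusion system of `PSU_n`, `n ≥ 4`, in defining characteristic is simple.
-/

set_option autoImplicit false
set_option linter.unusedSectionVars false

namespace Cfsg.Agent.H89.SUSylow

open Matrix Cfsg Cfsg.FusionSystem Cfsg.Agent.FusionSys Cfsg.Agent.H89 Cfsg.Agent.Unitary
open scoped Pointwise

universe u v

variable {F : Type u} [Field F] [Fintype F] {n q p : ℕ} [Fact p.Prime] [CharP F p]

/-- Root elements on a totally isotropic plane. -/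
theorem exists_root (hF : Fintype.card F = q ^ 2) (hn : 0 < n) {E : Submodule F (Fin n → F)}
    {a b : Fin n → F} (hE : E = Submodule.span F ({a, b} : Set (Fin n → F)))
    (hind : LinearIndependent F ![a, b]) (ha : hermForm n F q a a = 0)
    (hab : hermForm n F q b a = 0) (c : F) :
    ∃ x : SU n F q, (∃ k, x ^ (p ^ k) = 1) ∧ ap x a = a ∧ ap x b = b + c • a ∧
      (∀ z ∈ E, ap x z ∈ E) ∧ ∀ y ∈ perp q (E : Set (Fin n → F)), ap x y - y ∈ E := by
  obtain ⟨z, -, hz⟩ := exists_herm_eq_mem hF (nondeg_top hF) hind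
    (fun _ => Submodule.mem_top) ![(0 : F), 1]
  obtain ⟨hz1, hz2⟩ := Fin.forall_fin_two.1 hz
  simp only [Matrix.cons_val_zero, Matrix.cons_val_one] at hz1 hz2
  set w := ((-c) ^ q) • z with hw
  have hwa : hermForm n F q w a = 0 := by rw [hw, herm_smul_left, hz1, mul_zero]
  have hbw : hermForm n F q b w = -c := by
    rw [hw, herm_smul_right, ← herm_swap hF z b, hz2, one_pow, mul_one, pow_q_q hF]
  obtain ⟨α, h⟩ := exists_alpha hF ha hwa
  have haE : a ∈ E := hE ▸ Submodule.subset_span (Or.inl rfl)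
  have hbE : b ∈ E := hE ▸ Submodule.subset_span (Or.inr rfl)
  have hxa : ap (eSU hF h) a = a := by
    rw [ap_eSU, ha, (herm_eq_zero_symm hF).1 hwa]; simp
  have hxb : ap (eSU hF h) b = b + c • a := by
    rw [ap_eSU, hab, hbw]; module
  refine ⟨eSU hF h, ?_, hxa, hxb, fun y hy => ?_, fun y hy => ?_⟩
  · obtain ⟨k, hk⟩ := isPGroup_rad (p := p) hF hn _ ⟨_, eSU_mem_rad_line hF h⟩
    exact ⟨k, congrArg Subtype.val hk⟩
  · rw [hE] at hy
    obtain ⟨r, s, rfl⟩ := Submodule.mem_span_pair.1 hy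
    rw [ap_add, ap_smul, ap_smul, hxa, hxb]
    exact E.add_mem (E.smul_mem r haE) (E.smul_mem s (E.add_mem hbE (E.smul_mem c haE)))
  · rw [ap_eSU, hy a haE, show y + (0 : F) • w - hermForm n F q y w • a + (α * 0) • a - y =
      (-hermForm n F q y w) • a by module]
    exact E.smul_mem _ haE

/-- The elements fixing `u` are generated by `p`-elements fixing `u`. -/
theorem mem_closure_of_fix (hF : Fintype.card F = q ^ 2) (hn : 0 < n) {u : Fin n → F} (hu0 : u ≠ 0)
    (hu : hermForm n F q u u = 0) {g : SU n F q} (hg : ap g u = u) :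
    g ∈ Subgroup.closure {x : SU n F q | ap x u = u ∧ ∃ k, x ^ (p ^ k) = 1} := by
  obtain ⟨v, -, hv, hvu⟩ := exists_partner hF (nondeg_top hF) Submodule.mem_top hu0 hu
  have huv : hermForm n F q u v = 1 := by rw [← herm_swap hF v u, hvu, one_pow]
  have hpel : ∀ a b α, ∀ h : ESpec q a b α, ∃ k, (eSU hF h) ^ (p ^ k) = 1 := fun a b α h => by
    obtain ⟨k, hk⟩ := isPGroup_rad (p := p) hF hn _ ⟨_, eSU_mem_rad_line hF h⟩
    exact ⟨k, congrArg Subtype.val hk⟩
  obtain ⟨w, α, h, hEu, hEv, -, -⟩ := exists_eSU_match hF hu hv hvu hg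
  set X := Subgroup.closure {x : SU n F q | ap x u = u ∧ ∃ k, x ^ (p ^ k) = 1} with hX
  have hx : eSU hF h ∈ X := Subgroup.subset_closure ⟨hEu, hpel _ _ _ h⟩
  set x := (eSU hF h)⁻¹ * g with hxdef
  rw [show g = eSU hF h * x by rw [hxdef]; group]
  refine mul_mem hx ?_
  have hxu : ap x u = u := by
    rw [hxdef, ap_mul, hg]
    have := ap_inv_ap (eSU hF h) u
    rwa [hEu] at this
  have hxv : ap x v = v := by rw [hxdef, ap_mul, ← hEv, ap_inv_ap]
  set W := perp q ({u, v} : Set (Fin n → F)) with hWdef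
  have hW : Nondeg q W := by
    rw [hWdef, ← perp_span hF]
    exact nondeg_perp hF (nondeg_pair hF hu hv (by rw [huv]; exact one_ne_zero))
  have hxW : x ∈ fixer n F q (perp q (W : Set (Fin n → F))) := by
    intro y hy
    have hy0 := sub_pair_mem_perp hu hv huv hvu y
    set y0 := y - hermForm n F q y v • u - hermForm n F q y u • v with hy0def
    have h0 : y0 = 0 := hW y0 hy0 fun z hz => by
      simp only [hy0def, herm_sub_left, herm_smul_left, hy z hz,
        (herm_eq_zero_symm hF).1 (mem_perp_pair.1 hz).1, (herm_eq_zero_symm hF).1 (mem_perp_pair.1 hz).2,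
        mul_zero, sub_zero]
    rw [show y = hermForm n F q y v • u + hermForm n F q y u • v by
      rw [hy0def, sub_sub, sub_eq_zero] at h0; exact h0, ap_add, ap_smul, ap_smul, hxu, hxv]
  have hle : egroup hF W ≤ X := (Subgroup.closure_le _).2 fun _ ⟨a, b, β, hs, ha, hb, he⟩ => by
    subst he
    refine Subgroup.subset_closure ⟨?_, hpel _ _ _ hs⟩
    rw [ap_eSU, (herm_eq_zero_symm hF).1 (mem_perp_pair.1 ha).1,
      (herm_eq_zero_symm hF).1 (mem_perp_pair.1 hb).1]
    simp
  exact hle (fixer_le_egroup hF W hW hxW)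

theorem isSimple_of_central_quotient (hF : Fintype.card F = q ^ 2) (hn : 4 ≤ n) {G : Type v} [Group G]
    [Finite G] (π : SU n F q →* G) (hπ : Function.Surjective π)
    (hker : π.ker ≤ Subgroup.center (SU n F q)) (P : Sylow p (SU n F q)) (S : Sylow p G)
    (hS : (S : Subgroup G) = (P : Subgroup (SU n F q)).map π) :
    (groupFusionSystem (S : Subgroup G)).IsSimple p := by
  classical
  have hn0 : 0 < n := by omega
  obtain ⟨D⟩ := exists_flag hF hn P
  have hu0 := D.u_ne
  have hpS' : ∀ z ∈ Subgroup.center (SU n F q), ∀ k, z ^ (p ^ k) = 1 → z = 1 := by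
    intro z hz k hk
    have hc := card_center_SU hF (n := n) (by omega)
    have h1 : z ^ Nat.card (Subgroup.center (SU n F q)) = 1 :=
      congrArg Subtype.val (pow_card_eq_one' : (⟨z, hz⟩ : Subgroup.center (SU n F q)) ^ _ = 1)
    have hpq : p ∣ q := (CharP.cast_eq_zero_iff F p q).1 (natCast_q_eq_zero hF)
    have hnd : ¬ p ∣ Nat.card (Subgroup.center (SU n F q)) := fun hd => by
      rw [hc] at hd
      have h2 : p ∣ q + 1 := hd.trans (Nat.gcd_dvd_right n (q + 1))
      exact (Fact.out : p.Prime).not_dvd_one ((Nat.dvd_add_right hpq).1 h2)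
    have hco : Nat.Coprime (p ^ k) (Nat.card (Subgroup.center (SU n F q))) :=
      ((Fact.out : p.Prime).coprime_iff_not_dvd.2 hnd).pow_left k
    have := pow_gcd_eq_one.2 ⟨hk, h1⟩
    rwa [hco.gcd_eq_one, pow_one] at this
  have hinj : ∀ u ∈ (P : Subgroup (SU n F q)), π u = 1 → u = 1 := fun u hu h => by
    obtain ⟨k, hk⟩ := P.2 ⟨u, hu⟩
    exact hpS' u (hker (MonoidHom.mem_ker.2 h)) k (congrArg Subtype.val hk)
  have hcomm : ∀ u ∈ (P : Subgroup (SU n F q)), ∀ v ∈ (P : Subgroup (SU n F q)),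
      π u * π v = π v * π u → u * v = v * u := by
    intro u hu v hv h
    refine mul_inv_eq_one.1 (hinj _ (mul_mem (mul_mem hu hv) (Subgroup.inv_mem _ (mul_mem hv hu))) ?_)
    simp only [map_mul, map_inv, h]
    group
  have hπS : ∀ u ∈ (P : Subgroup (SU n F q)), π u ∈ (S : Subgroup G) := fun u hu =>
    hS ▸ Subgroup.mem_map_of_mem π hu
  have hlift : ∀ s ∈ (S : Subgroup G), ∃ u ∈ (P : Subgroup (SU n F q)), π u = s := fun s hs => by
    rw [hS] at hs; exact hs
  set L := Submodule.span F ({D.u} : Set (Fin n → F)) with hLdef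
  set E := Submodule.span F ({D.u, D.u'} : Set (Fin n → F)) with hEdef
  have hEE : E ≤ perp q (E : Set (Fin n → F)) := D.pair_le_perp hF
  have huE : D.u ∈ E := Submodule.subset_span (Or.inl rfl)
  have hu'E : D.u' ∈ E := Submodule.subset_span (Or.inr rfl)
  have hRL : rad q L ≤ (P : Subgroup (SU n F q)) := rad_le_sylow hF hn0 P D.line_stable
  have hRE : rad q E ≤ (P : Subgroup (SU n F q)) := rad_le_sylow hF hn0 P D.pair_stable
  refine isSimple_of_criterion S (isSaturated_group S) ?_ ?_ ?_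
  · intro hbot
    obtain ⟨δ, hδ0, hδ⟩ := exists_skew hF
    have ht : δ + δ ^ q = 0 := by rw [hδ, add_neg_cancel]
    have htP : tv hF D.hu ht ∈ (P : Subgroup (SU n F q)) := hRL (eSU_mem_rad_line hF _)
    have h1 : tv hF D.hu ht = 1 := hinj _ htP (Subgroup.mem_bot.1 (hbot ▸ hπS _ htP))
    obtain ⟨v, -, -, hvu⟩ := exists_partner hF (nondeg_top hF) Submodule.mem_top hu0 D.hu
    have h2 := congrArg (fun A => ap A v) h1
    simp only [ap_tv, hvu, mul_one, ap_one, add_eq_left, smul_eq_zero, hδ0, hu0, or_self] at h2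
  · intro T hT
    by_cases hne : T = ⊥
    · exact Or.inl hne
    refine Or.inr (le_antisymm hT.1 ?_)
    obtain ⟨z, hzT, hz1, hzc⟩ := exists_central_mem S hT hne
    obtain ⟨w, hw, rfl⟩ := hlift z (hT.1 hzT)
    rw [hS, Subgroup.map_le_iff_le_comap]
    refine (le_of_closed hF hn P D (T.comap π ⊓ (P : Subgroup (SU n F q))) (fun x hx g hg => ⟨?_, hg⟩)
      inf_le_right ⟨hzT, hw⟩ ?_ (fun v hv => hcomm v hv w hw (hzc _ (hπS v hv)))).trans inf_le_left
    · have hS' := hπS _ hg
      rw [map_mul, map_mul, map_inv] at hS'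
      have := mem_of_conj_mem hT hx.1 hS'
      rw [← map_inv, ← map_mul, ← map_mul] at this
      exact this
    · intro e
      exact hz1 (by rw [e, map_one])
  · set RHS := ⨆ (R : Subgroup G) (_ : (groupFusionSystem (S : Subgroup G)).IsFullyNormalized R ∧
      (groupFusionSystem (S : Subgroup G)).IsCentric R),
      autInducedBy (pElementsOfNormalizer p R) (S : Subgroup G) with hRHS
    set J : Subgroup (SU n F q) := (((RHS).comap (conjAutHom (S : Subgroup G))).map
      (Subgroup.normalizer ((S : Subgroup G) : Set G)).subtype).comap π with hJdef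
    have hord : ∀ x : SU n F q, (∃ e, x ^ (p ^ e) = 1) → ∃ k, orderOf (π x) = p ^ k := by
      rintro x ⟨e, he⟩
      obtain ⟨k, -, hk⟩ := (Nat.dvd_prime_pow (Fact.out : p.Prime)).1
        (orderOf_dvd_of_pow_eq_one (show π x ^ (p ^ e) = 1 by rw [← map_pow, he, map_one]))
      exact ⟨k, hk⟩
    have hR : ∀ (E0 : Submodule F (Fin n → F)),
        (∀ g ∈ (P : Subgroup (SU n F q)), ∀ x ∈ E0, ap g x ∈ E0) →
        (∀ s ∈ (P : Subgroup (SU n F q)), (∀ r ∈ rad q E0, r * s = s * r) → s ∈ rad q E0) →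
        ∀ (X : Set (SU n F q)), (∀ x ∈ X, (∀ z ∈ E0, ap x z ∈ E0) ∧ ∃ e, x ^ (p ^ e) = 1) →
        ∀ g ∈ Subgroup.closure X,
          (∀ s ∈ (P : Subgroup (SU n F q)), g * s * g⁻¹ ∈ (P : Subgroup (SU n F q))) → g ∈ J := by
      intro E0 hst hc X hX g hg hgU
      set R := (rad q E0).map π with hRdef
      have hRS : R ≤ (S : Subgroup G) := hS ▸ Subgroup.map_mono (rad_le_sylow hF hn0 P hst)
      have hnR : ∀ x : SU n F q, (∀ z ∈ E0, ap x z ∈ E0) →
          π x ∈ Subgroup.normalizer (R : Set G) := by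
        intro x hx
        refine mem_normalizer_of_maps ?_
        rintro _ ⟨r, hr, rfl⟩
        rw [← map_inv, ← map_mul, ← map_mul]
        exact Subgroup.mem_map_of_mem π (conj_mem_rad_self hr hx)
      have hnS : (S : Subgroup G) ≤ Subgroup.normalizer (R : Set G) := by
        intro s hs
        obtain ⟨v, hv, rfl⟩ := hlift s hs
        exact hnR v (hst v hv)
      have hcR : centralizerIn (S : Subgroup G) R ≤ R := by
        intro x hx
        obtain ⟨hxS, hxc⟩ := FusionSys.mem_centralizerIn.1 hx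
        obtain ⟨v, hv, rfl⟩ := hlift x hxS
        exact Subgroup.mem_map_of_mem π (hc v hv fun r hr =>
          hcomm r (rad_le_sylow hF hn0 P hst hr) v hv (hxc _ (Subgroup.mem_map_of_mem π hr)))
      have hgS : π g ∈ Subgroup.normalizer ((S : Subgroup G) : Set G) := by
        refine mem_normalizer_of_maps fun y hy => ?_
        obtain ⟨u, hu, rfl⟩ := hlift y hy
        rw [← map_inv, ← map_mul, ← map_mul]
        exact hπS _ (hgU u hu)
      have hgp : π g ∈ pElementsOfNormalizer p R := by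
        have : Subgroup.closure X ≤ (pElementsOfNormalizer p R).comap π :=
          (Subgroup.closure_le _).2 fun x hx =>
            Subgroup.subset_closure ⟨hnR x (hX x hx).1, hord x (hX x hx).2⟩
        exact this hg
      refine ⟨⟨π g, hgS⟩, ?_, rfl⟩
      show conjAutHom (S : Subgroup G) ⟨π g, hgS⟩ ∈ RHS
      exact (le_iSup₂ (f := fun R _ => autInducedBy (pElementsOfNormalizer p R) (S : Subgroup G)) R
        ⟨isFullyNormalized_of_le_normalizer S hRS hnS, isCentric_of_le_normalizer S hRS hnS hcR⟩)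
        (mem_autInducedBy.2 ⟨π g, hgp, hgS, rfl⟩)
    have hpow : ∀ s ∈ (P : Subgroup (SU n F q)), ∃ k, s ^ (p ^ k) = 1 := fun s hs => by
      obtain ⟨k, hk⟩ := P.2 ⟨s, hs⟩
      exact ⟨k, congrArg Subtype.val hk⟩
    have hcL : ∀ s ∈ (P : Subgroup (SU n F q)), (∀ r ∈ rad q L, r * s = s * r) → s ∈ rad q L := by
      intro s hs hc
      obtain ⟨k, hk⟩ := hpow s hs
      obtain ⟨hsu, hsb⟩ := ap_of_commute hF hu0 D.hu hk fun c h => (hc _ (eSU_mem_rad_line hF h)).symm
      refine ⟨fun x hx => ?_, fun y hy => ?_⟩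
      · obtain ⟨a, rfl⟩ := Submodule.mem_span_singleton.1 hx
        rw [ap_smul, hsu]
      · obtain ⟨α, h⟩ := exists_alpha hF D.hu (mem_perp_line.1 hy)
        exact hsb y α h (hc _ (eSU_mem_rad_line hF h)).symm
    have hcE : ∀ s ∈ (P : Subgroup (SU n F q)), (∀ r ∈ rad q E, r * s = s * r) → s ∈ rad q E := by
      intro s hs hc
      obtain ⟨k, hk⟩ := hpow s hs
      obtain ⟨hsu, hsb⟩ := ap_of_commute hF hu0 D.hu hk fun c h =>
        (hc _ (eSU_mem_rad hF hEE h huE (Submodule.zero_mem _))).symm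
      obtain ⟨hsu', -⟩ := ap_of_commute hF (fun e => (LinearIndependent.ne_zero 1 D.hind)
        (by simpa using e)) D.hu' hk fun c h =>
        (hc _ (eSU_mem_rad hF hEE h hu'E (Submodule.zero_mem _))).symm
      refine ⟨fun x hx => ?_, fun y hy => ?_⟩
      · obtain ⟨a, b, rfl⟩ := Submodule.mem_span_pair.1 hx
        rw [ap_add, ap_smul, ap_smul, hsu, hsu']
      · obtain ⟨α, h⟩ := exists_alpha hF D.hu (hy D.u huE)
        exact Submodule.span_mono (Set.singleton_subset_iff.2 (Set.mem_insert D.u {D.u'}))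
          (hsb y α h (hc _ (eSU_mem_rad hF hEE h huE hy)).symm)
    -- an element normalising P
    intro α hα
    obtain ⟨x, -, hxn, rfl⟩ := mem_autInducedBy.1 hα
    obtain ⟨g, rfl⟩ := hπ x
    have hgP : ∀ u ∈ (P : Subgroup (SU n F q)), g⁻¹ * u * g ∈ (P : Subgroup (SU n F q)) := by
      intro u hu
      have h1 : (π g)⁻¹ * π u * π g ∈ (S : Subgroup G) := by
        simpa using (Subgroup.mem_normalizer_iff.1 (Subgroup.inv_mem _ hxn) (π u)).1 (hπS u hu)
      obtain ⟨v, hv, hve⟩ := hlift _ h1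
      set z := v⁻¹ * (g⁻¹ * u * g) with hz
      have hzk : z ∈ Subgroup.center (SU n F q) := hker (MonoidHom.mem_ker.2 (by
        rw [hz, map_mul, map_inv, hve]
        simp only [map_mul, map_inv]
        group))
      obtain ⟨e₁, he₁⟩ := hpow u hu
      obtain ⟨e₂, he₂⟩ := hpow v hv
      have hu1 : u ^ (p ^ (e₁ + e₂)) = 1 := by rw [pow_add, pow_mul, he₁, one_pow]
      have hv1 : v ^ (p ^ (e₁ + e₂)) = 1 := by rw [add_comm, pow_add, pow_mul, he₂, one_pow]
      have hvz : g⁻¹ * u * g = v * z := by rw [hz]; group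
      have h2 : (g⁻¹ * u * g) ^ (p ^ (e₁ + e₂)) = 1 := by
        have h := _root_.conj_pow (i := p ^ (e₁ + e₂)) (a := g⁻¹) (b := u)
        rw [inv_inv] at h
        rw [h, hu1]; group
      rw [hvz, (show Commute v z from Subgroup.mem_center_iff.1 hzk v).mul_pow, hv1, one_mul] at h2
      rw [hvz, hpS' z hzk _ h2, mul_one]
      exact hv
    have hgn : g⁻¹ ∈ Subgroup.normalizer ((P : Subgroup (SU n F q)) : Set (SU n F q)) :=
      Subgroup.mem_normalizer_fintype fun u hu => by rw [inv_inv]; exact hgP u hu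
    have hgP' : ∀ u ∈ (P : Subgroup (SU n F q)), g * u * g⁻¹ ∈ (P : Subgroup (SU n F q)) := fun u hu =>
      (Subgroup.mem_normalizer_iff.1 (inv_inv g ▸ Subgroup.inv_mem _ hgn) u).1 hu
    -- the action of g on the flag
    obtain ⟨l, hl⟩ : ∃ l : F, l • D.u = ap g D.u := by
      refine Submodule.mem_span_singleton.1 (mem_line_of_fixed hF hu0 D.hu fun s hs => ?_)
      have h1 := congrArg (ap g) (D.fix _ (hgP s (hRL hs)))
      rwa [← ap_mul, show g * (g⁻¹ * s * g) = s * g by group, ap_mul] at h1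
    have hl0 : l ≠ 0 := by
      rintro rfl
      rw [zero_smul] at hl
      exact hu0 (ap_injective g (hl.symm.trans (ap_zero g).symm))
    have hgu' : ap g D.u' ∈ E := by
      refine mem_pair_of_fixed hF D.hind D.hu D.hu' D.huu ?_ fun s hs => ?_
      · have h1 := herm_ap g D.u' D.u
        rw [← hl, herm_smul_right, (herm_eq_zero_symm hF).1 D.huu] at h1
        exact (mul_eq_zero.1 h1).resolve_left ((pow_q_eq_zero_iff hF).not.2 hl0)
      · obtain ⟨c, hc⟩ := Submodule.mem_span_singleton.1 (D.fix' _ (hgP s (hRE hs)))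
        refine Submodule.mem_span_singleton.2 ⟨c * l, ?_⟩
        have h1 := congrArg (ap g) hc
        rw [ap_smul, ap_sub, ← ap_mul, show g * (g⁻¹ * s * g) = s * g by group, ap_mul, ← hl] at h1
        rw [mul_smul, h1]
    -- the torus element of the plane
    have huu' : hermForm n F q D.u' D.u = 0 := (herm_eq_zero_symm hF).1 D.huu
    have hswap : E = Submodule.span F ({D.u', D.u} : Set (Fin n → F)) := by rw [hEdef, Set.pair_comm]
    have hind' : LinearIndependent F ![D.u', D.u] := LinearIndependent.pair_symm_iff.1 D.hind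
    let Y : Set (SU n F q) := {x | (∀ z ∈ E, ap x z ∈ E) ∧ ∃ k, x ^ (p ^ k) = 1}
    let Q : SU n F q → Prop := fun x => x ∈ Subgroup.closure Y ∧ (∀ z ∈ E, ap x z ∈ E) ∧
      ∀ y ∈ perp q (E : Set (Fin n → F)), ap x y - y ∈ E
    have hQmul : ∀ a b, Q a → Q b → Q (a * b) := fun a b ha hb =>
      ⟨mul_mem ha.1 hb.1, fun z hz => by rw [ap_mul]; exact ha.2.1 _ (hb.2.1 z hz), fun y hy => by
        rw [ap_mul, show ap a (ap b y) - y = ap a (ap b y - y) + (ap a y - y) by rw [ap_sub]; abel]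
        exact E.add_mem (ha.2.1 _ (hb.2.2 y hy)) (ha.2.2 y hy)⟩
    have hU : ∀ c : F, ∃ x, Q x ∧ ap x D.u = D.u ∧ ap x D.u' = D.u' + c • D.u := fun c => by
      obtain ⟨x, hp, h1, h2, h3, h4⟩ := exists_root (p := p) hF hn0 hEdef D.hind D.hu huu' c
      exact ⟨x, ⟨Subgroup.subset_closure ⟨h3, hp⟩, h3, h4⟩, h1, h2⟩
    have hLo : ∀ c : F, ∃ x, Q x ∧ ap x D.u' = D.u' ∧ ap x D.u = D.u + c • D.u' := fun c => by
      obtain ⟨x, hp, h1, h2, h3, h4⟩ := exists_root (p := p) hF hn0 hswap hind' D.hu' D.huu c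
      exact ⟨x, ⟨Subgroup.subset_closure ⟨h3, hp⟩, h3, h4⟩, h1, h2⟩
    obtain ⟨a₁, ha₁, a₁u, a₁u'⟩ := hU l
    obtain ⟨b₁, hb₁, b₁u', b₁u⟩ := hLo (-l⁻¹)
    obtain ⟨a₂, ha₂, a₂u, a₂u'⟩ := hU (-1)
    obtain ⟨b₂, hb₂, b₂u', b₂u⟩ := hLo 1
    set h := a₁ * b₁ * a₁ * (a₂ * b₂ * a₂) with hh
    have hQh : Q h := hQmul _ _ (hQmul _ _ (hQmul _ _ ha₁ hb₁) ha₁) (hQmul _ _ (hQmul _ _ ha₂ hb₂) ha₂)
    have hhu : ap h D.u = l • D.u := by
      simp only [hh, ap_mul, ap_add, ap_smul, a₁u, a₁u', a₂u, a₂u', b₁u, b₁u', b₂u]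
      match_scalars <;> field_simp
      all_goals ring
    have hhu' : ap h D.u' = l⁻¹ • D.u' := by
      simp only [hh, ap_mul, ap_add, ap_smul, a₁u, a₁u', a₂u, a₂u', b₁u, b₁u', b₂u, b₂u']
      match_scalars <;> field_simp
      all_goals ring
    have hhP : ∀ s ∈ (P : Subgroup (SU n F q)), h * s * h⁻¹ ∈ (P : Subgroup (SU n F q)) := by
      intro s hs
      obtain ⟨c, hc⟩ := Submodule.mem_span_singleton.1 (D.fix' s hs)
      obtain ⟨z, -, hz⟩ := exists_herm_eq_mem hF (nondeg_top hF) D.hind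
        (fun _ => Submodule.mem_top) ![(0 : F), 1]
      obtain ⟨hz1, hz2⟩ := Fin.forall_fin_two.1 hz
      simp only [Matrix.cons_val_zero, Matrix.cons_val_one] at hz1 hz2
      obtain ⟨β, hspec⟩ := exists_alpha hF D.hu (w := ((-c) ^ q) • z)
        (by rw [herm_smul_left, hz1, mul_zero])
      have hUr : eSU hF hspec ∈ rad q L := eSU_mem_rad_line hF hspec
      have hUu' : ap (eSU hF hspec) D.u' = ap s D.u' := by
        rw [ap_eSU, huu', herm_smul_right, ← herm_swap hF z D.u', hz2, one_pow, mul_one, pow_q_q hF,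
          show ap s D.u' = D.u' + c • D.u by rw [hc]; abel]
        module
      set s' := (eSU hF hspec)⁻¹ * s with hs'
      have hs'P : s' ∈ (P : Subgroup (SU n F q)) := mul_mem (inv_mem (hRL hUr)) hs
      have hs'E : ∀ x ∈ E, ap s' x = x := by
        intro x hx
        obtain ⟨a, b, rfl⟩ := Submodule.mem_span_pair.1 hx
        rw [ap_add, ap_smul, ap_smul, D.fix s' hs'P, show ap s' D.u' = D.u' by
          rw [hs', ap_mul, ← hUu', ap_inv_ap]]
      have hkey : h * s' * h⁻¹ * s'⁻¹ ∈ rad q E := by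
        have hs'iE : ∀ x ∈ E, ap s'⁻¹ x = x := fun x hx => by
          nth_rw 1 [← hs'E x hx]; exact ap_inv_ap s' x
        have hiE : ∀ x ∈ E, ap h⁻¹ x ∈ E := fun x hx => ap_inv_mem hQh.2.1 hx
        refine ⟨fun x hx => ?_, fun y hy => ?_⟩
        · rw [ap_mul, ap_mul, ap_mul, hs'iE x hx, hs'E _ (hiE x hx), ap_ap_inv]
        · set y' := ap s'⁻¹ y with hy'
          have hy'p : y' ∈ perp q (E : Set (Fin n → F)) :=
            ap_mem_perp (fun x hx => by rw [hs'iE x hx]; exact hx) hy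
          obtain ⟨e, he, hye⟩ : ∃ e ∈ E, ap h⁻¹ y' = y' + e := by
            refine ⟨ap h⁻¹ (y' - ap h y'), hiE _ ?_, by rw [ap_sub, ap_inv_ap]; abel⟩
            rw [← neg_sub]
            exact E.neg_mem (hQh.2.2 y' hy'p)
          rw [ap_mul, ap_mul, ap_mul, ← hy', hye, ap_add, hs'E e he, hy', ap_ap_inv, ap_add,
            show ap h y + ap h e - y = (ap h y - y) + ap h e by abel]
          exact E.add_mem (hQh.2.2 y hy) (hQh.2.1 e he)
      have hhU : h * eSU hF hspec * h⁻¹ ∈ rad q L := conj_mem_rad_self hUr fun x hx => by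
        obtain ⟨a, rfl⟩ := Submodule.mem_span_singleton.1 hx
        rw [ap_smul, hhu]
        exact L.smul_mem _ (L.smul_mem _ (Submodule.mem_span_singleton_self _))
      rw [show h * s * h⁻¹ = (h * eSU hF hspec * h⁻¹) * (h * s' * h⁻¹ * s'⁻¹) * s' by rw [hs']; group]
      exact mul_mem (mul_mem (hRL hhU) (hRE hkey)) hs'P
    have hhJ : h ∈ J := hR E D.pair_stable hcE Y (fun x hx => hx) h hQh.1 hhP
    have hg1u : ap (h⁻¹ * g) D.u = D.u := by rw [ap_mul, ← hl, ← hhu, ap_inv_ap]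
    have hhn : h⁻¹ ∈ Subgroup.normalizer ((P : Subgroup (SU n F q)) : Set (SU n F q)) :=
      Subgroup.inv_mem _ (Subgroup.mem_normalizer_fintype hhP)
    have hgJ : h⁻¹ * g ∈ J := by
      refine hR L D.line_stable hcL {x | ap x D.u = D.u ∧ ∃ k, x ^ (p ^ k) = 1} (fun x hx => ⟨?_, hx.2⟩)
        _ (mem_closure_of_fix hF hn0 hu0 D.hu hg1u) fun s hs => ?_
      · intro z hz
        obtain ⟨a, rfl⟩ := Submodule.mem_span_singleton.1 hz
        rw [ap_smul, hx.1]
        exact hz
      · rw [show h⁻¹ * g * s * (h⁻¹ * g)⁻¹ = h⁻¹ * (g * s * g⁻¹) * h⁻¹⁻¹ by group]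
        exact (Subgroup.mem_normalizer_iff.1 hhn _).1 (hgP' s hs)
    have hall : g ∈ J := by
      rw [show g = h * (h⁻¹ * g) by group]
      exact mul_mem hhJ hgJ
    obtain ⟨⟨y, hy⟩, hyJ, hye⟩ := hall
    have hye' : y = π g := hye
    subst hye'
    exact hyJ

end Cfsg.Agent.H89.SUSylow
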