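import Cfsg.Agent.H89.SUGen

/-!
Radicals of stabilisers of totally isotropic subspaces in `SU_n`, and the two radicals in a Sylow
subgroup in defining characteristic.
-/

set_option autoImplicit false
set_option linter.unusedSectionVars false

namespace Cfsg.Agent.H89.SUSylow

open Cfsg Matrix Cfsg.Agent.Unitary

variable {F : Type*} [Field F] [Fintype F] {n q p : ℕ}

/-- The elements trivial on `E` and on `E^⊥/E`. -/
def rad (q : ℕ) (E : Submodule F (Fin n → F)) : Subgroup (SU n F q) where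
  carrier := {g | (∀ x ∈ E, ap g x = x) ∧ ∀ y ∈ perp q (E : Set (Fin n → F)), ap g y - y ∈ E}
  one_mem' := ⟨fun x _ => ap_one x, fun y _ => by rw [ap_one, sub_self]; exact E.zero_mem⟩
  mul_mem' {g h} hg hh := ⟨fun x hx => by rw [ap_mul, hh.1 x hx, hg.1 x hx], fun y hy => by
    rw [ap_mul, show ap g (ap h y) - y = ap g (ap h y - y) + (ap g y - y) by rw [ap_sub]; abel,
      hg.1 _ (hh.2 y hy)]
    exact E.add_mem (hh.2 y hy) (hg.2 y hy)⟩
  inv_mem' {g} hg := ⟨fun x hx => by nth_rw 1 [← hg.1 x hx]; exact ap_inv_ap g x, fun y hy => by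
    have h1 : ap g⁻¹ (ap g y - y) = ap g y - y := by
      nth_rw 1 [← hg.1 _ (hg.2 y hy)]; exact ap_inv_ap g _
    rw [ap_sub, ap_inv_ap] at h1
    rw [show ap g⁻¹ y - y = -(y - ap g⁻¹ y) by abel, h1]
    exact E.neg_mem (hg.2 y hy)⟩

theorem mem_rad {E : Submodule F (Fin n → F)} {g : SU n F q} : g ∈ rad q E ↔
    (∀ x ∈ E, ap g x = x) ∧ ∀ y ∈ perp q (E : Set (Fin n → F)), ap g y - y ∈ E := Iff.rfl

theorem conj_mem_rad {E E' : Submodule F (Fin n → F)} {g r : SU n F q} (hr : r ∈ rad q E)
    (hmap : ∀ x ∈ E, ap g x ∈ E') (hinv : ∀ x ∈ E', ap g⁻¹ x ∈ E) : g * r * g⁻¹ ∈ rad q E' := by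
  refine ⟨fun x hx => ?_, fun y hy => ?_⟩
  · rw [ap_mul, ap_mul, hr.1 _ (hinv x hx), ap_ap_inv]
  · have h1 : ap g⁻¹ y ∈ perp q (E : Set (Fin n → F)) := fun x hx => by
      rw [← herm_ap g, ap_ap_inv]
      exact hy _ (hmap x hx)
    have h2 := hmap _ (hr.2 _ h1)
    rwa [ap_sub, ap_ap_inv, ← ap_mul, ← ap_mul] at h2

theorem conj_mem_rad_self {E : Submodule F (Fin n → F)} {g r : SU n F q} (hr : r ∈ rad q E)
    (h : ∀ x ∈ E, ap g x ∈ E) : g * r * g⁻¹ ∈ rad q E := by
  refine conj_mem_rad hr h fun x hx => ?_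
  have hinj : Function.Injective fun z : E => (⟨ap g z, h z z.2⟩ : E) := fun a b e =>
    Subtype.ext (ap_injective g (congrArg Subtype.val e))
  obtain ⟨⟨z, hz⟩, hze⟩ := Finite.surjective_of_injective hinj ⟨x, hx⟩
  have hze' : ap g z = x := congrArg Subtype.val hze
  subst hze'
  rw [ap_inv_ap]
  exact hz

theorem isPGroup_rad (hF : Fintype.card F = q ^ 2) [Fact p.Prime] [CharP F p] (hn : 0 < n)
    (E : Submodule F (Fin n → F)) : IsPGroup p (rad q E) := by
  rintro ⟨g, hg⟩
  refine ⟨2, Subtype.ext ?_⟩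
  show g ^ (p ^ 2) = 1
  haveI : Nonempty (Fin n) := ⟨⟨0, hn⟩⟩
  set N := mat g - 1 with hN
  have hNv : ∀ y, N *ᵥ y = ap g y - y := fun y => by rw [hN, sub_mulVec, one_mulVec, ap_def]
  have h3 : N ^ 3 = 0 := by
    refine Matrix.ext_iff_mulVec.2 fun y => ?_
    have h1 : ap g y - y ∈ perp q (E : Set (Fin n → F)) := fun x hx => by
      rw [herm_sub_left, sub_eq_zero]
      nth_rw 1 [← hg.1 x hx]
      exact herm_ap g y x
    rw [show N ^ 3 = N * N * N by rw [pow_succ, pow_succ, pow_one], ← mulVec_mulVec, ← mulVec_mulVec,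
      hNv, hNv, hNv, hg.1 _ (hg.2 _ h1), sub_self, zero_mulVec]
  have hp3 : 3 ≤ p ^ 2 := le_trans (by norm_num) (Nat.pow_le_pow_left (Fact.out : p.Prime).two_le 2)
  have hpow : mat g ^ (p ^ 2) = 1 := by
    rw [show mat g = N + 1 by rw [hN, sub_add_cancel],
      add_pow_char_pow_of_commute (p := p) (n := 2) (Commute.one_right N), one_pow,
      pow_eq_zero_of_le hp3 h3, zero_add]
  refine Subtype.ext (Subtype.ext ?_)
  rw [SubmonoidClass.coe_pow, Matrix.SpecialLinearGroup.coe_pow]
  exact hpow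

theorem perp_perp_mem {E : Submodule F (Fin n → F)} {u y : Fin n → F} (hu : u ∈ E)
    (hy : y ∈ perp q (E : Set (Fin n → F))) : hermForm n F q y u = 0 := hy u hu

theorem eSU_mem_rad (hF : Fintype.card F = q ^ 2) {E : Submodule F (Fin n → F)}
    (hE : E ≤ perp q (E : Set (Fin n → F))) {u w : Fin n → F} {α : F} (h : ESpec q u w α)
    (hu : u ∈ E) (hw : w ∈ perp q (E : Set (Fin n → F))) : eSU hF h ∈ rad q E := by
  refine ⟨fun x hx => ?_, fun y hy => ?_⟩
  · rw [ap_eSU, hE hx u hu, (herm_eq_zero_symm hF).1 (hw x hx)]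
    simp
  · rw [ap_eSU, hy u hu]
    simp only [zero_smul, add_zero, mul_zero, add_sub_cancel_left]
    rw [show y - hermForm n F q y w • u - y = -(hermForm n F q y w • u) by abel]
    exact E.neg_mem (E.smul_mem _ hu)

theorem line_le_perp {u : Fin n → F} (hu : hermForm n F q u u = 0) :
    Submodule.span F {u} ≤ perp q ((Submodule.span F {u} : Submodule F (Fin n → F)) : Set (Fin n → F)) := by
  intro x hx y hy
  obtain ⟨a, rfl⟩ := Submodule.mem_span_singleton.1 hx
  obtain ⟨b, rfl⟩ := Submodule.mem_span_singleton.1 hy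
  rw [herm_smul_left, herm_smul_right, hu, mul_zero, mul_zero]

theorem mem_perp_line {u x : Fin n → F} :
    x ∈ perp q ((Submodule.span F {u} : Submodule F (Fin n → F)) : Set (Fin n → F)) ↔
      hermForm n F q x u = 0 := by
  refine ⟨fun h => h u (Submodule.mem_span_singleton_self u), fun h y hy => ?_⟩
  obtain ⟨b, rfl⟩ := Submodule.mem_span_singleton.1 hy
  rw [herm_smul_right, h, mul_zero]

theorem eSU_mem_rad_line (hF : Fintype.card F = q ^ 2) {u w : Fin n → F} {α : F}
    (h : ESpec q u w α) : eSU hF h ∈ rad q (Submodule.span F {u}) :=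
  eSU_mem_rad hF (line_le_perp h.iso) h (Submodule.mem_span_singleton_self u) (mem_perp_line.2 h.orth)

/-- An Eichler element with axis `u` matching the image of the partner `v` of `u`. -/
theorem exists_eSU_match (hF : Fintype.card F = q ^ 2) {u v : Fin n → F}
    (hu : hermForm n F q u u = 0) (hv : hermForm n F q v v = 0) (hvu : hermForm n F q v u = 1)
    {g : SU n F q} (hg : ap g u = u) :
    ∃ (w : Fin n → F) (α : F) (h : ESpec q u w α), ap (eSU hF h) u = u ∧ ap (eSU hF h) v = ap g v ∧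
      hermForm n F q w v = 0 ∧
      ∀ x, ap g x = x → hermForm n F q u x = 0 → hermForm n F q w x = 0 := by
  have huv : hermForm n F q u v = 1 := by rw [← herm_swap hF v u, hvu, one_pow]
  let v' := ap g v
  have hv'u : hermForm n F q v' u = 1 := by
    have := herm_ap g v u
    rwa [hg, hvu] at this
  let w := v' - v - hermForm n F q (v' - v) v • u
  have hwu : hermForm n F q w u = 0 := by
    simp only [w, herm_sub_left, herm_smul_left, hv'u, hvu, hu, mul_zero, sub_self]
  have hwv : hermForm n F q w v = 0 := by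
    simp only [w, herm_sub_left, herm_smul_left, huv, mul_one, sub_self]
  have hspec : ESpec q u w (hermForm n F q (v' - v) v) := by
    refine ⟨hu, hwu, ?_⟩
    have h1 : hermForm n F q v' v' = 0 := by rw [herm_ap, hv]
    rw [show v' = (v + hermForm n F q (v' - v) v • u) + w by simp only [w]; abel,
      herm_self_add hF, herm_self_add hF, herm_self_smul, hu, hv, herm_smul_right, hvu,
      herm_add_left, herm_smul_left, (herm_eq_zero_symm hF).1 hwu, (herm_eq_zero_symm hF).1 hwv,
      mul_one, mul_zero, pow_q_q hF] at h1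
    simp only [mul_zero, add_zero, zero_add, zero_pow (q_ne_zero hF)] at h1
    linear_combination h1
  refine ⟨w, _, hspec, ?_, ?_, hwv, fun x hx hux => ?_⟩
  · simp only [ap_eSU, hu, (herm_eq_zero_symm hF).1 hwu]
    module
  · show ap (eSU hF hspec) v = v'
    simp only [ap_eSU, hvu, (herm_eq_zero_symm hF).1 hwv, w]
    module
  · have h1 : hermForm n F q v' x = hermForm n F q v x := by
      nth_rw 1 [← hx]
      exact herm_ap g v x
    simp only [w, herm_sub_left, herm_smul_left, h1, hux, mul_zero, sub_zero, sub_self]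

/-- Every element of the radical of a line is an Eichler element. -/
theorem exists_eSU_of_mem_rad (hF : Fintype.card F = q ^ 2) {u : Fin n → F} (hu0 : u ≠ 0)
    (hu : hermForm n F q u u = 0) {g : SU n F q} (hg : g ∈ rad q (Submodule.span F {u})) :
    ∃ (w : Fin n → F) (α : F) (h : ESpec q u w α), g = eSU hF h := by
  obtain ⟨v, -, hv, hvu⟩ := exists_partner hF (nondeg_top hF) Submodule.mem_top hu0 hu
  have huv : hermForm n F q u v = 1 := by rw [← herm_swap hF v u, hvu, one_pow]
  obtain ⟨w, α, h, hEu, hEv, -, -⟩ :=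
    exists_eSU_match hF hu hv hvu (hg.1 u (Submodule.mem_span_singleton_self u))
  refine ⟨w, α, h, ?_⟩
  set x := (eSU hF h)⁻¹ * g with hx
  suffices x = 1 by rw [hx, inv_mul_eq_one] at this; exact this.symm
  have hxm : x ∈ rad q (Submodule.span F {u}) := mul_mem (inv_mem (eSU_mem_rad_line hF h)) hg
  have hxv : ap x v = v := by rw [hx, ap_mul, ← hEv, ap_inv_ap]
  have hxu := hxm.1 u (Submodule.mem_span_singleton_self u)
  refine ap_ext fun y => ?_
  have hy := sub_pair_mem_perp hu hv huv hvu y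
  set y0 := y - hermForm n F q y v • u - hermForm n F q y u • v with hy0
  obtain ⟨a, ha⟩ := Submodule.mem_span_singleton.1 (hxm.2 y0 (mem_perp_line.2 (mem_perp_pair.1 hy).1))
  have ha0 : a = 0 := by
    have h1 : hermForm n F q (ap x y0) v = hermForm n F q y0 v := by
      nth_rw 1 [← hxv]; exact herm_ap x y0 v
    rw [show ap x y0 = y0 + a • u by rw [ha]; abel, herm_add_left, herm_smul_left, huv, mul_one] at h1
    simpa using h1
  rw [ha0, zero_smul] at ha
  rw [show y = y0 + hermForm n F q y v • u + hermForm n F q y u • v by rw [hy0]; abel, ap_add, ap_add,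
    ap_smul, ap_smul, hxv, hxu, sub_eq_zero.1 ha.symm, ap_one]

/-- The radical of `E` is generated by radicals of lines of `E`. -/
theorem rad_le_closure (hF : Fintype.card F = q ^ 2) (E : Submodule F (Fin n → F))
    (hE : E ≤ perp q (E : Set (Fin n → F))) (H : Subgroup (SU n F q))
    (hH : ∀ u w α, ∀ h : ESpec q u w α, u ∈ E → w ∈ perp q (E : Set (Fin n → F)) → u ≠ 0 →
      eSU hF h ∈ H) : rad q E ≤ H := by
  suffices key : ∀ (d : ℕ) (E' : Submodule F (Fin n → F)), Module.finrank F E' = d → E' ≤ E →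
      ∀ g ∈ rad q E, g ∈ rad q E' → g ∈ H from fun g hg => key _ E rfl le_rfl g hg hg
  intro d
  induction d using Nat.strong_induction_on with
  | h d ih =>
  intro E' hd hEE g hgE hg
  by_cases hbot : E' = ⊥
  · subst hbot
    suffices g = 1 by rw [this]; exact one_mem H
    refine ap_ext fun y => ?_
    have h1 := hg.2 y fun x hx => by rw [(Submodule.mem_bot F).1 hx, herm_zero_right hF]
    rw [Submodule.mem_bot, sub_eq_zero] at h1
    rw [h1, ap_one]
  obtain ⟨u, huE', hu0⟩ := E'.exists_mem_ne_zero_of_ne_bot hbot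
  have huE := hEE huE'
  have hu : hermForm n F q u u = 0 := hE huE u huE
  obtain ⟨v, -, hv, hvu⟩ := exists_partner hF (nondeg_top hF) Submodule.mem_top hu0 hu
  have huv : hermForm n F q u v = 1 := by rw [← herm_swap hF v u, hvu, one_pow]
  obtain ⟨w, α, h, -, hEv, -, hw⟩ := exists_eSU_match hF hu hv hvu (hgE.1 u huE)
  have hwE : w ∈ perp q (E : Set (Fin n → F)) := fun y hy => hw y (hgE.1 y hy) (hE huE y hy)
  have hwE' : w ∈ perp q (E' : Set (Fin n → F)) := fun y hy => hwE y (hEE hy)
  rw [← Subgroup.mul_mem_cancel_left _ (inv_mem (hH u w α h huE hwE hu0))]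
  set x := (eSU hF h)⁻¹ * g with hx
  have hxmE : x ∈ rad q E := mul_mem (inv_mem (eSU_mem_rad hF hE h huE hwE)) hgE
  have hxm : x ∈ rad q E' := mul_mem (inv_mem (eSU_mem_rad hF
    (fun y hy z hz => hE (hEE hy) z (hEE hz)) h huE' hwE')) hg
  have hxv : ap x v = v := by rw [hx, ap_mul, ← hEv, ap_inv_ap]
  set E'' := E' ⊓ perp q ({v} : Set (Fin n → F)) with hE''
  have hlt : Module.finrank F E'' < d := by
    rw [← hd]
    refine Submodule.finrank_lt_finrank_of_lt (lt_of_le_of_ne inf_le_left fun e => ?_)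
    have h1 : u ∈ E'' := by rw [e]; exact huE'
    rw [mem_perp_singleton.1 h1.2] at huv
    exact zero_ne_one huv
  refine ih _ hlt E'' rfl (inf_le_left.trans hEE) x hxmE ⟨fun y hy => hxm.1 y hy.1, fun y hy => ?_⟩
  have hsplit : y - hermForm n F q y u • v ∈ perp q (E' : Set (Fin n → F)) := by
    intro e he
    have h1 : e - hermForm n F q e v • u ∈ E'' := ⟨E'.sub_mem he (E'.smul_mem _ huE'),
      mem_perp_singleton.2 (by rw [herm_sub_left, herm_smul_left, huv, mul_one, sub_self])⟩
    have h2 := hy _ h1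
    rw [herm_sub_right hF, herm_smul_right] at h2
    rw [herm_sub_left, herm_smul_left, ← herm_swap hF e v]
    linear_combination h2
  have h1 := hxm.2 _ hsplit
  rw [ap_sub, ap_smul, hxv, sub_sub_sub_cancel_right] at h1
  refine ⟨h1, mem_perp_singleton.2 ?_⟩
  rw [herm_sub_left, sub_eq_zero]
  nth_rw 1 [← hxv]
  exact herm_ap x y v

/-- Commutation with the Eichler elements having axis `u`. -/
theorem ap_of_commute (hF : Fintype.card F = q ^ 2) [Fact p.Prime] [CharP F p] {u : Fin n → F}
    (hu0 : u ≠ 0) (hu : hermForm n F q u u = 0) {s : SU n F q} {k : ℕ} (hk : s ^ (p ^ k) = 1)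
    (hc : ∀ c : F, ∀ h : ESpec q u 0 c, s * eSU hF h = eSU hF h * s) :
    ap s u = u ∧ ∀ w α, ∀ h : ESpec q u w α, s * eSU hF h = eSU hF h * s →
      ap s w - w ∈ Submodule.span F {u} := by
  obtain ⟨v, -, hv, hvu⟩ := exists_partner hF (nondeg_top hF) Submodule.mem_top hu0 hu
  obtain ⟨δ, hδ0, hδ⟩ := exists_skew hF
  have hs := hc δ (eSpec_tv hF hu (by rw [hδ, add_neg_cancel]))
  rw [← mul_inv_eq_iff_eq_mul, conj_eSU hF s (eSpec_tv hF hu (by rw [hδ, add_neg_cancel]))
    (eSpec_ap s (eSpec_tv hF hu (by rw [hδ, add_neg_cancel])))] at hs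
  have h1 := congrArg (fun A => ap A v) hs
  simp only [ap_eSU, ap_zero, herm_zero_right hF, hvu, mul_one, zero_smul, sub_zero, smul_zero,
    add_zero] at h1
  have h2 : (δ * hermForm n F q v (ap s u)) • ap s u = δ • u := by simpa using h1
  have hne : δ * hermForm n F q v (ap s u) ≠ 0 := by
    intro e
    rw [e, zero_smul] at h2
    exact hu0 ((smul_eq_zero.1 h2.symm).resolve_left hδ0)
  obtain ⟨l, hl⟩ : ∃ l : F, ap s u = l • u :=
    ⟨(δ * hermForm n F q v (ap s u))⁻¹ * δ, by rw [mul_smul, ← h2, smul_smul, inv_mul_cancel₀ hne, one_smul]⟩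
  have hpow : ∀ m : ℕ, ap (s ^ m) u = l ^ m • u := by
    intro m
    induction m with
    | zero => rw [pow_zero, pow_zero, one_smul, ap_one]
    | succ m ih => rw [pow_succ', ap_mul, ih, ap_smul, hl, smul_smul, pow_succ]
  have hlp : l ^ (p ^ k) = 1 := by
    have := hpow (p ^ k)
    rw [hk, ap_one] at this
    exact smul_left_injective F hu0 (show l ^ (p ^ k) • u = (1 : F) • u by rw [one_smul]; exact this.symm)
  have hl1 : l = 1 := by
    have h := sub_pow_char_pow l (1 : F) (p := p) (n := k)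
    rw [one_pow, hlp, sub_self] at h
    exact sub_eq_zero.1 (pow_eq_zero_iff (pow_ne_zero _ (Fact.out : p.Prime).ne_zero) |>.1 h)
  have hsu : ap s u = u := by rw [hl, hl1, one_smul]
  refine ⟨hsu, fun w α h hs' => ?_⟩
  rw [← mul_inv_eq_iff_eq_mul, conj_eSU hF s h (eSpec_ap s h)] at hs'
  have h3 := congrArg (fun A => ap A v) hs'
  simp only [ap_eSU, hsu, hvu, one_smul, mul_one] at h3
  refine Submodule.mem_span_singleton.2 ⟨hermForm n F q v (ap s w) - hermForm n F q v w, ?_⟩
  linear_combination (norm := module) -h3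

/-- A vector fixed by the radical of the line of `u` lies on it. -/
theorem mem_line_of_fixed (hF : Fintype.card F = q ^ 2) {u : Fin n → F} (hu0 : u ≠ 0)
    (hu : hermForm n F q u u = 0) {x : Fin n → F}
    (hx : ∀ g ∈ rad q (Submodule.span F {u}), ap g x = x) : x ∈ Submodule.span F {u} := by
  obtain ⟨v, -, hv, hvu⟩ := exists_partner hF (nondeg_top hF) Submodule.mem_top hu0 hu
  have huv : hermForm n F q u v = 1 := by rw [← herm_swap hF v u, hvu, one_pow]
  obtain ⟨δ, hδ0, hδ⟩ := exists_skew hF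
  have ht : δ + δ ^ q = 0 := by rw [hδ, add_neg_cancel]
  have hxu : hermForm n F q x u = 0 := by
    have h1 := hx _ (eSU_mem_rad_line hF (eSpec_tv hF hu ht))
    simp only [ap_eSU, herm_zero_right hF, smul_zero, add_zero, zero_smul, sub_zero, add_eq_left,
      smul_eq_zero, hu0, or_false, mul_eq_zero, hδ0, false_or] at h1
    exact h1
  have hw : ∀ w, hermForm n F q w u = 0 → hermForm n F q x w = 0 := by
    intro w hwu
    obtain ⟨α, h⟩ := exists_alpha hF hu hwu
    have h1 := hx _ (eSU_mem_rad_line hF h)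
    simp only [ap_eSU, hxu, zero_smul, mul_zero, add_zero, sub_eq_self, smul_eq_zero, hu0,
      or_false] at h1
    exact h1
  refine Submodule.mem_span_singleton.2 ⟨hermForm n F q x v, ?_⟩
  refine (sub_eq_zero.1 (eq_zero_of_forall_right hF fun y => ?_)).symm
  have h2 := hw (y - hermForm n F q y u • v) (by
    rw [herm_sub_left, herm_smul_left, hvu, mul_one, sub_self])
  rw [herm_sub_right hF, herm_smul_right] at h2
  rw [herm_sub_left, herm_smul_left, ← herm_swap hF y u]
  linear_combination h2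

/-- Vectors orthogonal to `u` fixed modulo `u` by the radical of `⟨u, u'⟩` lie in `⟨u, u'⟩`. -/
theorem mem_pair_of_fixed (hF : Fintype.card F = q ^ 2) {u u' : Fin n → F}
    (hind : LinearIndependent F ![u, u']) (hu : hermForm n F q u u = 0)
    (hu' : hermForm n F q u' u' = 0) (huu : hermForm n F q u u' = 0) {x : Fin n → F}
    (hxu : hermForm n F q x u = 0)
    (hx : ∀ g ∈ rad q (Submodule.span F ({u, u'} : Set (Fin n → F))),
      ap g x - x ∈ Submodule.span F {u}) :
    x ∈ Submodule.span F ({u, u'} : Set (Fin n → F)) := by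
  set E := Submodule.span F ({u, u'} : Set (Fin n → F)) with hE
  have hu'E : u' ∈ E := Submodule.subset_span (Or.inr rfl)
  have huu' : hermForm n F q u' u = 0 := (herm_eq_zero_symm hF).1 huu
  have hpe : ∀ w, w ∈ perp q (E : Set (Fin n → F)) ↔ hermForm n F q w u = 0 ∧ hermForm n F q w u' = 0 :=
    fun w => by rw [hE, perp_span hF, mem_perp_pair]
  have hEE : E ≤ perp q (E : Set (Fin n → F)) := by
    intro y hy
    obtain ⟨a, b, rfl⟩ := Submodule.mem_span_pair.1 hy
    rw [hpe]
    constructor <;> simp [herm_add_left, herm_smul_left, hu, hu', huu, huu']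
  have hnot : ∀ c : F, c • u' ∈ Submodule.span F {u} → c = 0 := fun c hc => by
    obtain ⟨a, ha⟩ := Submodule.mem_span_singleton.1 hc
    exact ((LinearIndependent.pair_iff.1 hind) a (-c) (by rw [ha, neg_smul, add_neg_cancel])).2 |>
      neg_eq_zero.1
  obtain ⟨δ, hδ0, hδ⟩ := exists_skew hF
  have ht : δ + δ ^ q = 0 := by rw [hδ, add_neg_cancel]
  have hxu' : hermForm n F q x u' = 0 := by
    have h1 := hx _ (eSU_mem_rad hF hEE (eSpec_tv hF hu' ht) hu'E ((perp q _).zero_mem))
    simp only [ap_eSU, herm_zero_right hF, smul_zero, add_zero, zero_smul, sub_zero,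
      add_sub_cancel_left] at h1
    exact (mul_eq_zero.1 (hnot _ h1)).resolve_left hδ0
  have hw : ∀ w ∈ perp q (E : Set (Fin n → F)), hermForm n F q x w = 0 := by
    intro w hw
    obtain ⟨α, h⟩ := exists_alpha hF hu' (hw u' hu'E)
    have h1 := hx _ (eSU_mem_rad hF hEE h hu'E hw)
    simp only [ap_eSU, hxu', zero_smul, mul_zero, add_zero, sub_sub_cancel_left, ← neg_smul] at h1
    exact neg_eq_zero.1 (hnot _ h1)
  obtain ⟨z, -, hz⟩ := exists_herm_eq_mem hF (nondeg_top hF) hind
    (fun _ => Submodule.mem_top) ![(1 : F), 0]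
  obtain ⟨z', -, hz'⟩ := exists_herm_eq_mem hF (nondeg_top hF) hind
    (fun _ => Submodule.mem_top) ![(0 : F), 1]
  obtain ⟨hz1, hz2⟩ := Fin.forall_fin_two.1 hz
  obtain ⟨hz1', hz2'⟩ := Fin.forall_fin_two.1 hz'
  simp only [Matrix.cons_val_zero, Matrix.cons_val_one] at hz1 hz2 hz1' hz2'
  refine Submodule.mem_span_pair.2 ⟨hermForm n F q x z, hermForm n F q x z', ?_⟩
  refine (sub_eq_zero.1 (eq_zero_of_forall_right hF fun y => ?_)).symm
  have h2 := hw (y - hermForm n F q y u • z - hermForm n F q y u' • z') ((hpe _).2 ⟨by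
    simp only [herm_sub_left, herm_smul_left, hz1, hz1']; ring, by
    simp only [herm_sub_left, herm_smul_left, hz2, hz2']; ring⟩)
  rw [herm_sub_right hF, herm_sub_right hF, herm_smul_right, herm_smul_right] at h2
  rw [herm_sub_left, herm_add_left, herm_smul_left, herm_smul_left, ← herm_swap hF y u,
    ← herm_swap hF y u']
  linear_combination h2

end Cfsg.Agent.H89.SUSylow
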