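import Cfsg.Agent.H89.Series
import Cfsg.Agent.H49.FactorSaturated
import Cfsg.Agent.S5128

/-!
Solvability passes to and from an invariant saturated subsystem and the factor system.
-/

set_option autoImplicit false

namespace Cfsg.Agent.H89

open Cfsg Cfsg.FusionSystem Cfsg.Agent.FusionSys

universe u v

variable {Ω : Type u} [Group Ω] {S : Subgroup Ω} {F : FusionSystem S} [Finite S] {p : ℕ} [Fact p.Prime]

/-- Solvability of an extension. -/
theorem isSolvableSystem_iff (hS : IsPGroup p S) (hF : F.IsSaturated p) {T : Subgroup Ω}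
    {E : FusionSystem T} (hEsat : E.IsSaturated p) (hE : E.IsInvariantIn F) {Ω' : Type v} [Group Ω']
    {S' : Subgroup Ω'} {θ : S →* Ω'} {D : FusionSystem S'} (hD : F.IsFactorSystem T θ D) :
    F.IsSolvableSystem ↔ E.IsSolvableSystem ∧ D.IsSolvableSystem := by
  obtain ⟨hsub, hTsc, hinv, hfrat⟩ := hE
  have hrange := hD.2.2.1
  have hker : KerEq θ T := hD.2.1
  haveI : Finite S' := hrange ▸ Finite.of_surjective _ θ.rangeRestrict_surjective
  have hS' : IsPGroup p S' := hrange ▸ hS.of_surjective _ θ.rangeRestrict_surjective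
  have hDsat := Cfsg.Agent.H49.isSaturated_factor hS hF hTsc hD
  haveI : Finite T := finite_of_le hTsc.1
  have hTp : IsPGroup p T := hS.to_le hTsc.1
  obtain ⟨⟨-, hmor⟩, -, -⟩ := isSurjectiveMorphism_of_factor hS hF hTsc hD
  constructor
  · intro h
    obtain ⟨n, U, h0, hl, -, hsc, hc⟩ := exists_series hS hF h
    refine ⟨?_, ?_⟩
    · refine isSolvableSystem_of_series hTp hEsat (fun i => U i ⊓ T) ?_ ?_ (fun i => ?_) fun i => ?_
      · simp [h0]
      · simp [hl, hTsc.1]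
      · exact ⟨inf_le_right, fun R hR φ hφ x =>
          (stronglyClosed_inf (hsc i) hTsc).2 R hR φ (hsub R hφ) x⟩
      · refine Subgroup.commutator_le.2 fun a ha b hb =>
          ⟨hc i (Subgroup.commutator_mem_commutator ha.1 hb.1), ?_⟩
        exact T.mul_mem (T.mul_mem (T.mul_mem ha.2 hb.2) (T.inv_mem ha.2)) (T.inv_mem hb.2)
    · refine isSolvableSystem_of_series hS' hDsat (fun i => imageAlong θ (U i)) ?_ ?_ (fun i => ?_)
        fun i => ?_
      · show (((U 0)).subgroupOf S).map θ = ⊥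
        rw [h0, Subgroup.bot_subgroupOf, Subgroup.map_bot]
      · show ((U (Fin.last n)).subgroupOf S).map θ = S'
        rw [hl, Subgroup.subgroupOf_self, ← MonoidHom.range_eq_map, hrange]
      · refine ⟨imageAlong_le.trans hrange.le, fun R hR φ' hφ' x => ?_⟩
        have hm := Cfsg.Agent.S5128.main hS F hF (U i) T (hsc i) hTsc
        obtain ⟨hR', φ, hφ, hle, hφS, hmem, hind⟩ := (hD.2.2.2 R φ').1 hφ'
        obtain ⟨s, hs, hse⟩ := hR x.2
        have hsP : (s : Ω) ∈ preimageAlong θ R := ⟨s, (show θ s ∈ R from hse.symm ▸ x.2), rfl⟩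
        have h1 : φ ⟨s, hsP⟩ ∈ U i ⊔ T := by
          rw [← homFun_coe φ]
          exact mem_of_stronglyClosed hm (isMap_of_mem hφ) hsP (Subgroup.mem_sup_left hs)
        have h2 : φ' x = θ ⟨φ ⟨s, hsP⟩, hφS _⟩ := by
          rw [← hind ⟨s, hsP⟩]
          congr 1
          exact Subtype.ext hse.symm
        rw [h2]
        have h3 : (⟨φ ⟨s, hsP⟩, hφS _⟩ : S) ∈ (U i).subgroupOf S ⊔ T.subgroupOf S := by
          rw [← Subgroup.subgroupOf_sup (hsc i).1 hTsc.1]
          exact h1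
        have h4 := Subgroup.mem_map_of_mem θ h3
        rw [Subgroup.map_sup] at h4
        have h5 : (T.subgroupOf S).map θ = ⊥ := (Subgroup.eq_bot_iff_forall _).2 fun y hy => by
          obtain ⟨z, hz, rfl⟩ := hy
          exact (hker z).2 hz
        rw [h5, sup_bot_eq] at h4
        exact h4
      · refine Subgroup.commutator_le.2 ?_
        rintro _ ⟨a, ha, rfl⟩ _ ⟨b, hb, rfl⟩
        refine ⟨a * b * a⁻¹ * b⁻¹, hc i (Subgroup.commutator_mem_commutator ha hb), ?_⟩
        rw [map_mul, map_mul, map_mul, map_inv, map_inv]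
        rfl
  · rintro ⟨hEs, hDs⟩
    obtain ⟨n, U, hU0, hUl, -, hUsc, hUc⟩ := exists_series hTp hEsat hEs
    obtain ⟨m, V, hV0, hVl, -, hVsc, hVc⟩ := exists_series hS' hDsat hDs
    -- the part below T
    let U' : Fin (n + 1) → Subgroup Ω := fun i =>
      { carrier := {x | ∃ hx : x ∈ T, ∀ β ∈ F.autGroup T, ((β ⟨x, hx⟩ : T) : Ω) ∈ U i}
        one_mem' := ⟨T.one_mem, fun β _ => by
          rw [show (⟨1, T.one_mem⟩ : T) = 1 from rfl, map_one]; exact (U i).one_mem⟩
        mul_mem' := by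
          rintro a b ⟨ha, ha'⟩ ⟨hb, hb'⟩
          refine ⟨T.mul_mem ha hb, fun β hβ => ?_⟩
          rw [show (⟨a * b, T.mul_mem ha hb⟩ : T) = ⟨a, ha⟩ * ⟨b, hb⟩ from rfl, map_mul]
          exact (U i).mul_mem (ha' β hβ) (hb' β hβ)
        inv_mem' := by
          rintro a ⟨ha, ha'⟩
          refine ⟨T.inv_mem ha, fun β hβ => ?_⟩
          rw [show (⟨a⁻¹, T.inv_mem ha⟩ : T) = ⟨a, ha⟩⁻¹ from rfl, map_inv]
          exact (U i).inv_mem (ha' β hβ) }
    have hU'sc : ∀ i, F.StronglyClosed (U' i) := fun i => by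
      refine ⟨fun x hx => hTsc.1 hx.1, fun R hR φ hφ x => ?_⟩
      have hRT : R ≤ T := fun y hy => (hR hy).1
      obtain ⟨α, hα, φ₀, hφ₀, hfac⟩ := hfrat R hRT φ hφ
      have hx0 : φ₀ x ∈ T := (E.le_of_mem hφ₀).2 x
      rw [hfac x hx0]
      refine ⟨(α ⟨φ₀ x, hx0⟩).2, fun β hβ => ?_⟩
      obtain ⟨χ, hχ, hχe⟩ := hinv R hRT φ₀ hφ₀ (β * α) (mul_mem hβ hα)
      have hmem : (((β * α) ⟨x, hRT x.2⟩ : T) : Ω) ∈
          (R.subgroupOf T).map (T.subtype.comp (β * α).toMonoidHom) := ⟨⟨x, hRT x.2⟩, x.2, rfl⟩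
      show (((β * α) ⟨φ₀ x, hx0⟩ : T) : Ω) ∈ U i
      rw [← hχe x hx0 hmem, ← homFun_coe χ]
      obtain ⟨_, hxU⟩ := hR x.2
      exact mem_of_stronglyClosed (hUsc i) (isMap_of_mem hχ) hmem (hxU (β * α) (mul_mem hβ hα))
    -- the part above T
    have hVsc' : ∀ j, F.StronglyClosed (preimageAlong θ (V j)) := fun j => by
      refine ⟨preimageAlong_le _ _, fun R hR φ hφ x => ?_⟩
      obtain ⟨φ', hφ', hRS, hφS, hmem, hind⟩ := hmor R φ hφ
      refine mem_preimageAlong.2 ⟨hφS x, ?_⟩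
      rw [← hind x]
      refine (hVsc j).2 _ ?_ φ' hφ' _
      rintro _ ⟨s, hs, rfl⟩
      exact (mem_preimageAlong.1 (hR hs)).2
    let W : ℕ → Subgroup Ω := fun k =>
      if h : k < n then U' ⟨k, by omega⟩ else preimageAlong θ (V ⟨min (k - n) m, by omega⟩)
    have hpre0 : preimageAlong θ (V 0) = T := by
      ext x
      rw [mem_preimageAlong, hV0]
      constructor
      · rintro ⟨hx, h⟩
        exact (hker ⟨x, hx⟩).1 (Subgroup.mem_bot.1 h)
      · intro hx
        exact ⟨hTsc.1 hx, Subgroup.mem_bot.2 ((hker ⟨x, hTsc.1 hx⟩).2 hx)⟩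
    have hU'last : U' (Fin.last n) = T := by
      ext x
      refine ⟨fun hx => hx.1, fun hx => ⟨hx, fun β _ => ?_⟩⟩
      rw [hUl]
      exact (β ⟨x, hx⟩).2
    have hWU : ∀ i : Fin (n + 1), W i = U' i := fun i => by
      by_cases h : (i : ℕ) < n
      · simp only [W, dif_pos h]
      · have hi : i = Fin.last n := Fin.ext (by simp only [Fin.val_last]; omega)
        subst hi
        simp only [W, Fin.val_last, lt_irrefl, dite_false, Nat.sub_self, Nat.zero_min]
        exact hpre0.trans hU'last.symm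
    refine isSolvableSystem_of_series hS hF (fun k : Fin (n + m + 1) => W k) ?_ ?_ (fun k => ?_) fun k => ?_
    · rw [show ((0 : Fin (n + m + 1)) : ℕ) = ((0 : Fin (n + 1)) : ℕ) from rfl, hWU]
      refine (Subgroup.eq_bot_iff_forall _).2 ?_
      rintro x ⟨hx, h⟩
      have h1 := h 1 (one_mem _)
      rw [hU0, Subgroup.mem_bot] at h1
      exact h1
    · simp only [W, Fin.val_last, dif_neg (show ¬ n + m < n by omega)]
      rw [show (⟨min (n + m - n) m, by omega⟩ : Fin (m + 1)) = Fin.last m from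
        Fin.ext (by simp), hVl]
      refine le_antisymm (preimageAlong_le _ _) fun x hx => mem_preimageAlong.2 ⟨hx, ?_⟩
      exact hrange ▸ ⟨_, rfl⟩
    · by_cases h : (k : ℕ) < n
      · simp only [W, dif_pos h]; exact hU'sc _
      · simp only [W, dif_neg h]; exact hVsc' _
    · rw [Fin.val_castSucc, Fin.val_succ]
      by_cases h : (k : ℕ) < n
      · have e1 : W ((k : ℕ) + 1) = U' (⟨k, h⟩ : Fin n).succ := hWU (⟨k, h⟩ : Fin n).succ
        have e2 : W (k : ℕ) = U' (⟨k, h⟩ : Fin n).castSucc := hWU (⟨k, h⟩ : Fin n).castSucc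
        rw [e1, e2]
        refine Subgroup.commutator_le.2 ?_
        rintro a ⟨ha, ha'⟩ b ⟨hb, hb'⟩
        refine ⟨T.mul_mem (T.mul_mem (T.mul_mem ha hb) (T.inv_mem ha)) (T.inv_mem hb), fun β hβ => ?_⟩
        have h1 := hUc ⟨k, h⟩ (Subgroup.commutator_mem_commutator (ha' β hβ) (hb' β hβ))
        show ((β (⟨a, ha⟩ * ⟨b, hb⟩ * (⟨a, ha⟩ : T)⁻¹ * (⟨b, hb⟩ : T)⁻¹) : T) : Ω) ∈ _
        rw [map_mul, map_mul, map_mul, map_inv, map_inv]
        exact h1
      · simp only [W, dif_neg h, dif_neg (show ¬ (k : ℕ) + 1 < n by omega)]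
        have hj : (k : ℕ) - n < m := by omega
        rw [show (⟨min ((k : ℕ) - n) m, by omega⟩ : Fin (m + 1)) = (⟨(k : ℕ) - n, hj⟩ : Fin m).castSucc from
            Fin.ext (by simp; omega),
          show (⟨min ((k : ℕ) + 1 - n) m, by omega⟩ : Fin (m + 1)) = (⟨(k : ℕ) - n, hj⟩ : Fin m).succ from
            Fin.ext (by simp; omega)]
        refine Subgroup.commutator_le.2 fun a ha b hb => ?_
        obtain ⟨haS, haV⟩ := mem_preimageAlong.1 ha
        obtain ⟨hbS, hbV⟩ := mem_preimageAlong.1 hb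
        refine mem_preimageAlong.2 ⟨?_, ?_⟩
        · exact S.mul_mem (S.mul_mem (S.mul_mem haS hbS) (S.inv_mem haS)) (S.inv_mem hbS)
        · have h1 := hVc ⟨(k : ℕ) - n, hj⟩ (Subgroup.commutator_mem_commutator haV hbV)
          show θ (⟨a, haS⟩ * ⟨b, hbS⟩ * (⟨a, haS⟩ : S)⁻¹ * (⟨b, hbS⟩ : S)⁻¹) ∈ _
          rw [map_mul, map_mul, map_mul, map_inv, map_inv]
          exact h1

end Cfsg.Agent.H89
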