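import Cfsg.Agent.Linear.Unitriangular
import Cfsg.Agent.Linear.Generation

/-!
Elementary facts about the unitriangular subgroup of `SL_n`: root generation, centralizers of root
elements, monomial conjugation of root elements, the normalizer, and the radicals of minimal parabolics.
-/

set_option autoImplicit false

namespace Cfsg.Agent.H89.Unitri

open Matrix

variable {n : ℕ} {K : Type*} [Field K]

local notation "SLn" => Matrix.SpecialLinearGroup (Fin n) K
local notation "U" => Cfsg.Agent.Linear.unitriSL n K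

theorem mem_iff {g : SLn} :
    g ∈ U ↔ (∀ x y : Fin n, y < x → g.1 x y = 0) ∧ ∀ i, g.1 i i = 1 :=
  ⟨fun h => ⟨fun _ _ hxy => h.1 hxy, h.2⟩, fun h => ⟨fun _ _ hxy => h.1 _ _ hxy, h.2⟩⟩

/-- The root element `1 + c E_{ij}`. -/
abbrev tv {i j : Fin n} (hij : i ≠ j) (c : K) : SLn := Matrix.SpecialLinearGroup.transvection hij c

theorem tv_val {i j : Fin n} (hij : i ≠ j) (c : K) : (tv hij c).1 = Matrix.transvection i j c := rfl

theorem tv_apply {i j : Fin n} (hij : i ≠ j) (c : K) (x y : Fin n) :
    (tv hij c).1 x y = (if x = y then 1 else 0) + (if i = x ∧ j = y then c else 0) := by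
  rw [tv_val, Matrix.transvection, Matrix.add_apply, Matrix.one_apply, Matrix.single_apply]

theorem tv_mem {i j : Fin n} (h : i < j) (c : K) : tv h.ne c ∈ U := by
  refine mem_iff.2 ⟨fun x y hxy => ?_, fun x => ?_⟩
  · rw [tv_apply, if_neg hxy.ne', if_neg fun hh : i = x ∧ j = y => absurd (hh.1 ▸ hh.2 ▸ hxy) h.not_gt, add_zero]
  · rw [tv_apply, if_pos rfl, if_neg fun hh : i = x ∧ j = x => h.ne (hh.1.trans hh.2.symm), add_zero]

/-- `U` is generated by its root elements. -/
theorem le_of_tv_mem {H : Subgroup SLn}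
    (h : ∀ (i j : Fin n) (hij : i < j) (c : K), tv hij.ne c ∈ H) : U ≤ H := by
  suffices key : ∀ (m k : ℕ), n * n ≤ k + m → ∀ u ∈ U,
      (∀ x y : Fin n, x < y → ((y : ℕ) - x) * n + x < k → u.1 x y = 0) → u ∈ H by
    exact fun u hu => key (n * n) 0 (by omega) u hu fun x y _ hlt => absurd hlt (by omega)
  intro m
  induction m with
  | zero =>
    intro k hk u hu hz
    have hu' := mem_iff.1 hu
    have : u = 1 := by
      refine Subtype.ext (Matrix.ext fun x y => ?_)
      rcases lt_trichotomy x y with hlt | rfl | hlt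
      · rw [hz x y hlt (lt_of_lt_of_le ?_ (by simpa using hk))]
        · simp [hlt.ne]
        · have h1 : (y : ℕ) - x + 1 ≤ n := by omega
          nlinarith [x.isLt]
      · simp [hu'.2 x]
      · rw [hu'.1 x y hlt]; simp [hlt.ne']
    rw [this]
    exact one_mem H
  | succ m ih =>
    intro k hk u hu hz
    by_cases hall : ∀ x y : Fin n, x < y → ((y : ℕ) - x) * n + x = k → u.1 x y = 0
    · refine ih (k + 1) (by omega) u hu fun x y hxy hlt => ?_
      rcases Nat.lt_succ_iff_lt_or_eq.1 hlt with h1 | h1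
      · exact hz x y hxy h1
      · exact hall x y hxy h1
    push Not at hall
    obtain ⟨i, j, hij, hkey, -⟩ := hall
    have hu' := mem_iff.1 hu
    set c := u.1 i j
    have hv : tv hij.ne (-c) * u ∈ U := mul_mem (tv_mem hij _) hu
    have hmem : tv hij.ne (-c) * u ∈ H := by
      refine ih (k + 1) (by omega) _ hv fun x y hxy hlt => ?_
      rw [Matrix.SpecialLinearGroup.coe_mul, tv_val]
      by_cases hxi : x = i
      · subst hxi
        rw [Matrix.transvection_mul_apply_same]
        rcases lt_trichotomy y j with hyj | rfl | hyj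
        · rw [hu'.1 j y hyj, mul_zero, add_zero]
          refine hz x y hxy ?_
          have h1 : (y : ℕ) - x + 1 ≤ (j : ℕ) - x := by omega
          nlinarith [x.isLt]
        · rw [hu'.2, mul_one]
          exact add_neg_cancel _
        · exfalso
          have h1 : (j : ℕ) - x + 1 ≤ (y : ℕ) - x := by omega
          nlinarith [x.isLt]
      · rw [Matrix.transvection_mul_apply_of_ne _ _ _ _ hxi]
        refine hz x y hxy (lt_of_le_of_ne (Nat.lt_succ_iff.1 hlt) fun heq => hxi ?_)
        have h1 := congrArg (· % n) (heq.trans hkey.symm)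
        simp only [Nat.mul_add_mod_self_right, Nat.mod_eq_of_lt x.isLt, Nat.mod_eq_of_lt i.isLt] at h1
        exact Fin.ext h1
    have h2 := H.mul_mem (H.inv_mem (h i j hij (-c))) hmem
    rwa [inv_mul_cancel_left] at h2

/-- What commuting with one root element says about a matrix. -/
theorem of_commute_tv {u : SLn} {i j : Fin n} (hij : i ≠ j) (hc : tv hij (1 : K) * u = u * tv hij 1) :
    (∀ l, l ≠ j → u.1 j l = 0) ∧ ∀ k, k ≠ i → u.1 k i = 0 := by
  have h : ∀ x y, (Matrix.transvection i j (1 : K) * u.1) x y = (u.1 * Matrix.transvection i j (1 : K)) x y :=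
    fun x y => congrFun (congrFun (congrArg Subtype.val hc) x) y
  refine ⟨fun l hl => ?_, fun k hk => ?_⟩
  · have h1 := h i l
    rw [Matrix.transvection_mul_apply_same, Matrix.mul_transvection_apply_of_ne _ _ _ _ hl,
      one_mul] at h1
    simpa using h1
  · have h1 := h k j
    rw [Matrix.transvection_mul_apply_of_ne _ _ _ _ hk, Matrix.mul_transvection_apply_same,
      one_mul] at h1
    simpa using h1.symm

/-- An element of `U` centralizing all root elements is a highest root element. -/
theorem eq_tv_of_central {m : ℕ} {u : Matrix.SpecialLinearGroup (Fin (m + 2)) K}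
    (hu : u ∈ Cfsg.Agent.Linear.unitriSL (m + 2) K)
    (hc : ∀ (i j : Fin (m + 2)) (h : i < j), tv h.ne (1 : K) * u = u * tv h.ne 1) :
    u = tv (Fin.last_pos' (n := m + 1)).ne (u.1 0 (Fin.last (m + 1))) := by
  have hu' := mem_iff.1 hu
  refine Subtype.ext (Matrix.ext fun x y => ?_)
  rw [tv_apply]
  by_cases hxy : x = y
  · subst hxy
    rw [hu'.2 x, if_pos rfl, if_neg fun hh => (Fin.last_pos' (n := m + 1)).ne (hh.1.trans hh.2.symm), add_zero]
  rw [if_neg hxy, zero_add]
  by_cases hh : 0 = x ∧ Fin.last (m + 1) = y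
  · rw [if_pos hh, ← hh.1, ← hh.2]
  rw [if_neg hh]
  by_cases hx : 0 = x
  · have hy : y ≠ Fin.last (m + 1) := fun e => hh ⟨hx, e.symm⟩
    exact (of_commute_tv (lt_of_le_of_ne (Fin.le_last y) hy).ne (hc y _ (lt_of_le_of_ne (Fin.le_last y) hy))).2 x
      hxy
  · have hx' : (0 : Fin (m + 2)) < x := Fin.pos_iff_ne_zero.2 (Ne.symm hx)
    exact (of_commute_tv hx'.ne (hc 0 x hx')).1 y (Ne.symm hxy)

/-- Monomial conjugation of root elements (`n ≥ 3`). -/
theorem exists_conj_tv (hn : 3 ≤ n) {i j i' j' : Fin n} (hij : i ≠ j) (hij' : i' ≠ j') {c d : K}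
    (hc : c ≠ 0) (hd : d ≠ 0) : ∃ g : SLn, g * tv hij c * g⁻¹ = tv hij' d := by
  obtain ⟨k, hki, hkj⟩ := Cfsg.Agent.Linear.exists_third (ι := Fin n) (by simpa using hn) i j
  set σ : Equiv.Perm (Fin n) := Equiv.swap (Equiv.swap i i' j) j' * Equiv.swap i i' with hσ
  have hσi : σ i = i' := by
    rw [hσ, Equiv.Perm.mul_apply, Equiv.swap_apply_left]
    refine Equiv.swap_apply_of_ne_of_ne (fun e => hij ?_) hij'
    exact (Equiv.swap i i').injective (by rw [Equiv.swap_apply_left]; exact e)
  have hσj : σ j = j' := by rw [hσ, Equiv.Perm.mul_apply, Equiv.swap_apply_left]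
  have hσ0 : ((Equiv.Perm.sign σ : ℤ) : K) ≠ 0 := by
    rcases Int.units_eq_one_or (Equiv.Perm.sign σ) with h | h <;> simp [h]
  set s : K := ((Equiv.Perm.sign σ : ℤ) : K) with hs
  set t : Fin n → K := fun x => if x = i then d / c else if x = k then (s * (d / c))⁻¹ else 1 with ht
  set M : Matrix (Fin n) (Fin n) K := (Matrix.diagonal t).submatrix σ.symm id with hM
  have hdet : M.det = 1 := by
    rw [hM, Matrix.det_permute, Matrix.det_diagonal]
    have hprod : ∏ x, t x = (d / c) * (s * (d / c))⁻¹ := by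
      have hsplit : ∀ x, t x = (if x = i then d / c else 1) * (if x = k then (s * (d / c))⁻¹ else 1) := by
        intro x
        by_cases hxi : x = i
        · subst hxi; simp [ht, Ne.symm hki]
        · simp [ht, hxi]
      simp only [hsplit, Finset.prod_mul_distrib, Finset.prod_ite_eq', Finset.mem_univ, if_true]
    rw [hprod, Equiv.Perm.sign_symm, ← hs]
    field_simp
  have hMap : ∀ x b, M x b = if σ b = x then t b else 0 := by
    intro x b
    simp only [hM, Matrix.submatrix_apply, id_eq, Matrix.diagonal_apply, Equiv.symm_apply_eq]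
    by_cases h : x = σ b
    · simp [h]
    · simp [h, Ne.symm h]
  refine ⟨⟨M, hdet⟩, ?_⟩
  refine mul_inv_eq_iff_eq_mul.2 ?_
  refine Subtype.ext (Matrix.ext fun x b => ?_)
  show (M * Matrix.transvection i j c) x b = (Matrix.transvection i' j' d * M) x b
  by_cases hbj : b = j
  · subst hbj
    rw [Matrix.mul_transvection_apply_same]
    by_cases hx : x = i'
    · subst hx
      rw [Matrix.transvection_mul_apply_same, hMap, hMap, hMap, if_pos hσi, if_pos hσj]
      have hti : t i = d / c := if_pos rfl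
      have htj : t b = 1 := by simp [ht, hij.symm, Ne.symm hkj]
      rw [hti, htj]
      field_simp
    · rw [Matrix.transvection_mul_apply_of_ne _ _ _ _ hx, hMap x i, if_neg fun e => hx (hσi ▸ e).symm,
        mul_zero, add_zero]
  · rw [Matrix.mul_transvection_apply_of_ne _ _ _ _ hbj]
    by_cases hx : x = i'
    · subst hx
      rw [Matrix.transvection_mul_apply_same, hMap j' b,
        if_neg fun e => hbj (σ.injective (e.trans hσj.symm)), mul_zero, add_zero]
    · rw [Matrix.transvection_mul_apply_of_ne _ _ _ _ hx]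

/-- What normalizes `U` is upper triangular. -/
theorem upper_of_normalizes {g : SLn} (hg : ∀ u ∈ U, g⁻¹ * u * g ∈ U) :
    ∀ a b : Fin n, b < a → g.1 a b = 0 := by
  suffices h : ∀ (m : ℕ) (a b : Fin n), (b : ℕ) = m → b < a → g.1 a b = 0 from
    fun a b hab => h b a b rfl hab
  intro m
  induction m using Nat.strong_induction_on with
  | _ m ih =>
    intro a b hb hab
    have hu' := mem_iff.1 (hg _ (tv_mem hab 1))
    set v := g⁻¹ * tv hab.ne (1 : K) * g with hv
    have heq : tv hab.ne (1 : K) * g = g * v := by rw [hv]; group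
    have h1 := congrFun (congrFun (congrArg Subtype.val heq) b) b
    rw [Matrix.SpecialLinearGroup.coe_mul, Matrix.SpecialLinearGroup.coe_mul, tv_val,
      Matrix.transvection_mul_apply_same, one_mul, Matrix.mul_apply,
      Finset.sum_eq_single b (fun k _ hk => ?_) (fun h => absurd (Finset.mem_univ b) h),
      hu'.2 b, mul_one] at h1
    · simpa using h1
    · rcases lt_or_gt_of_ne hk with hlt | hlt
      · rw [ih k (hb ▸ hlt) b k rfl hlt, zero_mul]
      · rw [hu'.1 k b hlt, mul_zero]

/-- The entry just above the diagonal is additive on `U`. -/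
theorem entry_mul {u v : SLn} (hu : u ∈ U) (hv : v ∈ U) {a b : Fin n} (hab : (b : ℕ) = a + 1) :
    (u * v).1 a b = u.1 a b + v.1 a b := by
  have hu' := mem_iff.1 hu
  have hv' := mem_iff.1 hv
  have hne : a ≠ b := fun e => by rw [e] at hab; omega
  rw [Matrix.SpecialLinearGroup.coe_mul, Matrix.mul_apply,
    Fintype.sum_eq_add a b hne (fun k hk => ?_), hu'.2 a, hv'.2 b, one_mul, mul_one, add_comm]
  rcases lt_or_gt_of_ne hk.1 with hlt | hlt
  · rw [hu'.1 a k hlt, zero_mul]
  · have : b < k := lt_of_le_of_ne (by rw [Fin.le_def, hab]; exact hlt) (Ne.symm hk.2)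
    rw [hv'.1 k b this, mul_zero]

/-- The radical of a minimal parabolic: zero entry at `(a, a+1)`. -/
def radical (a b : Fin n) (hab : (b : ℕ) = a + 1) : Subgroup SLn where
  carrier := {u | u ∈ U ∧ u.1 a b = 0}
  one_mem' := ⟨one_mem _, by
    have hne : a ≠ b := fun e => by rw [e] at hab; omega
    simp [hne]⟩
  mul_mem' {u v} hu hv := ⟨mul_mem hu.1 hv.1, by rw [entry_mul hu.1 hv.1 hab, hu.2, hv.2, add_zero]⟩
  inv_mem' {u} hu := ⟨Subgroup.inv_mem _ hu.1, by
    have h := entry_mul (Subgroup.inv_mem _ hu.1) hu.1 hab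
    rw [hu.2, add_zero, inv_mul_cancel] at h
    have hne : a ≠ b := fun e => by rw [e] at hab; omega
    rw [← h]
    simp [hne]⟩

theorem radical_conj {a b : Fin n} (hab : (b : ℕ) = a + 1) {v u : SLn} (hv : v ∈ U)
    (hu : u ∈ radical (K := K) a b hab) : v * u * v⁻¹ ∈ radical a b hab := by
  refine ⟨mul_mem (mul_mem hv hu.1) (Subgroup.inv_mem _ hv), ?_⟩
  have h1 := entry_mul hv (Subgroup.inv_mem _ hv) hab
  rw [mul_inv_cancel] at h1
  rw [entry_mul (mul_mem hv hu.1) (Subgroup.inv_mem _ hv) hab, entry_mul hv hu.1 hab, hu.2, add_zero, ← h1]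
  have hne : a ≠ b := fun e => by rw [e] at hab; omega
  simp [hne]

theorem lower_conj_radical {a b : Fin n} (hab : (b : ℕ) = a + 1) {u : SLn}
    (hu : u ∈ radical (K := K) a b hab) (c : K) :
    tv (show b ≠ a from fun e => by rw [e] at hab; omega) c * u *
      (tv (show b ≠ a from fun e => by rw [e] at hab; omega) c)⁻¹ ∈ radical a b hab := by
  have hne : b ≠ a := fun e => by rw [e] at hab; omega
  have hu' := mem_iff.1 hu.1
  have hval : ∀ x y, (tv hne c * u * (tv hne c)⁻¹).1 x y =
      (Matrix.transvection b a c * u.1 * Matrix.transvection b a (-c)) x y := by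
    intro x y
    rw [Matrix.SpecialLinearGroup.transvection_inv]
    rfl
  have hlt : a < b := by rw [Fin.lt_def, hab]; omega
  refine ⟨mem_iff.2 ⟨fun x y hxy => ?_, fun x => ?_⟩, ?_⟩
  · rw [hval]
    by_cases hya : y = a
    · subst hya
      rw [Matrix.mul_transvection_apply_same]
      by_cases hxb : x = b
      · subst hxb
        simp only [Matrix.transvection_mul_apply_same, hu.2, hu'.2, hu'.1 x y hxy]
        ring
      · have hxb' : b < x := lt_of_le_of_ne (by rw [Fin.le_def, hab]; exact hxy) (Ne.symm hxb)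
        simp [Matrix.transvection_mul_apply_of_ne _ _ _ _ hxb, hu'.1 x y hxy, hu'.1 x b hxb']
    · rw [Matrix.mul_transvection_apply_of_ne _ _ _ _ hya]
      by_cases hxb : x = b
      · subst hxb
        have hya' : y < a := lt_of_le_of_ne (by rw [Fin.le_def]; rw [Fin.lt_def, hab] at hxy; omega) hya
        simp [hu'.1 x y hxy, hu'.1 a y hya']
      · simp [Matrix.transvection_mul_apply_of_ne _ _ _ _ hxb, hu'.1 x y hxy]
  · rw [hval]
    by_cases hxa : x = a
    · subst hxa
      rw [Matrix.mul_transvection_apply_same]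
      simp [Matrix.transvection_mul_apply_of_ne _ _ _ _ (Ne.symm hne), hu'.2, hu.2]
    · rw [Matrix.mul_transvection_apply_of_ne _ _ _ _ hxa]
      by_cases hxb : x = b
      · subst hxb
        simp [hu'.2, hu.2]
      · simp [Matrix.transvection_mul_apply_of_ne _ _ _ _ hxb, hu'.2]
  · rw [hval, Matrix.mul_transvection_apply_of_ne _ _ _ _ hne,
      Matrix.transvection_mul_apply_of_ne _ _ _ _ (Ne.symm hne)]
    exact hu.2

theorem tv_mem_radical {a b x y : Fin n} (hab : (b : ℕ) = a + 1) (hxy : x < y)
    (hne : ¬ (x = a ∧ y = b)) (c : K) : tv hxy.ne c ∈ radical a b hab := by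
  refine ⟨tv_mem hxy c, ?_⟩
  have hne' : a ≠ b := fun e => by rw [e] at hab; omega
  rw [tv_apply, if_neg hne', if_neg hne, add_zero]

/-- `C_U(R) ≤ R` for the radicals, `n ≥ 3`. -/
theorem mem_radical_of_centralizes (hn : 3 ≤ n) {a b : Fin n} (hab : (b : ℕ) = a + 1) {u : SLn}
    (hu : u ∈ U) (hc : ∀ (x y : Fin n) (h : x < y), ¬ (x = a ∧ y = b) →
      tv h.ne (1 : K) * u = u * tv h.ne 1) : u ∈ radical a b hab := by
  refine ⟨hu, ?_⟩
  by_cases ha : (a : ℕ) = 0
  · set c : Fin n := ⟨2, by omega⟩
    have hbc : b < c := by rw [Fin.lt_def]; show (b : ℕ) < 2; omega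
    refine (of_commute_tv hbc.ne (hc b c hbc fun e => ?_)).2 a fun e => by rw [e] at hab; omega
    exact absurd (congrArg Fin.val e.1) (by omega)
  · set z : Fin n := ⟨0, by omega⟩
    have hza : z < a := by rw [Fin.lt_def]; show 0 < (a : ℕ); omega
    exact (of_commute_tv hza.ne (hc z a hza fun e => hza.ne e.1)).1 b fun e => by rw [e] at hab; omega

/-- A subgroup containing the coroot elements of adjacent pairs contains all diagonal elements. -/
theorem diagonal_mem {H : Subgroup SLn}
    (hH : ∀ (a b : Fin n) (_ : (b : ℕ) = a + 1) (hne : a ≠ b) (c : K) (hc : c ≠ 0),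
      Matrix.SpecialLinearGroup.diag2n hne c hc ∈ H)
    {g : SLn} (hg : ∀ x y, x ≠ y → g.1 x y = 0) : g ∈ H := by
  suffices key : ∀ (m k : ℕ), n ≤ k + 1 + m → ∀ g : SLn, (∀ x y, x ≠ y → g.1 x y = 0) →
      (∀ x : Fin n, (x : ℕ) < k → g.1 x x = 1) → g ∈ H from
    key n 0 (by omega) g hg fun x hx => absurd hx (by omega)
  intro m
  induction m with
  | zero =>
    intro k hk g hg hone
    have hdiag : g.1 = Matrix.diagonal fun x => g.1 x x := Matrix.ext fun x y => by
      by_cases h : x = y
      · subst h; simp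
      · simp [h, hg x y h]
    have hdet : ∏ x, g.1 x x = 1 := by
      have h := g.2
      rwa [hdiag, Matrix.det_diagonal] at h
    have : g = 1 := by
      refine Subtype.ext (Matrix.ext fun x y => ?_)
      by_cases hxy : x = y
      · subst hxy
        rw [show ((1 : SLn) : Matrix (Fin n) (Fin n) K) x x = 1 by simp]
        by_cases hx : (x : ℕ) < k
        · exact hone x hx
        · refine (Finset.prod_eq_single x (fun z _ hz => hone z ?_)
            (fun h => absurd (Finset.mem_univ x) h)).symm.trans hdet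
          have := Fin.val_ne_of_ne hz
          omega
      · rw [hg x y hxy]; simp [hxy]
    rw [this]
    exact one_mem H
  | succ m ih =>
    intro k hk g hg hone
    by_cases hkn : n ≤ k + 1 + m
    · exact ih k hkn g hg hone
    set a : Fin n := ⟨k, by omega⟩
    set b : Fin n := ⟨k + 1, by omega⟩
    have hab : (b : ℕ) = a + 1 := rfl
    have hne : a ≠ b := fun e => by have := congrArg Fin.val e; simp [a, b] at this
    have hga : g.1 a a ≠ 0 := by
      intro h0
      have h := g.2
      rw [Matrix.det_eq_zero_of_row_eq_zero a (fun y => ?_)] at h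
      · exact zero_ne_one h
      · by_cases e : a = y
        · rw [← e]; exact h0
        · exact hg a y e
    set h := Matrix.SpecialLinearGroup.diag2n hne (g.1 a a)⁻¹ (inv_ne_zero hga) with hhdef
    have hval : ∀ x y, (h * g).1 x y =
        (if x = a then (g.1 a a)⁻¹ else if x = b then ((g.1 a a)⁻¹)⁻¹ else 1) * g.1 x y := by
      intro x y
      rw [Matrix.SpecialLinearGroup.coe_mul, hhdef, Matrix.SpecialLinearGroup.diag2n_coe, Matrix.diagonal_mul]
    have h1 : h * g ∈ H := by
      refine ih (k + 1) (by omega) (h * g) (fun x y hxy => by rw [hval, hg x y hxy, mul_zero])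
        fun x hx => ?_
      rw [hval]
      by_cases hxa : x = a
      · subst hxa
        rw [if_pos rfl, inv_mul_cancel₀ hga]
      · have hxk : (x : ℕ) < k := lt_of_le_of_ne (Nat.lt_succ_iff.1 hx) fun e => hxa (Fin.ext e)
        rw [if_neg hxa, if_neg (fun e => by rw [e] at hxk; simp [b] at hxk), one_mul, hone x hxk]
    have h2 := H.mul_mem (H.inv_mem (hH a b hab hne _ (inv_ne_zero hga))) h1
    rwa [inv_mul_cancel_left] at h2

end Cfsg.Agent.H89.Unitri
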