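import Cfsg.Agent.Linear.Unitriangular
import Cfsg.Agent.Linear.Generation
import Cfsg.Agent.Symplectic.Order
import Cfsg.Agent.H89.Unitri

/-!
Siegel Levi and radical elements of `Sp_{2m}`, the embedded `SL_2` at a coordinate pair, and a Sylow
subgroup in defining characteristic.
-/

set_option autoImplicit false

namespace Cfsg.Agent.H89.SpSylow

open Matrix

variable {m : ℕ} {K : Type*} [Field K]

local notation "Spm" => Matrix.symplecticGroup (Fin m) K
local notation "Mm" => Matrix (Fin m) (Fin m) K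

/-- Symmetric matrices as an additive group. -/
def sym (m : ℕ) (K : Type*) [Field K] : AddSubgroup (Matrix (Fin m) (Fin m) K) where
  carrier := {B | B.IsSymm}
  zero_mem' := Matrix.isSymm_zero
  add_mem' := fun ha hb => Matrix.IsSymm.add ha hb
  neg_mem' := fun ha => Matrix.IsSymm.neg ha

theorem mem_sym {B : Mm} : B ∈ sym m K ↔ Bᵀ = B := Iff.rfl

/-- The Levi element `diag(A, A^{-T})`. -/
def lev : GL (Fin m) K →* Spm where
  toFun A := ⟨fromBlocks A.val 0 0 (A⁻¹).valᵀ, by
    rw [SymplecticGroup.fromBlocks_mem_iff]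
    refine ⟨by simp, by simp, ?_⟩
    rw [← Matrix.transpose_mul, ← Units.val_mul, inv_mul_cancel]
    simp⟩
  map_one' := Subtype.ext (by simp [fromBlocks_one])
  map_mul' A B := Subtype.ext (by simp [fromBlocks_multiply, Matrix.transpose_mul, _root_.mul_inv_rev])

/-- The Siegel radical element `[[1, B], [0, 1]]`. -/
def up (B : sym m K) : Spm :=
  ⟨fromBlocks 1 B.1 0 1, by
    rw [SymplecticGroup.fromBlocks_mem_iff]
    simp [mem_sym.1 B.2]⟩

theorem lev_val (A : GL (Fin m) K) :
    (lev A : Spm).1 = fromBlocks A.val 0 0 (A⁻¹).valᵀ := rfl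

theorem up_val (B : sym m K) : (up B : Spm).1 = fromBlocks 1 B.1 0 1 := rfl

theorem up_add (B B' : sym m K) : up (B + B') = up B * up B' :=
  Subtype.ext (by simp [up, fromBlocks_multiply, add_comm])

@[simp] theorem up_zero : up (0 : sym m K) = 1 :=
  Subtype.ext (by simp [up, fromBlocks_one])

theorem up_neg (B : sym m K) : up (-B) = (up B)⁻¹ :=
  eq_inv_of_mul_eq_one_left (by rw [← up_add, neg_add_cancel, up_zero])

theorem up_commute (B B' : sym m K) : Commute (up B) (up B') := by
  rw [Commute, SemiconjBy, ← up_add, ← up_add, add_comm]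

theorem up_injective : Function.Injective (up : sym m K → Spm) := fun B B' h =>
  Subtype.ext (by simpa [up] using congrArg (fun g : Spm => g.1.toBlocks₁₂) h)

/-- Congruence of symmetric matrices. -/
def congr (A : GL (Fin m) K) : sym m K →+ sym m K where
  toFun B := ⟨A.val * B.1 * A.valᵀ, by
    rw [mem_sym, Matrix.transpose_mul, Matrix.transpose_mul, Matrix.transpose_transpose, mem_sym.1 B.2,
      Matrix.mul_assoc]⟩
  map_zero' := Subtype.ext (by simp)
  map_add' B B' := Subtype.ext (by simp [Matrix.mul_add, Matrix.add_mul])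

theorem congr_val (A : GL (Fin m) K) (B : sym m K) : (congr A B).1 = A.val * B.1 * A.valᵀ := rfl

theorem congr_mul (A A' : GL (Fin m) K) (B : sym m K) : congr (A * A') B = congr A (congr A' B) :=
  Subtype.ext (by simp [congr, Matrix.transpose_mul, Matrix.mul_assoc])

theorem congr_one (B : sym m K) : congr (1 : GL (Fin m) K) B = B :=
  Subtype.ext (by simp [congr])

theorem lev_mul_up (A : GL (Fin m) K) (B : sym m K) : lev A * up B = up (congr A B) * lev A := by
  refine Subtype.ext ?_
  show fromBlocks A.val 0 0 (A⁻¹).valᵀ * fromBlocks 1 B.1 0 1 =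
    fromBlocks 1 (A.val * B.1 * A.valᵀ) 0 1 * fromBlocks A.val 0 0 (A⁻¹).valᵀ
  rw [fromBlocks_multiply, fromBlocks_multiply]
  simp [Matrix.mul_assoc, ← Matrix.transpose_mul]

theorem lev_conj_up (A : GL (Fin m) K) (B : sym m K) : lev A * up B * (lev A)⁻¹ = up (congr A B) := by
  rw [lev_mul_up, mul_inv_cancel_right]

theorem up_mul_lev (A : GL (Fin m) K) (B : sym m K) : up B * lev A = lev A * up (congr A⁻¹ B) := by
  rw [lev_mul_up, ← congr_mul, mul_inv_cancel, congr_one]

theorem toBlocks_lev_up (A : GL (Fin m) K) (B : sym m K) :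
    (lev A * up B).1 = fromBlocks A.val (A.val * B.1) 0 (A⁻¹).valᵀ := by
  show fromBlocks A.val 0 0 (A⁻¹).valᵀ * fromBlocks 1 B.1 0 1 = _
  rw [fromBlocks_multiply]
  simp

theorem lev_up_injective {A A' : GL (Fin m) K} {B B' : sym m K}
    (h : lev A * up B = lev A' * up B') : A = A' ∧ B = B' := by
  have h1 : A = A' := by
    have := congrArg (fun g : Spm => g.1.toBlocks₁₁) h
    simp only [toBlocks_lev_up, toBlocks_fromBlocks₁₁] at this
    exact Units.ext this
  subst h1
  exact ⟨rfl, up_injective (mul_left_cancel h)⟩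

/-- A symplectic matrix with zero lower left block is a Levi element times a radical element. -/
theorem exists_lev_up {g : Spm} (hC : g.1.toBlocks₂₁ = 0) : ∃ A B, g = lev A * up B := by
  obtain ⟨M, hM⟩ := g
  obtain ⟨a, b, c, d, rfl⟩ : ∃ a b c d, M = Matrix.fromBlocks a b c d :=
    ⟨_, _, _, _, (Matrix.fromBlocks_toBlocks M).symm⟩
  simp only [toBlocks_fromBlocks₂₁] at hC
  subst hC
  obtain ⟨-, hbd, had⟩ := SymplecticGroup.fromBlocks_mem_iff.1 hM
  simp only [Matrix.transpose_zero, Matrix.zero_mul, sub_zero] at had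
  have had' : d * aᵀ = 1 := mul_eq_one_comm.1 had
  have had'' : a * dᵀ = 1 := by
    rw [← Matrix.transpose_transpose a, ← Matrix.transpose_mul, had', Matrix.transpose_one]
  have hda : dᵀ * a = 1 := mul_eq_one_comm.1 had''
  refine ⟨⟨a, dᵀ, had'', hda⟩, ⟨dᵀ * b, ?_⟩, Subtype.ext ?_⟩
  · rw [mem_sym, Matrix.transpose_mul, Matrix.transpose_transpose, hbd]
  · rw [toBlocks_lev_up]
    show fromBlocks a b 0 d = fromBlocks a (a * (dᵀ * b)) 0 dᵀᵀ
    rw [Matrix.transpose_transpose, ← Matrix.mul_assoc, had'', Matrix.one_mul]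

local notation "Un" => Cfsg.Agent.Linear.unitriGL m K

/-- The Sylow subgroup: unitriangular Levi part times the Siegel radical. -/
def U (m : ℕ) (K : Type*) [Field K] : Subgroup (Matrix.symplecticGroup (Fin m) K) where
  carrier := {g | ∃ A ∈ Cfsg.Agent.Linear.unitriGL m K, ∃ B, g = lev A * up B}
  one_mem' := ⟨1, one_mem _, 0, by rw [map_one, up_zero, mul_one]⟩
  mul_mem' := by
    rintro _ _ ⟨A, hA, B, rfl⟩ ⟨A', hA', B', rfl⟩
    refine ⟨A * A', mul_mem hA hA', congr A'⁻¹ B + B', ?_⟩
    rw [map_mul, up_add, mul_assoc (lev A) (up B), ← mul_assoc (up B), up_mul_lev]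
    simp only [mul_assoc]
  inv_mem' := by
    rintro _ ⟨A, hA, B, rfl⟩
    refine ⟨A⁻¹, inv_mem hA, -(congr A B), ?_⟩
    rw [_root_.mul_inv_rev, ← map_inv, ← up_neg, up_mul_lev, inv_inv, map_neg]

theorem mem_U {g : Spm} : g ∈ U m K ↔ ∃ A ∈ Un, ∃ B, g = lev A * up B := Iff.rfl

theorem lev_mem_U {A : GL (Fin m) K} (hA : A ∈ Un) : lev A ∈ U m K :=
  ⟨A, hA, 0, by rw [up_zero, mul_one]⟩

theorem up_mem_U (B : sym m K) : up B ∈ U m K :=
  ⟨1, one_mem _, B, by rw [map_one, one_mul]⟩

theorem le_of_mem {H : Subgroup Spm} (hl : ∀ A ∈ Un, lev A ∈ H) (hu : ∀ B, up B ∈ H) : U m K ≤ H := by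
  rintro _ ⟨A, hA, B, rfl⟩
  exact mul_mem (hl A hA) (hu B)

theorem card_U [Fintype K] : Nat.card (U m K) = Fintype.card K ^ (m ^ 2) := by
  have e : Un × sym m K ≃ U m K := by
    refine Equiv.ofBijective (fun x => ⟨lev x.1.1 * up x.2, x.1.1, x.1.2, x.2, rfl⟩) ⟨?_, ?_⟩
    · rintro ⟨⟨A, hA⟩, B⟩ ⟨⟨A', hA'⟩, B'⟩ h
      obtain ⟨rfl, rfl⟩ := lev_up_injective (congrArg Subtype.val h)
      rfl
    · rintro ⟨_, A, hA, B, rfl⟩
      exact ⟨(⟨A, hA⟩, B), rfl⟩
  have e' : sym m K ≃ (Sym2 (Fin m) → K) := Cfsg.Agent.Symplectic.symmMatrixEquiv (Fin m) K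
  rw [← Nat.card_congr e, Nat.card_prod, Linear.card_unitriGL, Nat.card_congr e', Nat.card_fun,
    Nat.card_eq_fintype_card (α := K), Nat.card_eq_fintype_card, Sym2.card, Fintype.card_fin,
    ← pow_add]
  congr 1
  have h1 : m * (m - 1) / 2 = m.choose 2 := (Nat.choose_two_right m).symm
  rw [h1, Symplectic.choose_two_succ]
  have h2 : ∀ n : ℕ, 2 * n.choose 2 + n = n ^ 2 := by
    intro n
    induction n with
    | zero => rfl
    | succ n ih =>
      rw [Symplectic.choose_two_succ]
      nlinarith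
  have := h2 m
  omega

variable (m K) in
/-- `U` as a Sylow subgroup. -/
noncomputable def USylow [Fintype K] (p : ℕ) [Fact p.Prime] [CharP K p] : Sylow p Spm :=
  Sylow.ofCard (U m K) (by
    obtain ⟨f, hp, hf⟩ := FiniteField.card K p
    have hne : ¬ p ∣ ∏ i ∈ Finset.range m, (Fintype.card K ^ (2 * (i + 1)) - 1) := by
      rw [(Nat.Prime.prime Fact.out).dvd_finsetProd_iff]
      rintro ⟨i, -, hi⟩
      have h1 : p ∣ Fintype.card K ^ (2 * (i + 1)) := by
        rw [hf, ← pow_mul]
        exact dvd_pow_self p (Nat.mul_ne_zero f.ne_zero (by omega))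
      have h2 := Nat.dvd_sub h1 hi
      rw [Nat.sub_sub_self (Nat.one_le_pow _ _ Fintype.card_pos)] at h2
      exact hp.not_dvd_one h2
    have h0 : ∏ i ∈ Finset.range m, (Fintype.card K ^ (2 * (i + 1)) - 1) ≠ 0 := fun e =>
      hne (by rw [e]; exact dvd_zero p)
    rw [card_U, Symplectic.card_sp,
      Nat.factorization_mul (pow_ne_zero _ Fintype.card_ne_zero) h0, Finsupp.add_apply,
      Nat.factorization_eq_zero_of_not_dvd hne, add_zero, hf, ← pow_mul, hp.factorization_pow,
      Finsupp.single_eq_same])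

theorem isPGroup_U [Fintype K] (p : ℕ) [Fact p.Prime] [CharP K p] : IsPGroup p (U m K) :=
  (USylow m K p).isPGroup'

/-! ### The embedded `SL_2` -/

/-- The `2 × 2` matrix `(a b; c d)` on the coordinate pair `j`. -/
def pairMat (j : Fin m) (a b c d : K) : Matrix (Fin m ⊕ Fin m) (Fin m ⊕ Fin m) K :=
  fromBlocks (1 + single j j (a - 1)) (single j j b) (single j j c) (1 + single j j (d - 1))

theorem pairMat_mul (j : Fin m) (a b c d a' b' c' d' : K) :
    pairMat j a b c d * pairMat j a' b' c' d' =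
      pairMat j (a * a' + b * c') (a * b' + b * d') (c * a' + d * c') (c * b' + d * d') := by
  rw [pairMat, pairMat, pairMat, fromBlocks_multiply]
  simp only [Matrix.add_mul, Matrix.mul_add, Matrix.one_mul, Matrix.mul_one, single_mul_single_same]
  congr 1 <;> (ext x y; simp [Matrix.add_apply, single_apply]; split_ifs <;> ring1)

theorem pairMat_one (j : Fin m) : pairMat j (1 : K) 0 0 1 = 1 := by
  simp [pairMat, fromBlocks_one]

/-- `SL_2` on the coordinate pair `j`. -/
def sl2 (j : Fin m) : Matrix.SpecialLinearGroup (Fin 2) K →* Spm where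
  toFun g := ⟨pairMat j (g.1 0 0) (g.1 0 1) (g.1 1 0) (g.1 1 1), by
    rw [pairMat, SymplecticGroup.fromBlocks_mem_iff]
    simp only [transpose_add, transpose_one, transpose_single, Matrix.add_mul, Matrix.mul_add,
      Matrix.one_mul, Matrix.mul_one, single_mul_single_same]
    have hdet : g.1 0 0 * g.1 1 1 - g.1 0 1 * g.1 1 0 = 1 := by
      rw [← Matrix.det_fin_two]; exact g.2
    refine ⟨?_, ?_, ?_⟩ <;> ext x y <;>
      simp [Matrix.add_apply, Matrix.sub_apply, single_apply, Matrix.one_apply] <;> split_ifs <;>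
      first
        | ring1
        | linear_combination hdet
        | simp_all⟩
  map_one' := Subtype.ext (by simp [pairMat_one])
  map_mul' g h := Subtype.ext (by simp [pairMat_mul, Matrix.mul_apply, Fin.sum_univ_two])

theorem sl2_val (j : Fin m) (g : Matrix.SpecialLinearGroup (Fin 2) K) :
    (sl2 j g).1 = pairMat j (g.1 0 0) (g.1 0 1) (g.1 1 0) (g.1 1 1) := rfl

theorem single_mem_sym (j : Fin m) (c : K) : single j j c ∈ sym m K := by
  rw [mem_sym, transpose_single]

/-- `c E_jj`. -/
def sd (j : Fin m) (c : K) : sym m K := ⟨single j j c, single_mem_sym j c⟩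

/-- `c (E_ij + E_ji)`. -/
def so (i j : Fin m) (c : K) : sym m K :=
  ⟨single i j c + single j i c, by rw [mem_sym, transpose_add, transpose_single, transpose_single, add_comm]⟩

theorem sd_val (j : Fin m) (c : K) : (sd j c).1 = single j j c := rfl

theorem so_val (i j : Fin m) (c : K) : (so i j c).1 = single i j c + single j i c := rfl

theorem sl2_upper (j : Fin m) (c : K) :
    sl2 j (Matrix.SpecialLinearGroup.transvection (show (0 : Fin 2) ≠ 1 by decide) c) = up (sd j c) := by
  refine Subtype.ext ?_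
  rw [sl2_val, up_val, sd_val, pairMat, Matrix.SpecialLinearGroup.transvection_coe]
  simp [Matrix.add_apply, single_apply]

/-- The root element `1 + c E_ij` of `GL_m`. -/
def tg {i j : Fin m} (h : i ≠ j) (c : K) : GL (Fin m) K :=
  Matrix.SpecialLinearGroup.toGL (Matrix.SpecialLinearGroup.transvection h c)

theorem tg_val {i j : Fin m} (h : i ≠ j) (c : K) : (tg h c).val = 1 + single i j c := rfl

theorem tg_inv {i j : Fin m} (h : i ≠ j) (c : K) : (tg h c)⁻¹ = tg h (-c) := by
  rw [tg, ← map_inv, Matrix.SpecialLinearGroup.transvection_inv]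
  rfl

/-- The Weyl element on the coordinate pair `j`. -/
def wm : Matrix.SpecialLinearGroup (Fin 2) K :=
  ⟨!![0, -1; 1, 0], by simp [Matrix.det_fin_two]⟩

/-- The Weyl element swapping the pair `j`. -/
def wj (j : Fin m) : Spm := sl2 j wm

theorem wj_val (j : Fin m) :
    (wj (K := K) j).1 = fromBlocks (1 + single j j (-1)) (single j j (-1)) (single j j 1)
      (1 + single j j (-1)) := by
  rw [wj, sl2_val, pairMat]
  simp [wm]

theorem wj_mul_up_so {i j : Fin m} (h : i ≠ j) (c : K) :
    wj j * up (so i j c) = lev (tg h (-c)) * wj j := by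
  refine Subtype.ext ?_
  rw [Submonoid.coe_mul, Submonoid.coe_mul, wj_val, up_val, lev_val, so_val, tg_inv, neg_neg, tg_val, tg_val,
    fromBlocks_multiply, fromBlocks_multiply, transpose_add, transpose_one, transpose_single]
  simp only [Matrix.add_mul, Matrix.mul_add, Matrix.one_mul, Matrix.mul_one, Matrix.zero_mul,
    Matrix.mul_zero, single_mul_single_same, single_mul_single_of_ne _ _ _ _ h,
    single_mul_single_of_ne _ _ _ _ h.symm, add_zero, zero_add]
  congr 1 <;> (ext x y; simp [Matrix.add_apply, single_apply]; split_ifs <;> ring1)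

theorem wj_mul_lev_tg {i j : Fin m} (h : i ≠ j) (c : K) :
    wj j * lev (tg h c) = up (so i j c) * wj j := by
  refine Subtype.ext ?_
  rw [Submonoid.coe_mul, Submonoid.coe_mul, wj_val, up_val, lev_val, so_val, tg_inv, tg_val, tg_val,
    fromBlocks_multiply, fromBlocks_multiply, transpose_add, transpose_one, transpose_single]
  simp only [Matrix.add_mul, Matrix.mul_add, Matrix.one_mul, Matrix.mul_one, Matrix.zero_mul,
    Matrix.mul_zero, single_mul_single_same, single_mul_single_of_ne _ _ _ _ h,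
    single_mul_single_of_ne _ _ _ _ h.symm, add_zero, zero_add]
  congr 1 <;> (ext x y; simp [Matrix.add_apply, single_apply]) <;> split_ifs <;> ring1

theorem wj_commute_up {j : Fin m} {B : sym m K} (h1 : single j j (1 : K) * B.1 = 0) :
    Commute (wj j) (up B) := by
  have h2 : B.1 * single j j (1 : K) = 0 := by
    have := congrArg Matrix.transpose h1
    rwa [transpose_mul, transpose_single, mem_sym.1 B.2, transpose_zero] at this
  have hs : ∀ a : K, single j j a * B.1 = 0 ∧ B.1 * single j j a = 0 := fun a => by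
    have e : single j j a = a • single j j (1 : K) := by rw [smul_single, smul_eq_mul, mul_one]
    exact ⟨by rw [e, Matrix.smul_mul, h1, smul_zero], by rw [e, Matrix.mul_smul, h2, smul_zero]⟩
  refine Subtype.ext ?_
  rw [Submonoid.coe_mul, Submonoid.coe_mul, wj_val, up_val, fromBlocks_multiply, fromBlocks_multiply]
  simp only [Matrix.add_mul, Matrix.mul_add, Matrix.one_mul, Matrix.mul_one, Matrix.zero_mul,
    Matrix.mul_zero, (hs _).1, (hs _).2, add_zero, zero_add]
  congr 1 <;> abel1

theorem wj_commute_tg {i k j : Fin m} (h : i ≠ k) (hi : i ≠ j) (hk : k ≠ j) (c : K) :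
    Commute (wj j) (lev (tg h c)) := by
  refine Subtype.ext ?_
  rw [Submonoid.coe_mul, Submonoid.coe_mul, wj_val, lev_val, tg_inv, tg_val, tg_val,
    fromBlocks_multiply, fromBlocks_multiply, transpose_add, transpose_one, transpose_single]
  simp only [Matrix.add_mul, Matrix.mul_add, Matrix.one_mul, Matrix.mul_one, Matrix.zero_mul,
    Matrix.mul_zero, single_mul_single_of_ne _ _ _ _ hi, single_mul_single_of_ne _ _ _ _ hi.symm,
    single_mul_single_of_ne _ _ _ _ hk, single_mul_single_of_ne _ _ _ _ hk.symm, add_zero, zero_add]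
  congr 1 <;> abel1

/-- Diagonal elements of `GL_m`. -/
def dg (d : Fin m → Kˣ) : GL (Fin m) K where
  val := Matrix.diagonal fun i => (d i : K)
  inv := Matrix.diagonal fun i => ((d i)⁻¹ : Kˣ)
  val_inv := by simp
  inv_val := by simp

theorem dg_val (d : Fin m → Kˣ) : (dg d).val = Matrix.diagonal fun i => (d i : K) := rfl

theorem dg_inv_val (d : Fin m → Kˣ) :
    ((dg d)⁻¹).val = Matrix.diagonal fun i => ((d i)⁻¹ : Kˣ).val := rfl

theorem sl2_diag (j : Fin m) (t : Kˣ) :
    sl2 j (Matrix.SpecialLinearGroup.diag2n (show (0 : Fin 2) ≠ 1 by decide) (t : K) t.ne_zero) =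
      lev (dg (Function.update 1 j t)) := by
  refine Subtype.ext ?_
  rw [sl2_val, lev_val, dg_val, dg_inv_val, Matrix.diagonal_transpose, pairMat,
    Matrix.SpecialLinearGroup.diag2n_coe]
  congr 1 <;> ext x y <;> by_cases hxy : x = y
  all_goals first
    | (subst hxy; by_cases hx : x = j <;>
        simp [Matrix.add_apply, single_apply, hx, Ne.symm, Function.update_apply]; done)
    | (simp [Matrix.add_apply, single_apply, hxy, Matrix.diagonal_apply_ne _ hxy]; done)
    | (simp [Matrix.add_apply, single_apply, hxy]; intro h1 h2; exact absurd (h1.symm.trans h2) hxy)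

end Cfsg.Agent.H89.SpSylow
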