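import Cfsg.Agent.H89.SpBasic
import Cfsg.Agent.H89.SimpleTools
import Mathlib.Algebra.CharP.Lemmas
import Mathlib.FieldTheory.Perfect

/-!
The fusion system of `PSp_{2m}` in defining characteristic: strongly closed subgroups, centres and the
normaliser of the Sylow subgroup.
-/

set_option autoImplicit false

namespace Cfsg.Agent.H89.SpSylow

open Matrix
open scoped Pointwise

variable {m : ℕ} {K : Type*} [Field K]

local notation "Spm" => Matrix.symplecticGroup (Fin m) K
local notation "Mm" => Matrix (Fin m) (Fin m) K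
local notation "Un" => Cfsg.Agent.Linear.unitriGL m K

theorem mem_Un {A : GL (Fin m) K} :
    A ∈ Un ↔ (∀ x y : Fin m, y < x → A.val x y = 0) ∧ ∀ i, A.val i i = 1 :=
  ⟨fun h => ⟨fun _ _ hxy => h.1 hxy, h.2⟩, fun h => ⟨fun _ _ hxy => h.1 _ _ hxy, h.2⟩⟩

theorem tg_mem_Un {i j : Fin m} (h : i < j) (c : K) : tg h.ne c ∈ Un :=
  mem_Un.2 (Unitri.mem_iff.1 (Unitri.tv_mem h c))

theorem Un_le_of_tg {H : Subgroup (GL (Fin m) K)}
    (h : ∀ (i j : Fin m) (hij : i < j) (c : K), tg hij.ne c ∈ H) : Un ≤ H := by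
  intro A hA
  obtain ⟨u, rfl⟩ := Cfsg.Agent.Linear.unitriGL_le_range_toGL hA
  exact Unitri.le_of_tv_mem (H := H.comap Matrix.SpecialLinearGroup.toGL) h hA

theorem lev_mem_of_tg {H : Subgroup Spm}
    (h : ∀ (i j : Fin m) (hij : i < j) (c : K), lev (tg hij.ne c) ∈ H) {A : GL (Fin m) K} (hA : A ∈ Un) :
    lev A ∈ H :=
  Un_le_of_tg (H := H.comap lev) h hA

/-- A symmetric matrix lies in a subgroup containing its diagonal and off-diagonal pieces. -/
theorem mem_of_pieces {H : AddSubgroup (sym m K)} {B : sym m K} (hd : ∀ i, sd i (B.1 i i) ∈ H)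
    (ho : ∀ i j, i < j → so i j (B.1 i j) ∈ H) : B ∈ H := by
  have key : B = ∑ p : Fin m × Fin m,
      (if p.1 = p.2 then sd p.1 (B.1 p.1 p.1) else if p.1 < p.2 then so p.1 p.2 (B.1 p.1 p.2) else 0) := by
    refine Subtype.ext (Matrix.ext fun x y => ?_)
    rw [AddSubgroup.val_finsetSum, Matrix.sum_apply]
    have hs : B.1 x y = B.1 y x := congrFun (congrFun (mem_sym.1 B.2) y) x
    rw [Finset.sum_eq_single (min x y, max x y)]
    · rcases lt_trichotomy x y with h | rfl | h
      · rw [min_eq_left h.le, max_eq_right h.le, if_neg h.ne, if_pos h, so_val]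
        simp [h.ne]
      · simp [sd_val]
      · rw [min_eq_right h.le, max_eq_left h.le, if_neg h.ne, if_pos h, so_val]
        simp [h.ne, hs]
    · rintro ⟨i, j⟩ - hne
      dsimp only
      split_ifs with h1 h2
      · subst h1
        rw [sd_val, Matrix.single_apply, if_neg]
        rintro ⟨rfl, rfl⟩
        exact hne (by rw [min_self, max_self])
      · rw [so_val, Matrix.add_apply, Matrix.single_apply, Matrix.single_apply, if_neg, if_neg, add_zero]
        · rintro ⟨rfl, rfl⟩
          exact hne (by rw [min_eq_right h2.le, max_eq_left h2.le])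
        · rintro ⟨rfl, rfl⟩
          exact hne (by rw [min_eq_left h2.le, max_eq_right h2.le])
      · rfl
    · exact fun h => absurd (Finset.mem_univ _) h
  rw [key]
  refine H.sum_mem fun p _ => ?_
  split_ifs with h1 h2
  · exact hd p.1
  · exact ho _ _ h2
  · exact H.zero_mem

/-- An element of `U` commuting with the whole radical lies in it. -/
theorem eq_one_of_congr_eq {A : GL (Fin m) K} (hA : A ∈ Un) (h : ∀ B : sym m K, congr A B = B) : A = 1 := by
  refine Units.ext (Matrix.ext fun x i => ?_)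
  rw [Units.val_one]
  rcases eq_or_ne x i with rfl | hxi
  · rw [(mem_Un.1 hA).2, one_apply_eq]
  · have := congrFun (congrFun (congrArg Subtype.val (h (sd i 1))) x) x
    rw [congr_val, sd_val, Matrix.mul_apply,
      Finset.sum_eq_single i (fun k _ hk => by rw [mul_single_apply_of_ne _ _ _ _ _ hk, zero_mul])
        (fun h => absurd (Finset.mem_univ i) h),
      mul_single_apply_same, mul_one, transpose_apply,
      Matrix.single_apply, if_neg (fun e => hxi e.1.symm)] at this
    rw [one_apply_ne hxi]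
    exact mul_self_eq_zero.1 this

/-- Elements of `U` commuting with the radical. -/
theorem eq_up_of_commute {u : Spm} (hu : u ∈ U m K) (h : ∀ B, u * up B = up B * u) : ∃ B, u = up B := by
  obtain ⟨A, hA, B, rfl⟩ := mem_U.1 hu
  refine ⟨B, ?_⟩
  rw [eq_one_of_congr_eq hA fun B' => ?_, map_one, one_mul]
  have h1 := h B'
  apply up_injective
  rw [← lev_conj_up]
  calc lev A * up B' * (lev A)⁻¹ = lev A * up B * up B' * (up B)⁻¹ * (lev A)⁻¹ := by
        rw [mul_assoc (lev A) (up B), (up_commute B B').eq]; group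
    _ = up B' := by rw [h1]; group

theorem congr_tg_val {i j : Fin m} (h : i ≠ j) (t : K) (B : sym m K) :
    (congr (tg h t) B).1 =
      B.1 + single i j t * B.1 + B.1 * single j i t + single i j t * B.1 * single j i t := by
  rw [congr_val, tg_val, transpose_add, transpose_one, transpose_single]
  noncomm_ring

theorem tg_congr_row {i j y : Fin m} (h : i ≠ j) (hy : y ≠ i) (t : K) (B : sym m K) :
    (congr (tg h t) B).1 i y = B.1 i y + t * B.1 j y := by
  rw [congr_tg_val, Matrix.add_apply, Matrix.add_apply, Matrix.add_apply, single_mul_apply_same,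
    mul_single_apply_of_ne _ _ _ _ _ hy, mul_single_apply_of_ne _ _ _ _ _ hy, add_zero, add_zero]

theorem dg_congr_apply (d : Fin m → Kˣ) (B : sym m K) (x y : Fin m) :
    (congr (dg d) B).1 x y = d x * B.1 x y * d y := by
  rw [congr_val, dg_val, Matrix.diagonal_transpose, Matrix.mul_diagonal, Matrix.diagonal_mul]

theorem dg_congr_single (d : Fin m → Kˣ) (x y : Fin m) (c : K) :
    (dg d).val * single x y c * (dg d).valᵀ = single x y ((d x : K) * c * d y) := by
  refine Matrix.ext fun u v => ?_
  rw [dg_val, Matrix.diagonal_transpose, Matrix.mul_diagonal, Matrix.diagonal_mul, Matrix.single_apply,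
    Matrix.single_apply]
  split_ifs with h
  · rw [h.1, h.2]
  · rw [mul_zero, zero_mul]

theorem sd_add (j : Fin m) (a b : K) : sd j (a + b) = sd j a + sd j b := Subtype.ext (single_add j j a b)

theorem so_add (i j : Fin m) (a b : K) : so i j (a + b) = so i j a + so i j b :=
  Subtype.ext (by
    show single i j (a + b) + single j i (a + b) = single i j a + single j i a + (single i j b + single j i b)
    rw [single_add, single_add]; abel)

@[simp] theorem sd_zero (j : Fin m) : sd j (0 : K) = 0 := Subtype.ext (single_zero j j)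

@[simp] theorem so_zero (i j : Fin m) : so i j (0 : K) = 0 :=
  Subtype.ext (by show single i j (0 : K) + single j i 0 = 0; simp)

theorem so_neg (i j : Fin m) (c : K) : so i j (-c) = -so i j c :=
  eq_neg_of_add_eq_zero_left (by rw [← so_add, neg_add_cancel, so_zero])

theorem so_comm (i j : Fin m) (c : K) : so i j c = so j i c := Subtype.ext (add_comm _ _)

theorem congr_tg_sd {i j : Fin m} (h : i ≠ j) (t c : K) :
    congr (tg h t) (sd j c) = sd j c + so i j (t * c) + sd i (t * t * c) := by
  refine Subtype.ext ?_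
  rw [congr_tg_val, AddSubgroup.coe_add, AddSubgroup.coe_add, sd_val, sd_val, so_val,
    single_mul_single_same, single_mul_single_same, single_mul_single_same,
    mul_comm c t, show t * c * t = t * t * c by ring]
  abel

theorem congr_tg_sd_ne {i j k : Fin m} (h : i ≠ j) (hk : k ≠ j) (t c : K) :
    congr (tg h t) (sd k c) = sd k c := by
  refine Subtype.ext ?_
  rw [congr_tg_val, sd_val, single_mul_single_of_ne _ _ _ _ hk.symm,
    single_mul_single_of_ne _ _ _ _ hk, Matrix.zero_mul, add_zero, add_zero, add_zero]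

theorem congr_tg_so {i j k : Fin m} (h : i ≠ j) (hk : k ≠ j) (t c : K) :
    congr (tg h t) (so j k c) = so j k c + so i k (t * c) := by
  refine Subtype.ext ?_
  rw [congr_tg_val, AddSubgroup.coe_add, so_val, so_val, Matrix.mul_add, Matrix.add_mul,
    single_mul_single_same, single_mul_single_of_ne _ _ _ _ hk.symm,
    single_mul_single_of_ne _ _ _ _ hk, single_mul_single_same, add_zero, zero_add,
    single_mul_single_of_ne _ _ _ _ hk, mul_comm c t]
  abel

theorem congr_tg_sd_two {i j : Fin m} (h : i ≠ j) (c : K) :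
    congr (tg h (-1)) (congr (tg h.symm 1) (sd i c)) = sd j c := by
  rw [congr_tg_sd, map_add, map_add, congr_tg_sd_ne h h, congr_tg_so h h, one_mul, one_mul, one_mul,
    congr_tg_sd]
  refine Subtype.ext ?_
  simp only [AddSubgroup.coe_add, sd_val, so_val, neg_mul_neg, one_mul, neg_mul, ← single_neg]
  abel

/-- An additive subgroup containing a nonzero multiple of every square is everything. -/
theorem mem_of_squares [Finite K] (H : AddSubgroup K) {a : K} (ha : a ≠ 0) (h : ∀ s : K, a * s ^ 2 ∈ H)
    (x : K) : x ∈ H := by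
  obtain ⟨p, hp⟩ := CharP.exists K
  haveI : Fact p.Prime := ⟨(CharP.char_is_prime_or_zero K p).resolve_right (CharP.char_ne_zero_of_finite K p)⟩
  by_cases h2 : (2 : K) = 0
  · haveI : CharP K 2 := CharTwo.of_one_ne_zero_of_two_eq_zero one_ne_zero h2
    obtain ⟨s, hs⟩ := (PerfectRing.bijective_frobenius (R := K) (p := 2)).2 (x / a)
    have := h s
    rw [show s ^ 2 = x / a from hs, mul_div_cancel₀ _ ha] at this
    exact this
  · have h4 : (4 : K) ≠ 0 := by
      rw [show (4 : K) = 2 * 2 by norm_num]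
      exact mul_ne_zero h2 h2
    have := H.sub_mem (h (x / (4 * a) + 1)) (h (x / (4 * a) - 1))
    convert this using 1
    field_simp
    ring

/-- A subgroup of symmetric matrices invariant under congruence with a nonzero diagonal unit piece is everything. -/
theorem mem_of_congr_invariant [Finite K] {H : AddSubgroup (sym m K)}
    (hinv : ∀ A B, B ∈ H → congr A B ∈ H) {k : Fin m} {a : K} (ha : a ≠ 0) (hk : sd k a ∈ H)
    (B : sym m K) : B ∈ H := by
  have hkc : ∀ c, sd k c ∈ H := by
    intro c
    refine mem_of_squares (H.comap (AddMonoidHom.mk' (sd k) (sd_add k))) ha (fun s => ?_) c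
    show sd k (a * s ^ 2) ∈ H
    by_cases hs : s = 0
    · simp [hs]
    have := hinv (dg (Function.update 1 k (Units.mk0 s hs))) _ hk
    convert this using 1
    refine Subtype.ext (Matrix.ext fun x y => ?_)
    rw [dg_congr_apply, sd_val, sd_val]
    by_cases hx : k = x
    · by_cases hy : k = y
      · subst hx hy; simp; ring
      · simp [hy]
    · simp [hx]
  have hall : ∀ j c, sd j c ∈ H := by
    intro j c
    rcases eq_or_ne k j with rfl | h
    · exact hkc c
    · rw [← congr_tg_sd_two h c]
      exact hinv _ _ (hinv _ _ (hkc c))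
  refine mem_of_pieces (fun i => hall i _) fun i j hij => ?_
  have h1 := hinv (tg hij.ne 1) _ (hall j (B.1 i j))
  rw [congr_tg_sd, one_mul, one_mul, one_mul] at h1
  have := H.sub_mem (H.sub_mem h1 (hall j (B.1 i j))) (hall i (B.1 i j))
  convert this using 1
  abel

/-- A strongly closed piece of `U` meeting the centre is `U`. -/
theorem U_le_of_closed [Fintype K] (hm : 2 ≤ m) (hex : m = 2 → 3 ≤ Fintype.card K) (T : Subgroup Spm)
    (hcl : ∀ x ∈ T, ∀ g, g * x * g⁻¹ ∈ U m K → g * x * g⁻¹ ∈ T) {u : Spm} (huT : u ∈ T)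
    (huU : u ∈ U m K) (hu1 : u ≠ 1) (huc : ∀ v ∈ U m K, v * u = u * v) : U m K ≤ T := by
  obtain ⟨B, rfl⟩ := eq_up_of_commute huU fun B => (huc _ (up_mem_U B)).symm
  let H : AddSubgroup (sym m K) :=
    { carrier := {B | up B ∈ T}
      zero_mem' := by rw [Set.mem_ofPred_eq, up_zero]; exact one_mem T
      add_mem' := fun {a b} ha hb => by
        rw [Set.mem_ofPred_eq, up_add]
        exact mul_mem ha hb
      neg_mem' := fun {a} ha => by
        rw [Set.mem_ofPred_eq, up_neg]
        exact inv_mem ha }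
  have hH : ∀ B, B ∈ H ↔ up B ∈ T := fun B => Iff.rfl
  have hinv : ∀ A C, C ∈ H → congr A C ∈ H := fun A C hC => by
    rw [hH, ← lev_conj_up]
    exact hcl _ hC _ (by rw [lev_conj_up]; exact up_mem_U _)
  have htg : ∀ {i j : Fin m} (h : i < j) (c : K), so i j c ∈ H → lev (tg h.ne (-c)) ∈ T := by
    intro i j h c hc
    have e : lev (tg h.ne (-c)) = wj j * up (so i j c) * (wj j)⁻¹ := by
      rw [wj_mul_up_so h.ne, mul_inv_cancel_right]
    rw [e]
    refine hcl _ hc _ ?_
    rw [← e]
    exact lev_mem_U (tg_mem_Un h _)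
  set i0 : Fin m := ⟨0, by omega⟩ with hi0
  set i1 : Fin m := ⟨1, by omega⟩ with hi1
  have h01 : i0 < i1 := Nat.zero_lt_one
  -- central elements
  have hcen : ∀ {i j : Fin m} (h : i < j), congr (tg h.ne (1 : K)) B = B := by
    intro i j h
    apply up_injective
    rw [← lev_conj_up, huc _ (lev_mem_U (tg_mem_Un h 1)), mul_inv_cancel_right]
  have hrow : ∀ {i j y : Fin m}, i < j → y ≠ i → B.1 j y = 0 := by
    intro i j y h hy
    have e := congrFun (congrFun (congrArg Subtype.val (hcen h)) i) y
    rw [tg_congr_row h.ne hy, one_mul] at e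
    exact add_eq_left.1 e
  have hsymB : ∀ x y, B.1 x y = B.1 y x := fun x y => congrFun (congrFun (mem_sym.1 B.2) y) x
  set a := B.1 i0 i0 with ha
  set b := B.1 i0 i1 with hb
  have hB : B = sd i0 a + so i0 i1 b := by
    have hzero : ∀ x y : Fin m, x ≠ i0 → (y ≠ i0 ∨ x ≠ i1) → B.1 x y = 0 := by
      intro x y hx hxy
      have hx0 : i0 < x := Nat.pos_of_ne_zero fun e => hx (Fin.ext e)
      rcases hxy with hy | hx1
      · exact hrow hx0 hy
      · rcases eq_or_ne y i0 with hy | hy
        · refine hrow (show i1 < x from ?_) (hy ▸ h01.ne)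
          exact lt_of_le_of_ne (Nat.succ_le_of_lt hx0) hx1.symm
        · exact hrow hx0 hy
    refine Subtype.ext (Matrix.ext fun x y => ?_)
    simp only [AddSubgroup.coe_add, sd_val, so_val, Matrix.add_apply, Matrix.single_apply]
    rcases eq_or_ne x i0 with rfl | hx
    · rcases eq_or_ne y i0 with rfl | hy
      · simp [h01.ne', a]
      · rcases eq_or_ne y i1 with rfl | hy1
        · simp [h01.ne, b]
        · rw [hsymB, hzero y i0 hy (Or.inr hy1)]
          simp [hy.symm, hy1.symm, h01.ne']
    · rcases eq_or_ne y i0 with rfl | hy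
      · rcases eq_or_ne x i1 with rfl | hx1
        · simp [h01.ne, hsymB i1, b]
        · rw [hzero x i0 hx (Or.inr hx1)]
          simp [hx.symm, hx1.symm]
      · rw [hzero x y hx (Or.inl hy)]
        simp [hx.symm, hy.symm]
  have huH : sd i0 a + so i0 i1 b ∈ H := hB ▸ huT
  -- a nonzero diagonal piece
  obtain ⟨k, c, hc, hk⟩ : ∃ (k : Fin m) (c : K), c ≠ 0 ∧ sd k c ∈ H := by
    by_cases hb0 : b = 0
    · refine ⟨i0, a, fun ha0 => hu1 ?_, by simpa [hb0] using huH⟩
      rw [hB, ha0, hb0]
      simp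
    obtain ⟨b', hb', hso⟩ : ∃ b' : K, b' ≠ 0 ∧ so i0 i1 b' ∈ H := by
      rcases eq_or_lt_of_le hm with h2 | h3
      · classical
        obtain ⟨t, ht⟩ : ∃ t : Kˣ, t ≠ 1 := by
          refine Fintype.exists_ne_of_one_lt_card ?_ 1
          rw [Fintype.card_units]
          have := hex h2.symm
          omega
        refine ⟨b * ((t : K) - 1), mul_ne_zero hb0 (sub_ne_zero.2 fun e => ht (Units.ext e)), ?_⟩
        set d : Fin m → Kˣ := Function.update 1 i1 t with hd
        have hd0 : (d i0 : K) = 1 := by simp [d, h01.ne]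
        have hd1 : (d i1 : K) = t := by simp [d]
        have e1 : congr (dg d) (sd i0 a) = sd i0 a := by
          refine Subtype.ext ?_
          rw [congr_val, sd_val, dg_congr_single, hd0, one_mul, mul_one]
        have e2 : congr (dg d) (so i0 i1 b) = so i0 i1 (b * t) := by
          refine Subtype.ext ?_
          rw [congr_val, so_val, so_val, Matrix.mul_add, Matrix.add_mul, dg_congr_single, dg_congr_single,
            hd0, hd1, one_mul, mul_one, mul_comm (t : K) b]
        have h1 := H.sub_mem (hinv (dg d) _ huH) huH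
        rw [map_add, e1, e2, show b * (t : K) = b + b * ((t : K) - 1) by ring, so_add] at h1
        convert h1 using 1
        abel
      · set i2 : Fin m := ⟨2, by omega⟩ with hi2
        have h21 : i2 ≠ i1 := fun e => by simpa [i1, i2] using congrArg Fin.val e
        have h02 : i0 ≠ i2 := fun e => by simpa [i0, i2] using congrArg Fin.val e
        have h1 := H.sub_mem (hinv (tg h21 1) _ huH) huH
        rw [map_add, congr_tg_sd_ne h21 h01.ne, so_comm i0 i1, congr_tg_so h21 h01.ne, one_mul] at h1
        have h1' : so i2 i0 b ∈ H := by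
          convert h1 using 1
          abel
        refine ⟨b, hb0, ?_⟩
        have h2 := H.sub_mem (hinv (tg h21.symm 1) _ h1') h1'
        rw [congr_tg_so h21.symm h02, one_mul, so_comm i1 i0] at h2
        convert h2 using 1
        abel
    set l := lev (tg h01.ne (-b')) with hl
    have hlT : l ∈ T := htg h01 b' hso
    have hlU : l ∈ U m K := lev_mem_U (tg_mem_Un h01 _)
    have hR : up (sd i1 1) * l⁻¹ * (up (sd i1 1))⁻¹ ∈ T :=
      hcl _ (inv_mem hlT) _ (mul_mem (mul_mem (up_mem_U _) (inv_mem hlU)) (inv_mem (up_mem_U _)))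
    have h1 : up (congr (tg h01.ne (-b')) (sd i1 1) - sd i1 1) ∈ T := by
      have e := mul_mem hlT hR
      rw [show l * (up (sd i1 1) * l⁻¹ * (up (sd i1 1))⁻¹) =
        (l * up (sd i1 1) * l⁻¹) * (up (sd i1 1))⁻¹ by group, hl, lev_conj_up, ← up_neg, ← up_add,
        ← sub_eq_add_neg] at e
      exact e
    have h2 : congr (tg h01.ne (-b')) (sd i1 1) - sd i1 1 + so i0 i1 b' ∈ H := H.add_mem h1 hso
    rw [congr_tg_sd, mul_one, mul_one, neg_mul_neg, so_neg] at h2
    refine ⟨i0, b' * b', mul_ne_zero hb' hb', ?_⟩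
    convert h2 using 1
    abel
  have hall : ∀ C, up C ∈ T := mem_of_congr_invariant hinv hc hk
  refine le_of_mem (fun A hA => lev_mem_of_tg (fun i j hij d => ?_) hA) hall
  have := htg hij (-d) (hall _)
  rwa [neg_neg] at this

/-- The centre meets `U` trivially. -/
theorem center_inf_U {z : Spm} (hz : z ∈ Subgroup.center Spm) (hzU : z ∈ U m K) : z = 1 := by
  have hc : ∀ g, g * z = z * g := Subgroup.mem_center_iff.1 hz
  obtain ⟨B, rfl⟩ := eq_up_of_commute hzU fun B => (hc _).symm
  rw [show B = 0 from Subtype.ext (Matrix.ext fun j y => ?_), up_zero]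
  have e := congrArg (fun g : Spm => g.1.toBlocks₂₂) (hc (wj j))
  simp only [Submonoid.coe_mul, wj_val, up_val, fromBlocks_multiply, toBlocks_fromBlocks₂₂] at e
  have := congrFun (congrFun e j) y
  simp [Matrix.single_apply] at this
  simpa using this

/-- A `p`-element of the centre is trivial. -/
theorem center_pow_eq_one [Fintype K] {p : ℕ} [Fact p.Prime] [CharP K p] {z : Spm}
    (hz : z ∈ Subgroup.center Spm) {e : ℕ} (h : z ^ (p ^ e) = 1) : z = 1 := by
  have hp : IsPGroup p (Subgroup.zpowers z) := by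
    rintro ⟨_, i, rfl⟩
    refine ⟨e, Subtype.ext ?_⟩
    show (z ^ i) ^ (p ^ e) = 1
    rw [← zpow_natCast, ← _root_.zpow_mul, mul_comm, _root_.zpow_mul, zpow_natCast, h, _root_.one_zpow]
  obtain ⟨g, hg⟩ := exists_conj_into_sylow (USylow m K p) hp
  have h1 := hg z (Subgroup.mem_zpowers z)
  rw [Subgroup.mem_center_iff.1 hz g, mul_inv_cancel_right] at h1
  exact center_inf_U hz h1

/-- What normalises `U` is upper triangular in the Siegel parabolic. -/
theorem exists_lev_up_of_normalizes {g : Spm} (hg : ∀ u ∈ U m K, g⁻¹ * u * g ∈ U m K) :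
    ∃ A B, g = lev A * up B ∧ (∀ a b : Fin m, b < a → A.val a b = 0) := by
  have hC : g.1.toBlocks₂₁ = 0 := by
    obtain ⟨M, hM⟩ := g
    obtain ⟨a, b, c, d, rfl⟩ : ∃ a b c d, M = Matrix.fromBlocks a b c d :=
      ⟨_, _, _, _, (Matrix.fromBlocks_toBlocks M).symm⟩
    obtain ⟨hac, -, -⟩ := SymplecticGroup.fromBlocks_mem_iff.1 hM
    show (fromBlocks a b c d).toBlocks₂₁ = 0
    rw [toBlocks_fromBlocks₂₁]
    refine Matrix.ext fun k x => ?_
    obtain ⟨A', -, B', hv⟩ := mem_U.1 (hg _ (up_mem_U (sd k 1)))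
    have e : up (sd k (1 : K)) * ⟨fromBlocks a b c d, hM⟩ = (⟨fromBlocks a b c d, hM⟩ : Spm) * (lev A' * up B') := by
      rw [← hv]; group
    have e' := congrArg Subtype.val e
    rw [Submonoid.coe_mul, Submonoid.coe_mul, toBlocks_lev_up, up_val, fromBlocks_multiply,
      fromBlocks_multiply, fromBlocks_inj] at e'
    obtain ⟨h11, -, h21, -⟩ := e'
    simp only [Matrix.one_mul, Matrix.zero_mul, Matrix.mul_zero, add_zero, zero_add] at h11 h21
    have h3 : cᵀ * single k k 1 * c = 0 := by
      have e1 : single k k (1 : K) * c = a * A'.val - a := by rw [← h11, sd_val, add_sub_cancel_left]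
      rw [Matrix.mul_assoc, e1, Matrix.mul_sub, ← Matrix.mul_assoc, ← hac, Matrix.mul_assoc, ← h21,
        sub_self]
    have h4 := congrFun (congrFun h3 x) x
    rw [Matrix.mul_apply,
      Finset.sum_eq_single k (fun l _ hl => by rw [mul_single_apply_of_ne _ _ _ _ _ hl, zero_mul])
        (fun h => absurd (Finset.mem_univ k) h),
      mul_single_apply_same, mul_one, transpose_apply] at h4
    exact mul_self_eq_zero.1 h4
  obtain ⟨A, B, rfl⟩ := exists_lev_up hC
  refine ⟨A, B, rfl, ?_⟩
  have hA : ∀ A0 ∈ Un, A⁻¹ * A0 * A ∈ Un := by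
    intro A0 hA0
    have h1 := mul_mem (mul_mem (up_mem_U B) (hg _ (lev_mem_U hA0))) (inv_mem (up_mem_U B))
    rw [show up B * ((lev A * up B)⁻¹ * lev A0 * (lev A * up B)) * (up B)⁻¹ = lev (A⁻¹ * A0 * A) by
      rw [map_mul, map_mul, map_inv]; group] at h1
    obtain ⟨A1, hA1, B1, e⟩ := mem_U.1 h1
    have e' : lev (A⁻¹ * A0 * A) * up 0 = lev A1 * up B1 := by rw [up_zero, mul_one, e]
    exact (lev_up_injective e').1 ▸ hA1
  suffices h : ∀ (n : ℕ) (a b : Fin m), (b : ℕ) = n → b < a → A.val a b = 0 from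
    fun a b hab => h b a b rfl hab
  intro n
  induction n using Nat.strong_induction_on with
  | _ n ih =>
    intro a b hb hab
    have hu' := mem_Un.1 (hA _ (tg_mem_Un hab 1))
    set v := A⁻¹ * tg hab.ne (1 : K) * A with hv
    have heq : tg hab.ne (1 : K) * A = A * v := by rw [hv]; group
    have h1 : ((tg hab.ne (1 : K)).val * A.val) b b = (A.val * v.val) b b := by
      rw [← Units.val_mul, ← Units.val_mul, heq]
    rw [tg_val, Matrix.add_mul, Matrix.one_mul, Matrix.add_apply,
      single_mul_apply_same, one_mul, Matrix.mul_apply,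
      Finset.sum_eq_single b (fun k _ hk => ?_) (fun h => absurd (Finset.mem_univ b) h),
      hu'.2 b, mul_one] at h1
    · exact add_eq_left.1 h1
    · rcases lt_or_gt_of_ne hk with hlt | hlt
      · rw [ih k (hb ▸ hlt) b k rfl hlt, zero_mul]
      · rw [hu'.1 k b hlt, mul_zero]

/-- Diagonal elements normalise `U`. -/
theorem dg_conj_U (d : Fin m → Kˣ) {u : Spm} (hu : u ∈ U m K) :
    lev (dg d) * u * (lev (dg d))⁻¹ ∈ U m K := by
  obtain ⟨A, hA, B, rfl⟩ := mem_U.1 hu
  refine ⟨dg d * A * (dg d)⁻¹, ?_, congr (dg d) B, ?_⟩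
  · have hval : ∀ x y, (dg d * A * (dg d)⁻¹).val x y = d x * A.val x y * ((d y)⁻¹ : Kˣ).val := by
      intro x y
      rw [Units.val_mul, Units.val_mul, dg_val, dg_inv_val, Matrix.mul_diagonal, Matrix.diagonal_mul]
    refine mem_Un.2 ⟨fun x y hxy => ?_, fun i => ?_⟩
    · rw [hval, (mem_Un.1 hA).1 x y hxy]; simp
    · rw [hval, (mem_Un.1 hA).2]; simp
  · rw [map_mul, map_mul, map_inv, ← lev_conj_up]
    group

end Cfsg.Agent.H89.SpSylow
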