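import Cfsg.Agent.H89.SpRadical
import Cfsg.Prelude.Def_Classical

/-!
The fusion system of a central quotient of `Sp_{2m}` in defining characteristic is simple.
-/

set_option autoImplicit false

namespace Cfsg.Agent.H89.SpSylow

open Matrix Cfsg Cfsg.FusionSystem Cfsg.Agent.FusionSys Cfsg.Agent.H89
open scoped Pointwise

universe u v

variable {K : Type u} [Field K] {p : ℕ} [Fact p.Prime] [CharP K p] {m : ℕ}

local notation "Spm" => Matrix.symplecticGroup (Fin m) K

theorem isSimple_of_central_quotient [Fintype K] (hm : 2 ≤ m) (hex : m = 2 → 3 ≤ Fintype.card K)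
    {G : Type v} [Group G] [Finite G] (π : Spm →* G) (hπ : Function.Surjective π)
    (hker : π.ker ≤ Subgroup.center Spm) (S : Sylow p G)
    (hS : (S : Subgroup G) = (U m K).map π) :
    (groupFusionSystem (S : Subgroup G)).IsSimple p := by
  classical
  set i0 : Fin m := ⟨0, by omega⟩ with hi0
  set i1 : Fin m := ⟨1, by omega⟩ with hi1
  have h01 : i0 < i1 := Nat.zero_lt_one
  have hmin : ∀ k, i0 ≤ k := fun k => Nat.zero_le _
  have hpU : IsPGroup p (U m K) := isPGroup_U p
  have hinj : ∀ u ∈ U m K, π u = 1 → u = 1 := fun u hu h =>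
    center_inf_U (hker (MonoidHom.mem_ker.2 h)) hu
  have hcomm : ∀ u ∈ U m K, ∀ v ∈ U m K, π u * π v = π v * π u → u * v = v * u := by
    intro u hu v hv h
    refine mul_inv_eq_one.1 (hinj _ (mul_mem (mul_mem hu hv) (Subgroup.inv_mem _ (mul_mem hv hu))) ?_)
    simp only [map_mul, map_inv, h]
    group
  have hπS : ∀ u ∈ U m K, π u ∈ (S : Subgroup G) := fun u hu => hS ▸ Subgroup.mem_map_of_mem π hu
  have hlift : ∀ s ∈ (S : Subgroup G), ∃ u ∈ U m K, π u = s := fun s hs => by
    rw [hS] at hs; exact hs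
  refine isSimple_of_criterion S (isSaturated_group S) ?_ ?_ ?_
  · intro hbot
    have h1 : π (up (sd i0 (1 : K))) = 1 := Subgroup.mem_bot.1 (hbot ▸ hπS _ (up_mem_U _))
    have h2 : sd i0 (1 : K) = 0 := up_injective (by rw [hinj _ (up_mem_U _) h1, up_zero])
    have h3 := congrFun (congrFun (congrArg Subtype.val h2) i0) i0
    rw [sd_val, Matrix.single_apply, if_pos ⟨rfl, rfl⟩] at h3
    exact one_ne_zero h3
  · intro T hT
    by_cases hne : T = ⊥
    · exact Or.inl hne
    refine Or.inr (le_antisymm hT.1 ?_)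
    obtain ⟨z, hzT, hz1, hzc⟩ := exists_central_mem S hT hne
    obtain ⟨w, hw, rfl⟩ := hlift z (hT.1 hzT)
    rw [hS, Subgroup.map_le_iff_le_comap]
    refine (U_le_of_closed hm hex (T.comap π ⊓ U m K) (fun x hx g hg => ⟨?_, hg⟩) ⟨hzT, hw⟩ hw ?_
      (fun v hv => hcomm v hv w hw (hzc _ (hπS v hv)))).trans inf_le_left
    · have hS' := hπS _ hg
      rw [map_mul, map_mul, map_inv] at hS'
      have := mem_of_conj_mem hT hx.1 hS'
      rw [← map_inv, ← map_mul, ← map_mul] at this
      exact this
    · intro e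
      exact hz1 (by rw [e, map_one])
  · set RHS := ⨆ (R : Subgroup G) (_ : (groupFusionSystem (S : Subgroup G)).IsFullyNormalized R ∧
      (groupFusionSystem (S : Subgroup G)).IsCentric R),
      autInducedBy (pElementsOfNormalizer p R) (S : Subgroup G) with hRHS
    set J : Subgroup Spm := (((RHS).comap (conjAutHom (S : Subgroup G))).map
      (Subgroup.normalizer ((S : Subgroup G) : Set G)).subtype).comap π with hJdef
    have hord : ∀ x : G, (∃ e, x ^ (p ^ e) = 1) → ∃ k, orderOf x = p ^ k := by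
      rintro x ⟨e, he⟩
      obtain ⟨k, -, hk⟩ := (Nat.dvd_prime_pow (Fact.out : p.Prime)).1 (orderOf_dvd_of_pow_eq_one he)
      exact ⟨k, hk⟩
    have hpS : ∀ u ∈ U m K, ∃ k, orderOf (π u) = p ^ k := by
      intro u hu
      obtain ⟨e, he⟩ := hpU ⟨u, hu⟩
      refine hord _ ⟨e, ?_⟩
      rw [← map_pow, show u ^ p ^ e = 1 from congrArg Subtype.val he, map_one]
    have hpconj : ∀ x y : Spm, x ∈ U m K → ∃ k, orderOf (π (y * x * y⁻¹)) = p ^ k := by
      intro x y hx
      obtain ⟨k, hk⟩ := hpS x hx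
      refine ⟨k, ?_⟩
      rw [map_mul, map_mul, map_inv, ← hk]
      exact orderOf_injective (MulAut.conj (π y)).toMonoidHom (MulAut.conj (π y)).injective (π x)
    -- a radical inside U gives elements of J
    have hR : ∀ (R0 : Subgroup Spm), R0 ≤ U m K → (∀ u ∈ U m K, ∀ q ∈ R0, u * q * u⁻¹ ∈ R0) →
        (∀ u ∈ U m K, (∀ q ∈ R0, q * u = u * q) → u ∈ R0) →
        ∀ (X : Set Spm), (∀ x ∈ X, (∀ q ∈ R0, x * q * x⁻¹ ∈ R0) ∧ ∃ k, orderOf (π x) = p ^ k) →
        ∀ g ∈ Subgroup.closure X, (∀ u ∈ U m K, g * u * g⁻¹ ∈ U m K) → g ∈ J := by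
      intro R0 hR0 hn hc X hX g hg hgU
      set R := R0.map π with hRdef
      have hRS : R ≤ (S : Subgroup G) := hS ▸ Subgroup.map_mono hR0
      have hnR : ∀ x : Spm, (∀ q ∈ R0, x * q * x⁻¹ ∈ R0) →
          π x ∈ Subgroup.normalizer (R : Set G) := by
        intro x hx
        refine mem_normalizer_of_maps ?_
        rintro _ ⟨q, hq, rfl⟩
        rw [← map_inv, ← map_mul, ← map_mul]
        exact Subgroup.mem_map_of_mem π (hx q hq)
      have hnS : (S : Subgroup G) ≤ Subgroup.normalizer (R : Set G) := by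
        intro s hs
        obtain ⟨v, hv, rfl⟩ := hlift s hs
        exact hnR v (hn v hv)
      have hcR : centralizerIn (S : Subgroup G) R ≤ R := by
        intro x hx
        obtain ⟨hxS, hxc⟩ := FusionSys.mem_centralizerIn.1 hx
        obtain ⟨v, hv, rfl⟩ := hlift x hxS
        exact Subgroup.mem_map_of_mem π (hc v hv fun q hq =>
          hcomm q (hR0 hq) v hv (hxc _ (Subgroup.mem_map_of_mem π hq)))
      have hgS : π g ∈ Subgroup.normalizer ((S : Subgroup G) : Set G) := by
        refine mem_normalizer_of_maps fun y hy => ?_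
        obtain ⟨u, hu, rfl⟩ := hlift y hy
        rw [← map_inv, ← map_mul, ← map_mul]
        exact hπS _ (hgU u hu)
      have hgp : π g ∈ pElementsOfNormalizer p R := by
        have : Subgroup.closure X ≤ (pElementsOfNormalizer p R).comap π :=
          (Subgroup.closure_le _).2 fun x hx => Subgroup.subset_closure ⟨hnR x (hX x hx).1, (hX x hx).2⟩
        exact this hg
      refine ⟨⟨π g, hgS⟩, ?_, rfl⟩
      show conjAutHom (S : Subgroup G) ⟨π g, hgS⟩ ∈ RHS
      exact (le_iSup₂ (f := fun R _ => autInducedBy (pElementsOfNormalizer p R) (S : Subgroup G)) R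
        ⟨isFullyNormalized_of_le_normalizer S hRS hnS, isCentric_of_le_normalizer S hRS hnS hcR⟩)
        (mem_autInducedBy.2 ⟨π g, hgp, hgS, rfl⟩)
    have hUn : ∀ u ∈ U m K, ∀ q ∈ U m K, u * q * u⁻¹ ∈ U m K := fun u hu q hq =>
      mul_mem (mul_mem hu hq) (inv_mem hu)
    have hJU : ∀ u ∈ U m K, u ∈ J := fun u hu =>
      hR (U m K) le_rfl hUn (fun _ h _ => h) (U m K) (fun x hx => ⟨hUn x hx, hpS x hx⟩) u
        (Subgroup.subset_closure hu) (hUn u hu)
    -- the Siegel radical
    let upHom : Subgroup Spm :=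
      { carrier := Set.range (up : sym m K → Spm)
        one_mem' := ⟨0, up_zero⟩
        mul_mem' := by rintro _ _ ⟨B, rfl⟩ ⟨C, rfl⟩; exact ⟨B + C, up_add B C⟩
        inv_mem' := by rintro _ ⟨B, rfl⟩; exact ⟨-B, up_neg B⟩ }
    have hJdiag1 : ∀ d : Matrix.SpecialLinearGroup (Fin m) K, (∀ x y, x ≠ y → d.1 x y = 0) →
        lev (Matrix.SpecialLinearGroup.toGL d) ∈ J := by
      intro d hd
      refine Unitri.diagonal_mem (H := (J.comap lev).comap Matrix.SpecialLinearGroup.toGL) ?_ hd
      intro a b hab hne c hc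
      show lev (Matrix.SpecialLinearGroup.toGL (Matrix.SpecialLinearGroup.diag2n hne c hc)) ∈ J
      refine hR upHom ?_ ?_ ?_
        {g | ∃ (i j : Fin m) (h : i ≠ j) (t : K), g = lev (tg h t)} ?_ _ ?_ ?_
      · rintro _ ⟨B, rfl⟩; exact up_mem_U B
      · rintro _ ⟨A, hA, C, rfl⟩ _ ⟨B, rfl⟩
        refine ⟨congr A B, ?_⟩
        rw [mul_assoc (lev A), (up_commute C B).eq, ← lev_conj_up]; group
      · intro v hv hc'
        obtain ⟨B, rfl⟩ := eq_up_of_commute hv fun B => (hc' _ ⟨B, rfl⟩).symm
        exact ⟨B, rfl⟩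
      · rintro _ ⟨i, j, h, t, rfl⟩
        refine ⟨?_, hord _ ⟨1, ?_⟩⟩
        · rintro _ ⟨B, rfl⟩
          exact ⟨congr (tg h t) B, (lev_conj_up _ B).symm⟩
        · have hpow : ∀ k : ℕ, (Matrix.SpecialLinearGroup.transvection h t) ^ k =
              Matrix.SpecialLinearGroup.transvection h ((k : K) * t) := by
            intro k
            induction k with
            | zero => simp
            | succ k ih =>
              rw [pow_succ, ih, ← Matrix.SpecialLinearGroup.transvection_add]
              congr 1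
              push_cast
              ring
          rw [pow_one, ← map_pow, ← map_pow, tg, ← map_pow, hpow, CharP.cast_eq_zero K p, zero_mul,
            Matrix.SpecialLinearGroup.transvection_coeff_zero, map_one, map_one, map_one]
      · rw [Cfsg.Agent.Linear.diag2n_eq_transvections]
        simp only [map_mul]
        refine mul_mem (mul_mem (mul_mem (mul_mem (mul_mem ?_ ?_) ?_) ?_) ?_) ?_
        all_goals exact Subgroup.subset_closure ⟨_, _, _, _, rfl⟩
      · intro u hu
        rw [show (Matrix.SpecialLinearGroup.toGL (Matrix.SpecialLinearGroup.diag2n hne c hc)) =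
          dg (fun i => if i = a then Units.mk0 c hc else if i = b then (Units.mk0 c hc)⁻¹ else 1) from ?_]
        · exact dg_conj_U _ hu
        · refine Units.ext ?_
          rw [dg_val]
          show (Matrix.SpecialLinearGroup.diag2n hne c hc).1 = _
          rw [Matrix.SpecialLinearGroup.diag2n_coe]
          congr 1
          funext i
          split_ifs <;> simp only [Units.val_mk0, Units.val_inv_eq_inv_val, Units.val_one]
    -- one further torus element
    have hJ1 : ∀ t : Kˣ, lev (dg (Function.update (1 : Fin m → Kˣ) i1 t)) ∈ J := by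
      intro t
      have hw : ∀ q ∈ Qr (K := K) i0, wj i1 * q * (wj i1)⁻¹ ∈ Qr i0 := fun q hq =>
        wj_normalizes_Qr h01.ne hq
      have hw' : ∀ q ∈ Qr (K := K) i0, (wj i1)⁻¹ * q * wj i1 ∈ Qr i0 := by
        haveI : Finite (Qr (K := K) (m := m) i0) := inferInstance
        have hmem : (wj i1 : Spm) ∈ Subgroup.normalizer (Qr (K := K) (m := m) i0 : Set Spm) :=
          mem_normalizer_of_maps hw
        intro q hq
        have := (Subgroup.mem_normalizer_iff.1 (Subgroup.inv_mem _ hmem) q).1 hq
        rwa [inv_inv] at this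
      refine hR (Qr i0) (Qr_le_U hmin) (fun u hu q hq => U_normalizes_Qr hmin hu hq)
        (fun u hu hc => mem_Qr_of_centralizes hmin hu hc)
        {g | ∃ B : sym m K, g = up B ∨ g = wj i1 * up B * (wj i1)⁻¹} ?_ _ ?_
        (fun u hu => dg_conj_U _ hu)
      · rintro _ ⟨B, rfl | rfl⟩
        · exact ⟨fun q hq => U_normalizes_Qr hmin (up_mem_U B) hq, hpS _ (up_mem_U B)⟩
        · refine ⟨fun q hq => ?_, hpconj _ _ (up_mem_U B)⟩
          rw [show wj i1 * up B * (wj i1)⁻¹ * q * (wj i1 * up B * (wj i1)⁻¹)⁻¹ =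
            wj i1 * (up B * ((wj i1)⁻¹ * q * wj i1) * (up B)⁻¹) * (wj i1)⁻¹ by group]
          exact hw _ (U_normalizes_Qr hmin (up_mem_U B) (hw' q hq))
      · rw [← sl2_diag, Cfsg.Agent.Linear.diag2n_eq_transvections]
        have hu : ∀ c : K, sl2 i1 (Matrix.SpecialLinearGroup.transvection
            (show (0 : Fin 2) ≠ 1 by decide) c) ∈ Subgroup.closure
            {g : Spm | ∃ B : sym m K, g = up B ∨ g = wj i1 * up B * (wj i1)⁻¹} := fun c => by
          rw [sl2_upper]
          exact Subgroup.subset_closure ⟨_, Or.inl rfl⟩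
        have hl : ∀ c : K, sl2 i1 (Matrix.SpecialLinearGroup.transvection
            (show (1 : Fin 2) ≠ 0 by decide) c) ∈ Subgroup.closure
            {g : Spm | ∃ B : sym m K, g = up B ∨ g = wj i1 * up B * (wj i1)⁻¹} := fun c => by
          refine Subgroup.subset_closure ⟨sd i1 (-c), Or.inr ?_⟩
          rw [← sl2_upper, wj, ← map_inv, ← map_mul, ← map_mul]
          congr 1
          rw [eq_mul_inv_iff_mul_eq]
          refine Subtype.ext ?_
          rw [Matrix.SpecialLinearGroup.coe_mul, Matrix.SpecialLinearGroup.coe_mul,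
            Matrix.SpecialLinearGroup.transvection_coe, Matrix.SpecialLinearGroup.transvection_coe, wm]
          ext r s
          fin_cases r <;> fin_cases s <;> simp [Matrix.mul_apply, Fin.sum_univ_two, Matrix.single_apply]
        simp only [map_mul]
        refine mul_mem (mul_mem (mul_mem (mul_mem (mul_mem ?_ ?_) ?_) ?_) ?_) ?_
        · exact hu _
        · exact hl _
        · exact hu _
        · exact hu _
        · exact hl _
        · exact hu _
    have hJdg : ∀ d : Fin m → Kˣ, lev (dg d) ∈ J := by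
      intro d
      set e : Fin m → Kˣ := d * Function.update (1 : Fin m → Kˣ) i1 (∏ i, d i)⁻¹ with he
      have hdet : ∏ i, (e i : K) = 1 := by
        rw [← Units.coe_prod]
        have : ∏ i, e i = 1 := by
          rw [he]
          simp only [Pi.mul_apply, Finset.prod_mul_distrib]
          rw [Finset.prod_update_of_mem (Finset.mem_univ i1)]
          simp
        rw [this, Units.val_one]
      have h1 : lev (dg e) ∈ J := by
        have := hJdiag1 ⟨Matrix.diagonal fun i => (e i : K), by rw [Matrix.det_diagonal, hdet]⟩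
          (fun x y h => Matrix.diagonal_apply_ne _ h)
        convert this using 2
        exact Units.ext rfl
      have h2 : dg d = dg e * dg (Function.update (1 : Fin m → Kˣ) i1 (∏ i, d i)) := by
        refine Units.ext ?_
        rw [Units.val_mul, dg_val, dg_val, dg_val, Matrix.diagonal_mul_diagonal]
        congr 1
        funext i
        rw [← Units.val_mul, he, Pi.mul_apply]
        by_cases hi : i = i1
        · subst hi; simp
        · simp [hi]
      rw [h2, map_mul]
      exact mul_mem h1 (hJ1 _)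
    intro α hα
    obtain ⟨x, -, hxn, rfl⟩ := mem_autInducedBy.1 hα
    obtain ⟨g, rfl⟩ := hπ x
    have hgU : ∀ u ∈ U m K, g⁻¹ * u * g ∈ U m K := by
      intro u hu
      have h1 : (π g)⁻¹ * π u * π g ∈ (S : Subgroup G) := by
        simpa using (Subgroup.mem_normalizer_iff.1 (Subgroup.inv_mem _ hxn) (π u)).1 (hπS u hu)
      obtain ⟨v, hv, hve⟩ := hlift _ h1
      set z := v⁻¹ * (g⁻¹ * u * g) with hz
      have hzk : z ∈ Subgroup.center Spm := hker (MonoidHom.mem_ker.2 (by
        rw [hz, map_mul, map_inv, hve]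
        simp only [map_mul, map_inv]
        group))
      obtain ⟨e₁, he₁⟩ := hpU ⟨u, hu⟩
      obtain ⟨e₂, he₂⟩ := hpU ⟨v, hv⟩
      have hu1 : u ^ (p ^ (e₁ + e₂)) = 1 := by
        rw [pow_add, pow_mul, show u ^ p ^ e₁ = 1 from congrArg Subtype.val he₁, one_pow]
      have hv1 : v ^ (p ^ (e₁ + e₂)) = 1 := by
        rw [add_comm, pow_add, pow_mul, show v ^ p ^ e₂ = 1 from congrArg Subtype.val he₂, one_pow]
      have hvz : g⁻¹ * u * g = v * z := by rw [hz]; group
      have h2 : (g⁻¹ * u * g) ^ (p ^ (e₁ + e₂)) = 1 := by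
        have h := _root_.conj_pow (i := p ^ (e₁ + e₂)) (a := g⁻¹) (b := u)
        rw [inv_inv] at h
        rw [h, hu1]; group
      rw [hvz, (show Commute v z from Subgroup.mem_center_iff.1 hzk v).mul_pow, hv1, one_mul] at h2
      rw [hvz, center_pow_eq_one hzk h2, mul_one]
      exact hv
    obtain ⟨A, B, rfl, hup⟩ := exists_lev_up_of_normalizes hgU
    have hdet : A.val.det ≠ 0 := (Matrix.GeneralLinearGroup.det A).ne_zero
    have hdiag : ∀ i, A.val i i ≠ 0 := fun i h => by
      rw [Cfsg.Agent.Linear.blockTriangular_det (fun x y h => hup x y h)] at hdet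
      exact hdet (Finset.prod_eq_zero (Finset.mem_univ i) h)
    set d : Fin m → Kˣ := fun i => Units.mk0 _ (hdiag i) with hd
    have hdu : (dg d)⁻¹ * A ∈ Cfsg.Agent.Linear.unitriGL m K := by
      refine mem_Un.2 ⟨fun x y hxy => ?_, fun i => ?_⟩
      · rw [Units.val_mul, dg_inv_val, Matrix.diagonal_mul, hup x y hxy, mul_zero]
      · rw [Units.val_mul, dg_inv_val, Matrix.diagonal_mul, hd]
        simp [hdiag i]
    have hgJ : lev A * up B ∈ J := by
      rw [show lev A = lev (dg d) * lev ((dg d)⁻¹ * A) by rw [← map_mul, mul_inv_cancel_left]]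
      exact mul_mem (mul_mem (hJdg d) (hJU _ (lev_mem_U hdu))) (hJU _ (up_mem_U B))
    obtain ⟨⟨y, hy⟩, hyJ, hye⟩ := hgJ
    have hye' : y = π (lev A * up B) := hye
    subst hye'
    exact hyJ

end Cfsg.Agent.H89.SpSylow
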