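import Cfsg.Agent.H89.SpFusion

/-!
The radical of the stabiliser of a point in `Sp_{2m}` inside the Sylow subgroup.
-/

set_option autoImplicit false

namespace Cfsg.Agent.H89.SpSylow

open Matrix
open scoped Pointwise

variable {m : ℕ} {K : Type*} [Field K] {a : Fin m}

local notation "Spm" => Matrix.symplecticGroup (Fin m) K
local notation "Un" => Cfsg.Agent.Linear.unitriGL m K

/-- Generators: row root elements and radical elements in the row and column of `a`. -/
def Qgen (a : Fin m) : Set Spm :=
  {g | ∃ (k : Fin m) (h : a ≠ k) (c : K), g = lev (tg h c)} ∪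
    {g | ∃ B : sym m K, (∀ x y, x ≠ a → y ≠ a → B.1 x y = 0) ∧ g = up B}

/-- The radical of the point stabiliser. -/
def Qr (a : Fin m) : Subgroup Spm := Subgroup.closure (Qgen a)

theorem tg_mem_Qr {k : Fin m} (h : a ≠ k) (c : K) : lev (tg h c) ∈ Qr (K := K) a :=
  Subgroup.subset_closure (Or.inl ⟨k, h, c, rfl⟩)

theorem up_mem_Qr {B : sym m K} (hB : ∀ x y, x ≠ a → y ≠ a → B.1 x y = 0) : up B ∈ Qr (K := K) a :=
  Subgroup.subset_closure (Or.inr ⟨B, hB, rfl⟩)

theorem sd_supp (c : K) : ∀ x y, x ≠ a → y ≠ a → (sd a c).1 x y = 0 := fun x y hx _ => by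
  rw [sd_val, Matrix.single_apply, if_neg fun e => hx e.1.symm]

theorem so_supp (k : Fin m) (c : K) : ∀ x y, x ≠ a → y ≠ a → (so a k c).1 x y = 0 := fun x y hx hy => by
  rw [so_val, Matrix.add_apply, Matrix.single_apply, Matrix.single_apply,
    if_neg fun e => hx e.1.symm, if_neg fun e => hy e.2.symm, add_zero]

theorem row_mem_Qr {A : GL (Fin m) K} (hrow : ∀ x y, x ≠ a → A.val x y = (1 : Matrix (Fin m) (Fin m) K) x y)
    (hd : A.val a a = 1) : lev A ∈ Qr (K := K) a := by
  suffices key : ∀ (s : Finset (Fin m)) (A : GL (Fin m) K),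
      (∀ x y, x ≠ a → A.val x y = (1 : Matrix (Fin m) (Fin m) K) x y) → A.val a a = 1 →
      (∀ y, y ∉ s → y ≠ a → A.val a y = 0) → lev A ∈ Qr (K := K) a from
    key Finset.univ A hrow hd fun y hy => absurd (Finset.mem_univ y) hy
  intro s
  induction s using Finset.induction_on with
  | empty =>
    intro A hr hd hz
    rw [show A = 1 from Units.ext (Matrix.ext fun x y => ?_), map_one]
    · exact one_mem _
    · rcases eq_or_ne x a with rfl | hx
      · rcases eq_or_ne y x with rfl | hy
        · rw [hd, Units.val_one, one_apply_eq]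
        · rw [hz y (Finset.notMem_empty y) hy, Units.val_one, one_apply_ne hy.symm]
      · rw [hr x y hx, Units.val_one]
  | insert k s hks ih =>
    intro A hr hd hz
    rcases eq_or_ne a k with rfl | hk
    · refine ih A hr hd fun y hy hya => hz y (fun e => ?_) hya
      rcases Finset.mem_insert.1 e with e | e
      · exact hya e
      · exact hy e
    set A' := tg hk (-A.val a k) * A with hA'
    have hval : ∀ x y, A'.val x y = A.val x y + if x = a then -A.val a k * A.val k y else 0 := by
      intro x y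
      rw [hA', Units.val_mul, tg_val, Matrix.add_mul, Matrix.one_mul, Matrix.add_apply]
      by_cases hx : x = a
      · subst hx; rw [single_mul_apply_same, if_pos rfl]
      · rw [single_mul_apply_of_ne _ _ _ _ _ hx, if_neg hx]
    have h1 : lev A' ∈ Qr (K := K) a := by
      refine ih A' (fun x y hx => by rw [hval, if_neg hx, add_zero, hr x y hx]) ?_ fun y hy hya => ?_
      · rw [hval, hr k a hk.symm, one_apply_ne hk.symm, mul_zero, if_pos rfl, add_zero, hd]
      · rw [hval, if_pos rfl, hr k y hk.symm]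
        rcases eq_or_ne k y with rfl | hky
        · rw [one_apply_eq]; ring
        · rw [one_apply_ne hky, mul_zero, add_zero,
            hz y (fun e => (Finset.mem_insert.1 e).elim (fun e => hky e.symm) hy) hya]
    rw [show A = tg hk (A.val a k) * A' by
      rw [hA', ← mul_assoc, ← tg_inv, mul_inv_cancel, one_mul], map_mul]
    exact mul_mem (tg_mem_Qr hk _) h1

theorem Qr_le_U (ha : ∀ k, a ≤ k) : Qr (K := K) a ≤ U m K := by
  refine (Subgroup.closure_le _).2 ?_
  rintro g (⟨k, h, c, rfl⟩ | ⟨B, -, rfl⟩)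
  · exact lev_mem_U (tg_mem_Un (lt_of_le_of_ne (ha k) h) c)
  · exact up_mem_U B

theorem U_normalizes_Qr (ha : ∀ k, a ≤ k) {u q : Spm} (hu : u ∈ U m K) (hq : q ∈ Qr (K := K) a) :
    u * q * u⁻¹ ∈ Qr a := by
  have hAx : ∀ {A : GL (Fin m) K}, A ∈ Un → ∀ x, x ≠ a → A.val x a = 0 := fun hA x hx =>
    (mem_Un.1 hA).1 x a (lt_of_le_of_ne (ha x) hx.symm)
  suffices h : Qr (K := K) a ≤ (Qr (K := K) a).comap (MulAut.conj u).toMonoidHom from h hq
  refine (Subgroup.closure_le _).2 ?_
  obtain ⟨A, hA, C, rfl⟩ := mem_U.1 hu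
  rintro g (⟨k, h, c, rfl⟩ | ⟨B, hB, rfl⟩) <;>
    show lev A * up C * _ * (lev A * up C)⁻¹ ∈ Qr a
  · -- the radical part moves the root element inside, then the Levi part moves rows to rows
    have h1 : congr (tg h c)⁻¹ C - C ∈ {B : sym m K | ∀ x y, x ≠ a → y ≠ a → B.1 x y = 0} := by
      intro x y hx hy
      rw [AddSubgroup.coe_sub, Matrix.sub_apply, tg_inv, congr_tg_val, Matrix.add_apply, Matrix.add_apply,
        Matrix.add_apply, single_mul_apply_of_ne _ _ _ _ _ hx, mul_single_apply_of_ne _ _ _ _ _ hy,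
        mul_single_apply_of_ne _ _ _ _ _ hy]
      ring
    have e : lev A * up C * lev (tg h c) * (lev A * up C)⁻¹ =
        lev (A * tg h c * A⁻¹) * up (congr A (congr (tg h c)⁻¹ C - C)) := by
      rw [← lev_conj_up, sub_eq_add_neg, up_add, up_neg, map_mul, map_mul, map_inv,
        mul_assoc (lev A) (up C), up_mul_lev]
      group
    rw [e]
    refine mul_mem (row_mem_Qr (fun x y hx => ?_) ?_) (up_mem_Qr fun x y hx hy => ?_)
    · rw [Units.val_mul, Units.val_mul, tg_val, Matrix.mul_add, Matrix.mul_one, Matrix.add_mul,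
        Matrix.add_apply, Units.mul_inv, Matrix.mul_apply (M := A.val * single a k c)]
      rw [Finset.sum_eq_zero fun l _ => ?_, add_zero]
      rcases eq_or_ne l k with rfl | hl
      · rw [mul_single_apply_same, hAx hA x hx, zero_mul, zero_mul]
      · rw [mul_single_apply_of_ne _ _ _ _ _ hl, zero_mul]
    · have hU : A * tg h c * A⁻¹ ∈ Un :=
        mul_mem (mul_mem hA (tg_mem_Un (lt_of_le_of_ne (ha k) h) c)) (inv_mem hA)
      exact (mem_Un.1 hU).2 a
    · rw [congr_val, Matrix.mul_apply]
      refine Finset.sum_eq_zero fun l _ => ?_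
      rw [transpose_apply]
      rcases eq_or_ne l a with rfl | hl
      · rw [hAx hA y hy, mul_zero]
      · rw [Matrix.mul_apply, Finset.sum_mul]
        refine Finset.sum_eq_zero fun j _ => ?_
        rcases eq_or_ne j a with rfl | hj
        · rw [hAx hA x hx, zero_mul, zero_mul]
        · rw [h1 j l hj hl, mul_zero, zero_mul]
  · have e : lev A * up C * up B * (lev A * up C)⁻¹ = up (congr A B) := by
      rw [mul_assoc (lev A), (up_commute C B).eq, ← lev_conj_up]; group
    rw [e]
    refine up_mem_Qr fun x y hx hy => ?_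
    rw [congr_val, Matrix.mul_apply]
    refine Finset.sum_eq_zero fun l _ => ?_
    rw [transpose_apply]
    rcases eq_or_ne l a with rfl | hl
    · rw [hAx hA y hy, mul_zero]
    · rw [Matrix.mul_apply, Finset.sum_mul]
      refine Finset.sum_eq_zero fun j _ => ?_
      rcases eq_or_ne j a with rfl | hj
      · rw [hAx hA x hx, zero_mul, zero_mul]
      · rw [hB j l hj hl, mul_zero, zero_mul]

theorem mem_Qr_of_centralizes (ha : ∀ k, a ≤ k) {u : Spm} (hu : u ∈ U m K)
    (hc : ∀ q ∈ Qr (K := K) a, q * u = u * q) : u ∈ Qr a := by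
  obtain ⟨A, hA, B, rfl⟩ := mem_U.1 hu
  have hA' := mem_Un.1 hA
  have hup : ∀ C : sym m K, up C ∈ Qr (K := K) a → congr A C = C := by
    intro C hC
    apply up_injective
    rw [← lev_conj_up]
    calc lev A * up C * (lev A)⁻¹ = lev A * up B * up C * (up B)⁻¹ * (lev A)⁻¹ := by
          rw [mul_assoc (lev A) (up B), (up_commute B C).eq]; group
      _ = up C := by rw [← hc _ hC]; group
  have hr : ∀ x y, x ≠ a → A.val x y = (1 : Matrix (Fin m) (Fin m) K) x y := by
    intro x y hx
    have hxa : A.val x a = 0 := hA'.1 x a (lt_of_le_of_ne (ha x) hx.symm)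
    rcases eq_or_ne y a with rfl | hy
    · rw [hxa, one_apply_ne hx]
    · have := congrFun (congrFun (congrArg Subtype.val
        (hup _ (up_mem_Qr (so_supp y (1 : K))))) a) x
      rw [congr_val, so_val, Matrix.mul_apply] at this
      have hT : ∀ l : Fin m,
          (A.val * ((single a y (1 : K) + single y a 1) : Matrix (Fin m) (Fin m) K) : Matrix (Fin m) (Fin m) K) a l =
          (if l = y then 1 else 0) + if l = a then A.val a y else 0 := by
        intro l
        rw [Matrix.mul_add, Matrix.add_apply]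
        congr 1
        · split_ifs with hl
          · subst hl; rw [mul_single_apply_same, hA'.2, one_mul]
          · rw [mul_single_apply_of_ne _ _ _ _ _ hl]
        · split_ifs with hl
          · subst hl; rw [mul_single_apply_same, mul_one]
          · rw [mul_single_apply_of_ne _ _ _ _ _ hl]
      simp only [hT, transpose_apply, add_mul, Finset.sum_add_distrib, ite_mul, one_mul, zero_mul,
        Finset.sum_ite_eq', Finset.mem_univ, if_true, hxa, mul_zero, add_zero] at this
      rw [this, Matrix.add_apply, Matrix.single_apply, Matrix.single_apply, Matrix.one_apply]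
      simp [eq_comm, hy, Ne.symm hy]
  have hl : lev A ∈ Qr (K := K) a := row_mem_Qr hr (hA'.2 a)
  refine mul_mem hl (up_mem_Qr fun x y hx hy => ?_)
  have hc' : lev A * lev (tg hx.symm (1 : K)) = lev (tg hx.symm 1) * lev A := by
    rw [← map_mul, ← map_mul]
    congr 1
    refine Units.ext ?_
    rw [Units.val_mul, Units.val_mul, tg_val, Matrix.mul_add, Matrix.add_mul, Matrix.one_mul,
      Matrix.mul_one]
    congr 1
    refine Matrix.ext fun s t => ?_
    rcases eq_or_ne t x with rfl | ht
    · rw [mul_single_apply_same, mul_one]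
      rcases eq_or_ne s a with rfl | hs
      · rw [single_mul_apply_same, one_mul, hA'.2, hA'.2]
      · rw [single_mul_apply_of_ne _ _ _ _ _ hs, hr s a hs, one_apply_ne hs]
    · rw [mul_single_apply_of_ne _ _ _ _ _ ht]
      rcases eq_or_ne s a with rfl | hs
      · rw [single_mul_apply_same, hr x t hx, one_apply_ne ht.symm, mul_zero]
      · rw [single_mul_apply_of_ne _ _ _ _ _ hs]
  have h2 : congr (tg hx.symm (1 : K)) B = B := by
    apply up_injective
    rw [← lev_conj_up]
    have h3 := hc _ (tg_mem_Qr hx.symm (1 : K))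
    have h4 : up B * lev (tg hx.symm (1 : K)) = lev (tg hx.symm 1) * up B := by
      apply mul_left_cancel (a := lev A)
      rw [← mul_assoc, ← h3, ← mul_assoc (lev A), hc', mul_assoc]
    rw [← h4, mul_inv_cancel_right]
  have h3 := congrFun (congrFun (congrArg Subtype.val h2) a) y
  rw [tg_congr_row hx.symm hy, one_mul] at h3
  exact add_eq_left.1 h3

theorem wj_normalizes_Qr {b : Fin m} (hab : a ≠ b) {q : Spm} (hq : q ∈ Qr (K := K) a) :
    wj b * q * (wj b)⁻¹ ∈ Qr a := by
  suffices h : Qr (K := K) a ≤ (Qr (K := K) a).comap (MulAut.conj (wj (K := K) b)).toMonoidHom from h hq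
  refine (Subgroup.closure_le _).2 ?_
  rintro g (⟨k, h, c, rfl⟩ | ⟨B, hB, rfl⟩) <;> show wj b * _ * (wj b)⁻¹ ∈ Qr a
  · rcases eq_or_ne k b with rfl | hk
    · rw [wj_mul_lev_tg, mul_inv_cancel_right]
      exact up_mem_Qr (so_supp k c)
    · rw [(wj_commute_tg h hab hk c).eq, mul_inv_cancel_right]
      exact tg_mem_Qr h c
  · set C : sym m K := B - so a b (B.1 a b) with hC
    have hsB : B.1 b a = B.1 a b := congrFun (congrFun (mem_sym.1 B.2) a) b
    have h1 : single b b (1 : K) * C.1 = 0 := by
      refine Matrix.ext fun x y => ?_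
      rcases eq_or_ne x b with rfl | hx
      · rw [single_mul_apply_same, one_mul, hC, AddSubgroup.coe_sub, Matrix.sub_apply, so_val,
          Matrix.add_apply, Matrix.single_apply, Matrix.single_apply, Matrix.zero_apply,
          if_neg fun e => hab e.1, zero_add]
        rcases eq_or_ne y a with rfl | hy
        · rw [if_pos ⟨rfl, rfl⟩, hsB, sub_self]
        · rw [if_neg fun e => hy e.2.symm, hB x y hab.symm hy, sub_zero]
      · rw [single_mul_apply_of_ne _ _ _ _ _ hx, Matrix.zero_apply]
    have hCs : ∀ x y, x ≠ a → y ≠ a → C.1 x y = 0 := fun x y hx hy => by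
      rw [hC, AddSubgroup.coe_sub, Matrix.sub_apply, hB x y hx hy, so_supp b _ x y hx hy, sub_zero]
    rw [show B = so a b (B.1 a b) + C by rw [hC]; abel, up_add,
      show wj b * (up (so a b (B.1 a b)) * up C) * (wj b)⁻¹ =
        (wj b * up (so a b (B.1 a b)) * (wj b)⁻¹) * (wj b * up C * (wj b)⁻¹) by group,
      wj_mul_up_so hab, mul_inv_cancel_right, (wj_commute_up h1).eq, mul_inv_cancel_right]
    exact mul_mem (tg_mem_Qr hab _) (up_mem_Qr hCs)

end Cfsg.Agent.H89.SpSylow
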