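import Cfsg.Agent.H89.Thirteen24
import Cfsg.Agent.H41.Basic

/-!
Groups of type M(24): the normaliser of a subgroup of order thirteen and the joint centraliser of the
six members it centralises.
-/

set_option autoImplicit false
set_option linter.unusedSectionVars false
set_option linter.style.haveILetI false

namespace Cfsg.Agent.H89.Thirteen24

open Cfsg.Agent.H93 Cfsg.Agent.H61.M24

variable {G : Type*} [Group G] [Finite G] {D : Set G} (h : Geo24 D) {X : Subgroup G}
  (hX : Nat.card X = 13)

include h hX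

theorem sq_not_dvd {a : G} (ha : a ∈ D) :
    ¬ 13 ^ 2 ∣ Nat.card ↥(Subgroup.centralizer ({a} : Set G)) := by
  rw [h.card_member ha]; norm_num

/-- the normaliser is transitive on the centralised members -/
theorem exists_move {a b : G} (ha : a ∈ fixSet D X) (hb : b ∈ fixSet D X) :
    ∃ n ∈ Subgroup.normalizer (X : Set G), n * a * n⁻¹ = b := by
  haveI : Fact (Nat.Prime 13) := ⟨by norm_num⟩
  obtain ⟨g, hg⟩ := isConj_iff.mp (h.data.core.cls a ha.1 b hb.1)
  set Y := X.map (MulAut.conj g).toMonoidHom with hY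
  have hYb : Y ≤ Subgroup.centralizer ({b} : Set G) := by
    rintro _ ⟨x, hx, rfl⟩
    rw [← hg]
    exact Subgroup.mem_centralizer_singleton_iff.mpr
      (commute_conj.mpr ((mem_fix.mp ha).2 x hx)).eq
  obtain ⟨j, hj, e⟩ := prime_conj_in (p := 13) hYb (le_cent h hX hb)
    (by rw [Subgroup.card_map_of_injective (MulAut.conj g).injective, hX]) hX (sq_not_dvd h hX hb.1)
  have hjb : j * b * j⁻¹ = b :=
    mul_inv_eq_iff_eq_mul.mpr (Subgroup.mem_centralizer_singleton_iff.mp hj)
  refine ⟨j * g, ?_, by rw [show j * g * a * (j * g)⁻¹ = j * (g * a * g⁻¹) * j⁻¹ by group, hg, hjb]⟩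
  rw [Subgroup.map_map] at e
  have e' : X.map (MulAut.conj (j * g)).toMonoidHom = X := by rw [map_mul]; exact e
  refine Subgroup.mem_normalizer_iff.mpr fun x => ⟨fun hx => ?_, fun hx => ?_⟩
  · have := Subgroup.mem_map_of_mem (MulAut.conj (j * g)).toMonoidHom hx
    rwa [e'] at this
  · have hx' : j * g * x * (j * g)⁻¹ ∈ X.map (MulAut.conj (j * g)).toMonoidHom := by rwa [e']
    obtain ⟨x', hx', e''⟩ := hx'
    exact (mul_left_cancel (mul_right_cancel e'') : x' = x) ▸ hx'

/-- the order of the normaliser -/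
theorem card_normalizer : Nat.card ↥(Subgroup.normalizer (X : Set G)) = 5616 := by
  obtain ⟨a, ha⟩ : (fixSet D X).Nonempty :=
    Set.nonempty_of_ncard_ne_zero (by rw [card_fix h hX]; norm_num)
  rw [card_orbit_conj _ (fixSet D X) ha
    (fun g hg y hy => Geo24.fixed_conj h.data.core.tt hg hy) (fun y hy => exists_move h hX ha hy),
    card_fix h hX, (local_counts h hX ha).2]

section Frame

variable {a b c d : G} (ha : a ∈ fixSet D X) (hb : b ∈ fixSet D X) (hc : c ∈ fixSet D X)
  (hd : d ∈ fixSet D X) (had : ¬ Commute a d) (hbc : ¬ Commute b c) (hab : Commute a b)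
  (hac : Commute a c) (hdb : Commute d b) (hdc : Commute d c)

include ha hb hc hd had hbc hab hac hdb hdc

/-- what lies between the centraliser and the normaliser meets the four centralisers in a twelfth -/
theorem twelfth {H : Subgroup G} (hC : Subgroup.centralizer (X : Set G) ≤ H)
    (hN : H ≤ Subgroup.normalizer (X : Set G)) :
    Nat.card ↥(H ⊓ Subgroup.centralizer ({a} : Set G)) =
      12 * Nat.card ↥(H ⊓ Subgroup.centralizer ({a, b, c, d} : Set G)) := by
  classical
  have htt := h.data.core.tt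
  have hfix := fix_eq h hX ha hb hc hd had hbc hab hac hdb hdc
  have sw : ∀ {p q : G}, p ∈ D → p * q * p⁻¹ = p * q * p := fun {p q} hp => by rw [htt.inv_eq hp]
  have inH : ∀ {p}, p ∈ fixSet D X → p ∈ H := fun {p} hp => hC hp.2
  have fixes : ∀ {g t : G}, g ∈ Subgroup.centralizer ({t} : Set G) → g * t * g⁻¹ = t := fun hg =>
    mul_inv_eq_iff_eq_mul.mpr (Subgroup.mem_centralizer_singleton_iff.mp hg)
  have cent : ∀ {g t : G}, Commute g t → g ∈ Subgroup.centralizer ({t} : Set G) := fun q =>
    Subgroup.mem_centralizer_singleton_iff.mpr q.eq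
  have inj : ∀ {g p q : G}, g * p * g⁻¹ = g * q * g⁻¹ → p = q := fun e =>
    mul_left_cancel (mul_right_cancel e)
  have mem2 : ∀ {p q}, p ∈ fixSet D X → q ∈ fixSet D X → p * q * p ∈ fixSet D X :=
    fun {p q} hp hq => ⟨htt.conj_self_mem hp.1 hq.1, mul_mem (mul_mem hp.2 hq.2) hp.2⟩
  have ne2 : ∀ {p q}, p ∈ D → q ∈ D → ¬ Commute p q → q ≠ p * q * p := fun {p q} hp hq hn e => hn (by
    calc p * q = p * q * (p * p) := by rw [htt.sq p hp, mul_one]
      _ = (p * q * p) * p := by group
      _ = q * p := by rw [← e])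
  have nc2 : ∀ {p q}, p ∈ D → q ∈ D → ¬ Commute p q → ¬ Commute p (p * q * p) := fun {p q} hp hq hn e =>
    hn (by
      have := ((Commute.refl p).mul_right e).mul_right (Commute.refl p)
      rwa [show p * (p * q * p) * p = (p * p) * q * (p * p) by group, htt.sq p hp, one_mul, mul_one]
        at this)
  -- the pair not commuting with a
  have e1 := card_orbit_conj (H ⊓ Subgroup.centralizer ({a} : Set G)) {d, a * d * a} (d := d)
    (Or.inl rfl) (fun g hg y hy => ?_) fun y hy => ?_
  rotate_left
  · have hyf : y ∈ fixSet D X := by rcases hy with rfl | rfl; exacts [hd, mem2 ha hd]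
    have hny : ¬ Commute a y := by rcases hy with rfl | rfl; exacts [had, nc2 ha.1 hd.1 had]
    have hm := Geo24.fixed_conj htt (hN hg.1) hyf
    have hn' : ¬ Commute a (g * y * g⁻¹) := fun q => hny (by
      rw [← fixes hg.2] at q; exact commute_conj.mp q)
    change g * y * g⁻¹ ∈ fixSet D X at hm
    rw [hfix] at hm
    rcases hm with (e | e | e) | (e | e | e) <;> rw [e] at hn' ⊢
    exacts [absurd (Commute.refl a) hn', Or.inl rfl, Or.inr rfl, absurd hab hn', absurd hac hn',
      absurd ((hab.mul_right hac).mul_right hab) hn']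
  · rcases hy with e | e <;> rw [e]
    · exact ⟨1, one_mem _, by group⟩
    · exact ⟨a, ⟨inH ha, cent (Commute.refl a)⟩, sw ha.1⟩
  -- the line commuting with a and d
  set H2 := H ⊓ Subgroup.centralizer ({a} : Set G) ⊓ Subgroup.centralizer ({d} : Set G) with hH2
  have e2 := card_orbit_conj H2 {b, c, b * c * b} (d := b)
    (Or.inl rfl) (fun g hg y hy => ?_) fun y hy => ?_
  rotate_left
  · have hyf : y ∈ fixSet D X := by rcases hy with rfl | rfl | rfl; exacts [hb, hc, mem2 hb hc]
    have hay : Commute a y ∧ Commute d y := by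
      rcases hy with rfl | rfl | rfl
      exacts [⟨hab, hdb⟩, ⟨hac, hdc⟩, ⟨(hab.mul_right hac).mul_right hab, (hdb.mul_right hdc).mul_right hdb⟩]
    have hm := Geo24.fixed_conj htt (hN hg.1.1) hyf
    have hca : Commute a (g * y * g⁻¹) := by rw [← fixes hg.1.2]; exact commute_conj.mpr hay.1
    have hcd : Commute d (g * y * g⁻¹) := by rw [← fixes hg.2]; exact commute_conj.mpr hay.2
    change g * y * g⁻¹ ∈ fixSet D X at hm
    rw [hfix] at hm
    rcases hm with (e | e | e) | e
    · rw [e] at hcd; exact absurd hcd.symm had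
    · rw [e] at hca; exact absurd hca had
    · rw [e] at hca; exact absurd hca (nc2 ha.1 hd.1 had)
    · exact e
  · have hT : ∀ {g}, g ∈ fixSet D X → Commute g a → Commute g d → g ∈ H2 := fun hg q q' =>
      ⟨⟨inH hg, cent q⟩, cent q'⟩
    rcases hy with e | e | e <;> rw [e]
    · exact ⟨1, one_mem _, by group⟩
    · refine ⟨b * c, mul_mem (hT hb hab.symm hdb.symm) (hT hc hac.symm hdc.symm), ?_⟩
      rw [mul_inv_rev, htt.inv_eq hc.1, htt.inv_eq hb.1,
        show b * c * b * (c * b) = b * (c * b * c) * b by group, ← htt.braid hb.1 hc.1 hbc,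
        show b * (b * c * b) * b = (b * b) * c * (b * b) by group, htt.sq b hb.1, one_mul, mul_one]
    · refine ⟨c, hT hc hac.symm hdc.symm, ?_⟩
      rw [sw hc.1, htt.braid hb.1 hc.1 hbc]
  -- the last two
  set H3 := H2 ⊓ Subgroup.centralizer ({b} : Set G) with hH3
  have e3 := card_orbit_conj H3 {c, b * c * b} (d := c)
    (Or.inl rfl) (fun g hg y hy => ?_) fun y hy => ?_
  rotate_left
  · have hyf : y ∈ fixSet D X := by rcases hy with rfl | rfl; exacts [hc, mem2 hb hc]
    have hay : Commute a y ∧ Commute d y := by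
      rcases hy with rfl | rfl
      exacts [⟨hac, hdc⟩, ⟨(hab.mul_right hac).mul_right hab, (hdb.mul_right hdc).mul_right hdb⟩]
    have hny : ¬ Commute b y := by rcases hy with rfl | rfl; exacts [hbc, nc2 hb.1 hc.1 hbc]
    have hm := Geo24.fixed_conj htt (hN hg.1.1.1) hyf
    have hca : Commute a (g * y * g⁻¹) := by rw [← fixes hg.1.1.2]; exact commute_conj.mpr hay.1
    have hcd : Commute d (g * y * g⁻¹) := by rw [← fixes hg.1.2]; exact commute_conj.mpr hay.2
    have hn' : ¬ Commute b (g * y * g⁻¹) := fun q => hny (by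
      rw [← fixes hg.2] at q; exact commute_conj.mp q)
    change g * y * g⁻¹ ∈ fixSet D X at hm
    rw [hfix] at hm
    rcases hm with (e | e | e) | (e | e | e)
    · rw [e] at hcd; exact absurd hcd.symm had
    · rw [e] at hca; exact absurd hca had
    · rw [e] at hca; exact absurd hca (nc2 ha.1 hd.1 had)
    · rw [e] at hn'; exact absurd (Commute.refl b) hn'
    · exact Or.inl e
    · exact Or.inr e
  · rcases hy with e | e <;> rw [e]
    · exact ⟨1, one_mem _, by group⟩
    · exact ⟨b, ⟨⟨⟨inH hb, cent hab.symm⟩, cent hdb.symm⟩, cent (Commute.refl b)⟩, sw hb.1⟩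
  rw [Set.ncard_pair (ne2 ha.1 hd.1 had)] at e1
  rw [Set.ncard_pair (ne2 hb.1 hc.1 hbc)] at e3
  have n3 : ({b, c, b * c * b} : Set G).ncard = 3 := by
    rw [Set.ncard_insert_of_notMem, Set.ncard_pair (ne2 hb.1 hc.1 hbc)]
    rintro (e | e)
    · exact hbc (e ▸ Commute.refl b)
    · exact hbc (by
        have : c * b = 1 := mul_left_cancel (a := b) (by rw [← mul_assoc, ← e, mul_one])
        rw [(mul_eq_one_iff_eq_inv.mp this).trans (htt.inv_eq hb.1)])
  rw [n3] at e2
  rw [e1, e2, e3]
  have : H3 ⊓ Subgroup.centralizer ({c} : Set G) =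
      H ⊓ Subgroup.centralizer ({a, b, c, d} : Set G) := by
    ext g
    simp only [hH3, hH2, Subgroup.mem_inf, Subgroup.mem_centralizer_iff, Set.mem_insert_iff,
      Set.mem_singleton_iff, forall_eq_or_imp, forall_eq]
    tauto
  rw [this]
  ring

/-- the normaliser inside the joint centraliser -/
theorem card_cap :
    Nat.card ↥(Subgroup.centralizer ({a, b, c, d} : Set G) ⊓ Subgroup.normalizer (X : Set G)) = 78 ∧
      Subgroup.centralizer ({a, b, c, d} : Set G) ⊓ Subgroup.centralizer (X : Set G) = X := by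
  obtain ⟨c1, c2⟩ := local_counts h hX ha
  have n1 := twelfth h hX ha hb hc hd had hbc hab hac hdb hdc (H := Subgroup.normalizer (X : Set G))
    Geo22.cent_le_normalizer le_rfl
  have n2 := twelfth h hX ha hb hc hd had hbc hab hac hdb hdc (H := Subgroup.centralizer (X : Set G))
    le_rfl Geo22.cent_le_normalizer
  rw [c2] at n1
  rw [c1] at n2
  refine ⟨by rw [inf_comm]; omega, ?_⟩
  haveI : Fact (Nat.Prime 13) := ⟨by norm_num⟩
  haveI := isCyclic_of_prime_card hX
  letI := IsCyclic.commGroup (α := ↥X)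
  refine (Subgroup.eq_of_le_of_card_ge (le_inf (fun x hx => Subgroup.mem_centralizer_iff.mpr ?_)
    fun x hx => Subgroup.mem_centralizer_iff.mpr fun y hy =>
      congrArg Subtype.val (mul_comm (⟨y, hy⟩ : ↥X) ⟨x, hx⟩)) ?_).symm
  · rintro t (rfl | rfl | rfl | rfl)
    exacts [((mem_fix.mp ha).2 x hx).symm.eq, ((mem_fix.mp hb).2 x hx).symm.eq,
      ((mem_fix.mp hc).2 x hx).symm.eq, ((mem_fix.mp hd).2 x hx).symm.eq]
  · rw [inf_comm, hX]; omega

/-- the four members generate what all six generate -/
theorem closure_fix :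
    Subgroup.closure (fixSet D X) = Subgroup.closure ({a, b, c, d} : Set G) := by
  refine le_antisymm ?_ (Subgroup.closure_mono ?_)
  · rw [Subgroup.closure_le, fix_eq h hX ha hb hc hd had hbc hab hac hdb hdc]
    have ma : a ∈ Subgroup.closure ({a, b, c, d} : Set G) := Subgroup.subset_closure (by simp)
    have mb : b ∈ Subgroup.closure ({a, b, c, d} : Set G) := Subgroup.subset_closure (by simp)
    have mc : c ∈ Subgroup.closure ({a, b, c, d} : Set G) := Subgroup.subset_closure (by simp)
    have md : d ∈ Subgroup.closure ({a, b, c, d} : Set G) := Subgroup.subset_closure (by simp)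
    rintro x ((rfl | rfl | rfl) | (rfl | rfl | rfl))
    exacts [ma, md, mul_mem (mul_mem ma md) ma, mb, mc, mul_mem (mul_mem mb mc) mb]
  · rintro x (rfl | rfl | rfl | rfl) <;> assumption

/-- the normaliser normalises the joint centraliser -/
theorem normalizer_le : Subgroup.normalizer (X : Set G) ≤
    Subgroup.normalizer ((Subgroup.centralizer ({a, b, c, d} : Set G) : Subgroup G) : Set G) := by
  have hfix := fix_eq h hX ha hb hc hd had hbc hab hac hdb hdc
  have key : ∀ n ∈ Subgroup.normalizer (X : Set G), ∀ g ∈ Subgroup.centralizer ({a, b, c, d} : Set G),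
      n * g * n⁻¹ ∈ Subgroup.centralizer ({a, b, c, d} : Set G) := by
    intro n hn g hg
    have hall : ∀ t ∈ fixSet D X, t * g = g * t := by
      intro t ht
      have hle : Subgroup.closure (fixSet D X) ≤ Subgroup.centralizer ({g} : Set G) := by
        rw [closure_fix h hX ha hb hc hd had hbc hab hac hdb hdc, Subgroup.closure_le]
        exact fun t ht => Subgroup.mem_centralizer_singleton_iff.mpr
          (Subgroup.mem_centralizer_iff.mp hg t ht)
      exact Subgroup.mem_centralizer_singleton_iff.mp (hle (Subgroup.subset_closure ht))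
    refine Subgroup.mem_centralizer_iff.mpr fun t ht => ?_
    have htf : t ∈ fixSet D X := by rcases ht with rfl | rfl | rfl | rfl <;> assumption
    have hm : n⁻¹ * t * n⁻¹⁻¹ ∈ fixSet D X := Geo24.fixed_conj h.data.core.tt (inv_mem hn) htf
    have q := hall _ hm
    rw [inv_inv] at q
    calc t * (n * g * n⁻¹) = n * ((n⁻¹ * t * n) * g) * n⁻¹ := by group
      _ = n * (g * (n⁻¹ * t * n)) * n⁻¹ := by rw [q]
      _ = n * g * n⁻¹ * t := by group
  intro n hn
  refine Subgroup.mem_normalizer_iff.mpr fun g => ⟨key n hn g, fun hg => ?_⟩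
  have := key n⁻¹ (inv_mem hn) _ hg
  rwa [show n⁻¹ * (n * g * n⁻¹) * n⁻¹⁻¹ = g by group] at this

/-- the index of the product -/
theorem index_two {T K : Subgroup G} (hT : T = Subgroup.closure ({a, b, c, d} : Set G))
    (hK : K = Subgroup.centralizer (T : Set G)) :
    (((K ⊓ Subgroup.normalizer (X : Set G)) ⊔ T).subgroupOf
      (Subgroup.normalizer (X : Set G))).index = 2 := by
  have hK' : K = Subgroup.centralizer ({a, b, c, d} : Set G) := by
    rw [hK, hT, Subgroup.centralizer_closure]
  set S1 := Subgroup.closure ({a, d} : Set G) with hS1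
  set S2 := Subgroup.closure ({b, c} : Set G) with hS2
  have htt := h.data.core.tt
  have comm_closure : ∀ {A B : Set G}, (∀ x ∈ A, ∀ y ∈ B, Commute x y) →
      ∀ x ∈ Subgroup.closure A, ∀ y ∈ Subgroup.closure B, x * y = y * x := by
    intro A B hAB x hx y hy
    have h1 : Subgroup.closure A ≤ Subgroup.centralizer (Subgroup.closure B : Set G) := by
      rw [Subgroup.closure_le, Subgroup.centralizer_closure]
      exact fun t ht => Subgroup.mem_centralizer_iff.mpr fun u hu => (hAB t ht u hu).symm.eq
    exact (Subgroup.mem_centralizer_iff.mp (h1 hx) y hy).symm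
  have h12 := comm_closure (A := ({a, d} : Set G)) (B := ({b, c} : Set G)) (by
    rintro x (rfl | rfl) y (rfl | rfl) <;> assumption)
  have ctr : ∀ {p q : G}, p ∈ D → q ∈ D → ¬ Commute p q →
      ∀ x ∈ Subgroup.closure ({p, q} : Set G), Commute x p → Commute x q → x = 1 := by
    intro p q hp hq hn x hx xp xq
    obtain ⟨e⟩ := h.data.core.pairClosure_equiv hp hq hn
    have center3 : ∀ u : Equiv.Perm (Fin 3), (∀ v, u * v = v * u) → u = 1 := by decide
    have hc' := comm_closure (A := ({x} : Set G)) (B := ({p, q} : Set G)) (by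
      rintro t rfl y (rfl | rfl) <;> assumption)
    have hu := center3 (e ⟨x, hx⟩) fun v => e.symm.injective (by
      rw [map_mul, map_mul, e.symm_apply_apply]
      exact Subtype.ext (hc' x (Subgroup.subset_closure rfl) _ (e.symm v).2))
    exact congrArg Subtype.val (e.injective (hu.trans (map_one e).symm))
  have hd12 : S1 ⊓ S2 = ⊥ := by
    rw [eq_bot_iff]
    intro x hx
    rw [Subgroup.mem_bot]
    exact ctr hb.1 hc.1 hbc x hx.2 (h12 x hx.1 b (Subgroup.subset_closure (by simp)))
      (h12 x hx.1 c (Subgroup.subset_closure (by simp)))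
  have hsup : T = S1 ⊔ S2 := by
    rw [hT, hS1, hS2, ← Subgroup.closure_union]
    congr 1
    ext x
    simp
    tauto
  have hTcard : Nat.card T = 36 := by
    rw [hsup, H41.card_sup_of_commute S1 S2 h12 hd12, hS1, hS2,
      h.data.core.pairClosure_card ha.1 hd.1 had, h.data.core.pairClosure_card hb.1 hc.1 hbc]
  have hcomm : ∀ x ∈ K ⊓ Subgroup.normalizer (X : Set G), ∀ y ∈ T, x * y = y * x := fun x hx y hy => by
    have := hx.1
    rw [hK] at this
    exact (Subgroup.mem_centralizer_iff.mp this y hy).symm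
  have hbot : (K ⊓ Subgroup.normalizer (X : Set G)) ⊓ T = ⊥ := by
    rw [eq_bot_iff]
    intro x hx
    rw [Subgroup.mem_bot]
    have hxT : x ∈ T := hx.2
    have hxc : ∀ t ∈ T, Commute x t := fun t ht => hcomm x hx.1 t ht
    have hxT' := hxT
    rw [hsup] at hxT'
    obtain ⟨p, hp, q, hq, rfl⟩ : ∃ p ∈ S1, ∃ q ∈ S2, p * q = x := by
      let f : ↥S1 × ↥S2 →* G := MonoidHom.noncommCoprod S1.subtype S2.subtype
        fun u v => h12 u.1 u.2 v.1 v.2
      have hr : f.range = S1 ⊔ S2 :=
        (MonoidHom.noncommCoprod_range S1.subtype S2.subtype _).trans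
          (by rw [Subgroup.range_subtype, Subgroup.range_subtype])
      rw [← hr] at hxT'
      obtain ⟨⟨u, v⟩, e⟩ := hxT'
      exact ⟨u.1, u.2, v.1, v.2, e⟩
    have m1 : ∀ t ∈ ({a, d} : Set G), Commute p t := fun t ht => by
      have hc1 : Commute (p * q) t := hxc t (hsup ▸ Subgroup.mem_sup_left (Subgroup.subset_closure ht))
      have hq' : Commute q t := (h12 t (Subgroup.subset_closure ht) q hq).symm
      have := hc1.mul_left hq'.inv_left
      rwa [mul_inv_cancel_right] at this
    have p1 : p = 1 := ctr ha.1 hd.1 had p hp (m1 a (by simp)) (m1 d (by simp))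
    subst p1
    rw [one_mul] at hxc ⊢
    exact ctr hb.1 hc.1 hbc q hq (hxc b (hsup ▸ Subgroup.mem_sup_right (Subgroup.subset_closure (by simp))))
      (hxc c (hsup ▸ Subgroup.mem_sup_right (Subgroup.subset_closure (by simp))))
  have hcard := H41.card_sup_of_commute (K ⊓ Subgroup.normalizer (X : Set G)) T hcomm hbot
  rw [hTcard, hK', (card_cap h hX ha hb hc hd had hbc hab hac hdb hdc).1, ← hK'] at hcard
  have hle : (K ⊓ Subgroup.normalizer (X : Set G)) ⊔ T ≤ Subgroup.normalizer (X : Set G) := by
    refine sup_le inf_le_right (hT.trans_le ?_)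
    rw [Subgroup.closure_le]
    rintro t (rfl | rfl | rfl | rfl)
    exacts [Geo22.cent_le_normalizer ha.2, Geo22.cent_le_normalizer hb.2,
      Geo22.cent_le_normalizer hc.2, Geo22.cent_le_normalizer hd.2]
  have := Subgroup.card_mul_index
    (((K ⊓ Subgroup.normalizer (X : Set G)) ⊔ T).subgroupOf (Subgroup.normalizer (X : Set G)))
  rw [Nat.card_congr (Subgroup.subgroupOfEquivOfLe hle).toEquiv, hcard, card_normalizer h hX] at this
  omega

end Frame

end Cfsg.Agent.H89.Thirteen24
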